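import Cfsg.Agent.Lib.Root.SM
import Cfsg.Agent.Lib.Chev.SL2

set_option autoImplicit false
set_option linter.unusedSectionVars false
set_option linter.style.haveILetI false

/-! `SL₂` as a rank one group; recognition of `SL₂(p)`. -/

namespace Cfsg.Agent.Root

open Cfsg Matrix

section
variable {k : Type*} [Field k]

/-- upper unitriangular -/
def xU (t : k) : SpecialLinearGroup (Fin 2) k := ⟨!![1, t; 0, 1], by simp⟩
/-- lower unitriangular -/
def xL (t : k) : SpecialLinearGroup (Fin 2) k := ⟨!![1, 0; t, 1], by simp⟩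

@[simp] theorem xU_coe (t : k) : (xU t : Matrix (Fin 2) (Fin 2) k) = !![1, t; 0, 1] := rfl
@[simp] theorem xL_coe (t : k) : (xL t : Matrix (Fin 2) (Fin 2) k) = !![1, 0; t, 1] := rfl
theorem xU_add (s t : k) : xU s * xU t = xU (s + t) := by ext i j; fin_cases i <;> fin_cases j <;> simp [add_comm]
theorem xL_add (s t : k) : xL s * xL t = xL (s + t) := by ext i j; fin_cases i <;> fin_cases j <;> simp
@[simp] theorem xU_zero : xU (0 : k) = 1 := by ext i j; fin_cases i <;> fin_cases j <;> simp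
@[simp] theorem xL_zero : xL (0 : k) = 1 := by ext i j; fin_cases i <;> fin_cases j <;> simp
theorem xU_inv (t : k) : (xU t)⁻¹ = xU (-t) := inv_eq_of_mul_eq_one_right (by simp [xU_add])
theorem xL_inv (t : k) : (xL t)⁻¹ = xL (-t) := inv_eq_of_mul_eq_one_right (by simp [xL_add])
theorem xU_inj {s t : k} (e : xU s = xU t) : s = t := by simpa using congrArg (fun g : SpecialLinearGroup (Fin 2) k => g 0 1) e
theorem xL_inj {s t : k} (e : xL s = xL t) : s = t := by simpa using congrArg (fun g : SpecialLinearGroup (Fin 2) k => g 1 0) e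

theorem mem_closure_range {G : Type*} [Group G] {A : Type*} [AddGroup A] {x : A → G} (h : ∀ s t, x s * x t = x (s + t))
    {g : G} : g ∈ Subgroup.closure (Set.range x) ↔ ∃ t, g = x t := by
  have h0 : x 0 = 1 := by simpa using h 0 0
  refine ⟨fun hg => ?_, fun ⟨t, e⟩ => Subgroup.subset_closure ⟨t, e.symm⟩⟩
  induction hg using Subgroup.closure_induction with
  | mem _ hx => obtain ⟨t, rfl⟩ := hx; exact ⟨t, rfl⟩
  | one => exact ⟨0, h0.symm⟩
  | mul _ _ _ _ a b => obtain ⟨s, rfl⟩ := a; obtain ⟨t, rfl⟩ := b; exact ⟨_, h s t⟩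
  | inv _ _ a => obtain ⟨s, rfl⟩ := a; exact ⟨-s, inv_eq_of_mul_eq_one_right (by rw [h, add_neg_cancel, h0])⟩

theorem upper_eq : upperUnipotentSL2 k = Subgroup.closure (Set.range xU) := by
  unfold upperUnipotentSL2; congr 1; ext g
  constructor
  · rintro ⟨h1, h2, h3⟩
    exact ⟨g 0 1, by ext i j; fin_cases i <;> fin_cases j <;> simp [h1, h2, h3]⟩
  · rintro ⟨t, rfl⟩; simp

theorem lower_eq : lowerUnipotentSL2 k = Subgroup.closure (Set.range xL) := by
  unfold lowerUnipotentSL2; congr 1; ext g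
  constructor
  · rintro ⟨h1, h2, h3⟩
    exact ⟨g 1 0, by ext i j; fin_cases i <;> fin_cases j <;> simp [h1, h2, h3]⟩
  · rintro ⟨t, rfl⟩; simp

theorem mem_upper {g : SpecialLinearGroup (Fin 2) k} : g ∈ upperUnipotentSL2 k ↔ ∃ t, g = xU t := by
  rw [upper_eq]; exact mem_closure_range (A := k) (x := fun t => xU t) fun s t => xU_add s t
theorem mem_lower {g : SpecialLinearGroup (Fin 2) k} : g ∈ lowerUnipotentSL2 k ↔ ∃ t, g = xL t := by
  rw [lower_eq]; exact mem_closure_range (A := k) (x := fun t => xL t) fun s t => xL_add s t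

theorem upper_cm : Cm (upperUnipotentSL2 k) (upperUnipotentSL2 k) := by
  intro a ha b hb
  obtain ⟨s, rfl⟩ := mem_upper.1 ha
  obtain ⟨t, rfl⟩ := mem_upper.1 hb
  rw [xU_add, xU_add, add_comm]
theorem lower_cm : Cm (lowerUnipotentSL2 k) (lowerUnipotentSL2 k) := by
  intro a ha b hb
  obtain ⟨s, rfl⟩ := mem_lower.1 ha
  obtain ⟨t, rfl⟩ := mem_lower.1 hb
  rw [xL_add, xL_add, add_comm]

theorem sl2_sup : upperUnipotentSL2 k ⊔ lowerUnipotentSL2 k = ⊤ :=
  Chev.sl2_eq_top fun g t h => h.elim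
    (fun e => Subgroup.mem_sup_left (mem_upper.2 ⟨t, Subtype.ext e⟩))
    (fun e => Subgroup.mem_sup_right (mem_lower.2 ⟨t, Subtype.ext e⟩))

theorem Cm.nilpotent {G : Type*} [Group G] {A : Subgroup G} (h : Cm A A) : Group.IsNilpotent A := by
  haveI := cm_self.2 h
  letI : CommGroup A := { (inferInstance : Group A) with mul_comm := fun a b => Subtype.ext (h a a.2 b b.2) }
  infer_instance

theorem sl2_conj {t : k} (ht : t ≠ 0) : xL t⁻¹ • upperUnipotentSL2 k = xU t • lowerUnipotentSL2 k := by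
  have key : ∀ s : k, xL t⁻¹ * xU s * (xL t⁻¹)⁻¹ = xU t * xL (-s / t ^ 2) * (xU t)⁻¹ := fun s => by
    rw [xL_inv, xU_inv]
    ext i j; fin_cases i <;> fin_cases j <;> simp <;> field_simp <;> ring
  ext g
  constructor
  · intro hg
    obtain ⟨_, h, rfl⟩ := exists_of_mem_smul hg
    obtain ⟨s, rfl⟩ := mem_upper.1 h
    rw [key]; exact conj_mem (mem_lower.2 ⟨_, rfl⟩) _
  · intro hg
    obtain ⟨_, h, rfl⟩ := exists_of_mem_smul hg
    obtain ⟨s, rfl⟩ := mem_lower.1 h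
    rw [show s = -(-s * t ^ 2) / t ^ 2 by field_simp, ← key]; exact conj_mem (mem_upper.2 ⟨_, rfl⟩) _

theorem sl2_r1 : R1 (upperUnipotentSL2 k) (lowerUnipotentSL2 k) := by
  refine ⟨fun e => ?_, upper_cm.nilpotent, lower_cm.nilpotent, fun a ha h1 => ?_, fun a ha h1 => ?_⟩
  · obtain ⟨t, ht⟩ := mem_lower.1 (e ▸ mem_upper.2 ⟨1, rfl⟩ : xU (1 : k) ∈ lowerUnipotentSL2 k)
    simpa using congrArg (fun g : SpecialLinearGroup (Fin 2) k => g 0 1) ht
  · obtain ⟨t, rfl⟩ := mem_upper.1 ha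
    have ht : t ≠ 0 := by rintro rfl; simp at h1
    refine ⟨xL t⁻¹, mem_lower.2 ⟨_, rfl⟩, fun e => inv_ne_zero ht (xL_inj (e.trans xL_zero.symm)), ?_⟩
    rw [xL_inv, xU_inv, ← inv_neg]; exact sl2_conj (neg_ne_zero.2 ht)
  · obtain ⟨t, rfl⟩ := mem_lower.1 ha
    have ht : t ≠ 0 := by rintro rfl; simp at h1
    refine ⟨xU t⁻¹, mem_upper.2 ⟨_, rfl⟩, fun e => inv_ne_zero ht (xU_inj (e.trans xU_zero.symm)), ?_⟩
    have := sl2_conj (neg_ne_zero.2 (inv_ne_zero ht))
    rw [inv_neg, inv_inv] at this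
    rw [xL_inv, xU_inv]; exact this.symm

theorem sl2_sp : Sp (upperUnipotentSL2 k) (lowerUnipotentSL2 k) := sl2_r1.special_of_inv fun a ha h1 y hy e => by
  obtain ⟨t, rfl⟩ := mem_upper.1 ha
  have ht : t ≠ 0 := by rintro rfl; simp at h1
  rw [xU_inv, ← sl2_conj (neg_ne_zero.2 ht)] at e
  rw [sl2_r1.symm.inj hy (mem_lower.2 ⟨_, rfl⟩) e, xL_inv, inv_neg, neg_neg, sl2_conj ht]

variable {G : Type*} [Group G]

theorem psl2_sp {A B : Subgroup G} (h : IsPSL2PairOver k A B) : Sp A B := by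
  obtain ⟨φ, -, hk, rfl, rfl⟩ := h
  refine sl2_sp.map φ fun e => ?_
  obtain ⟨y, hy, e'⟩ := (e ▸ Subgroup.mem_map_of_mem φ (mem_upper.2 ⟨1, rfl⟩) : φ (xU 1) ∈ (lowerUnipotentSL2 k).map φ)
  have : y⁻¹ * xU 1 ∈ φ.ker := by rw [MonoidHom.mem_ker, map_mul, map_inv, e', inv_mul_cancel]
  have h1 := sl2_r1.eq_one (mem_upper.2 ⟨(1 : k), rfl⟩) (by
    rw [show xU (1 : k) = y * (y⁻¹ * xU 1) by group, mul_smul,
      smul_eq_of_comm fun x _ => (Subgroup.mem_center_iff.1 (hk this) x).symm, smul_of_mem hy])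
  exact one_ne_zero (xU_inj (h1.trans xU_zero.symm))

theorem psl2_of_hom (φ : SpecialLinearGroup (Fin 2) k →* G)
    (hne : ¬ Cm ((upperUnipotentSL2 k).map φ) ((lowerUnipotentSL2 k).map φ)) :
    IsPSL2PairOver k ((upperUnipotentSL2 k).map φ) ((lowerUnipotentSL2 k).map φ) := by
  refine ⟨φ, by rw [← Subgroup.map_sup, sl2_sup, MonoidHom.range_eq_map], ?_, rfl, rfl⟩
  refine (sl2_r1.normal_or_top sl2_sup φ.ker inferInstance).resolve_left fun e => hne ?_
  have : (lowerUnipotentSL2 k).map φ ≤ (upperUnipotentSL2 k).map φ := by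
    have := Subgroup.map_mono (f := φ) (le_top.trans e.ge : lowerUnipotentSL2 k ≤ _)
    rwa [Subgroup.map_sup, (Subgroup.map_eq_bot_iff _).2 le_rfl, bot_sup_eq] at this
  refine Cm.mono ?_ le_rfl this
  rintro _ ⟨a, ha, rfl⟩ _ ⟨b, hb, rfl⟩
  rw [← map_mul, upper_cm a ha b hb, map_mul]

theorem psl2_iso {A B : Subgroup G} (h : IsPSL2PairOver k A B) :
    Nonempty (↥(A ⊔ B) ≃* SpecialLinearGroup (Fin 2) k) ∨
      (Nonempty (↥(A ⊔ B) ≃* ProjectiveSpecialLinearGroup (Fin 2) k) ∧ (2 : k) ≠ 0) := by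
  obtain ⟨φ, hr, hk, -, -⟩ := h
  rw [← hr]
  by_cases e : φ.ker = ⊥
  · exact Or.inl ⟨(φ.ofInjective ((MonoidHom.ker_eq_bot_iff _).1 e)).symm⟩
  right
  have hc : ∀ g ∈ Subgroup.center (SpecialLinearGroup (Fin 2) k), g = 1 ∨ g = -1 := fun g hg => by
    obtain ⟨r, h1, h2⟩ := Matrix.SpecialLinearGroup.mem_center_iff.1 hg
    rw [Fintype.card_fin, sq_eq_one_iff] at h1
    rcases h1 with rfl | rfl
    · left; ext i j; rw [← h2]; simp
    · right; ext i j; rw [← h2]; fin_cases i <;> fin_cases j <;> simp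
  obtain ⟨⟨g, hg⟩, h1⟩ := Subgroup.ne_bot_iff_exists_ne_one.1 e
  have g1 : g ≠ 1 := fun e => h1 (Subtype.ext e)
  have g2 := (hc g (hk hg)).resolve_left g1
  have : φ.ker = Subgroup.center _ := le_antisymm hk fun x hx => (hc x hx).elim (fun e => e ▸ one_mem _)
    fun e => by rw [e, ← g2]; exact hg
  refine ⟨⟨(QuotientGroup.quotientKerEquivRange φ).symm.trans (QuotientGroup.quotientMulEquivOfEq this)⟩, fun e2 => g1 ?_⟩
  rw [g2]
  ext i j
  have : (-1 : k) = 1 := by linear_combination -e2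
  fin_cases i <;> fin_cases j <;> simp [this]

theorem psl2_of_rk1 (A : Chev.Rk1 k G) (hm : ∀ t u, A.h t * A.h u = A.h (t * u))
    (hne : ¬ Cm (Subgroup.closure (Set.range A.x)) (Subgroup.closure (Set.range A.y))) :
    IsPSL2PairOver k (Subgroup.closure (Set.range A.x)) (Subgroup.closure (Set.range A.y)) := by
  obtain ⟨φ, hφ⟩ := A.exists_hom hm
  have e1 : (upperUnipotentSL2 k).map φ = Subgroup.closure (Set.range A.x) := by
    rw [upper_eq, MonoidHom.map_closure, ← Set.range_comp]; congr 2; ext t; exact (hφ _ t).1 rfl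
  have e2 : (lowerUnipotentSL2 k).map φ = Subgroup.closure (Set.range A.y) := by
    rw [lower_eq, MonoidHom.map_closure, ← Set.range_comp]; congr 2; ext t; exact (hφ _ t).2 rfl
  rw [← e1, ← e2] at hne ⊢
  exact psl2_of_hom φ hne

theorem rk1_hm [Finite k] (A : Chev.Rk1 k G) (t u : kˣ) : A.h t * A.h u = A.h (t * u) := by
  refine A.h_mul_of_finite (fun t u => ?_) t u
  rintro _ ⟨v, rfl⟩
  have key : ∀ g g' x x' : G, g * x = x' * g → g' * x = x' * g' → Commute (g * g'⁻¹) x' := fun g g' x x' e e' => by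
    rw [← mul_inv_eq_iff_eq_mul] at e e'
    calc g * g'⁻¹ * x' = g * g'⁻¹ * (g' * x * g'⁻¹) := by rw [e']
      _ = g * x * g⁻¹ * (g * g'⁻¹) := by group
      _ = _ := by rw [e]
  have hx : ∀ s, Commute (A.h t * A.h u * (A.h (t * u))⁻¹) (A.x s) := fun s => by
    refine key _ _ (A.x (((t : k) * u)⁻¹ ^ 2 * s)) _ ?_ ?_
    · rw [mul_assoc, A.h_x, ← mul_assoc, A.h_x, mul_assoc (A.x _)]; congr 2; field_simp
    · rw [A.h_x]; congr 2; push_cast; field_simp
  have hy : ∀ s, Commute (A.h t * A.h u * (A.h (t * u))⁻¹) (A.y s) := fun s => by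
    refine key _ _ (A.y (((t : k) * u) ^ 2 * s)) _ ?_ ?_
    · rw [mul_assoc, A.h_y, ← mul_assoc, A.h_y, mul_assoc (A.y _)]; congr 2; field_simp
    · rw [A.h_y]; congr 2; push_cast; field_simp
  unfold Chev.Rk1.h Chev.Rk1.n at *
  exact (((hx _).mul_right (hy _)).mul_right (hx _)).mul_right (((hx _).mul_right (hy _)).mul_right (hx _))

end

end Cfsg.Agent.Root
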