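import Cfsg.Agent.Lib.Root.Spec

set_option autoImplicit false
set_option linter.unusedSectionVars false
set_option linter.style.haveILetI false

/-! Sets of abstract root subgroups: pairs, lines, triples. -/

namespace Cfsg.Agent.Root

open Cfsg

variable {G : Type*} [Group G]

theorem mem_sup_of_norm {A B : Subgroup G} (h : ∀ a ∈ A, a • B = B) {x : G} :
    x ∈ A ⊔ B ↔ ∃ a ∈ A, ∃ b ∈ B, x = a * b := by
  have := Subgroup.coe_mul_of_left_le_normalizer_right A B fun a ha => smul_eq_iff.1 (h a ha)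
  rw [← SetLike.mem_coe, this]
  exact ⟨fun ⟨a, ha, b, hb, e⟩ => ⟨a, ha, b, hb, e.symm⟩, fun ⟨a, ha, b, hb, e⟩ => ⟨a, ha, b, hb, e.symm⟩⟩

theorem Cm.mem_sup {A B : Subgroup G} (h : Cm A B) {x : G} : x ∈ A ⊔ B ↔ ∃ a ∈ A, ∃ b ∈ B, x = a * b :=
  mem_sup_of_norm fun _ ha => h.smul_eq ha

theorem cmt_mem {A B : Subgroup G} {a b : G} (ha : a ∈ A) (hb : b ∈ B) : a * b * a⁻¹ * b⁻¹ ∈ ⁅A, B⁆ :=
  Subgroup.commutator_mem_commutator ha hb

theorem cmt_le_sup (A B : Subgroup G) : ⁅A, B⁆ ≤ A ⊔ B := Subgroup.commutator_le.2 fun a ha b hb =>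
  Subgroup.mul_mem _ (Subgroup.mul_mem _ (Subgroup.mul_mem_sup ha hb) (Subgroup.mem_sup_left (A.inv_mem ha)))
    (Subgroup.mem_sup_right (B.inv_mem hb))

/-- the commutator case -/
abbrev T3 (S : Set (Subgroup G)) (A B : Subgroup G) : Prop := RootCommutatorCase S A B

namespace T3
variable {S : Set (Subgroup G)} {A B : Subgroup G} (h : T3 S A B)
include h

theorem mem : ⁅A, B⁆ ∈ S := h.1
theorem cmA : Cm ⁅A, B⁆ A := fun c hc a ha => h.2.1 c hc a (Subgroup.mem_sup_left ha)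
theorem cmB : Cm ⁅A, B⁆ B := fun c hc a ha => h.2.1 c hc a (Subgroup.mem_sup_right ha)

theorem symm : T3 S B A := by
  have key : ∀ (K : Subgroup G) (f g : G → G), (∀ x, f x = (g x)⁻¹) →
      Subgroup.closure (f '' (K : Set G)) = Subgroup.closure (g '' (K : Set G)) := fun K f g e => by
    rw [← Subgroup.closure_inv, ← Set.image_inv_eq_inv, Set.image_image]; simp [e]
  refine ⟨Subgroup.commutator_comm A B ▸ h.1, ?_, fun b hb h1 => ?_, fun a ha h1 => ?_⟩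
  · rw [Subgroup.commutator_comm, sup_comm]; exact h.2.1
  · rw [Subgroup.commutator_comm, ← h.2.2.2 b hb h1]; exact key _ _ _ fun x => by group
  · rw [Subgroup.commutator_comm, ← h.2.2.1 a ha h1]; exact key _ _ _ fun x => by group

theorem cmt_mul {a b b' : G} (ha : a ∈ A) (hb : b ∈ B) (hb' : b' ∈ B) :
    a * (b * b') * a⁻¹ * (b * b')⁻¹ = (a * b * a⁻¹ * b⁻¹) * (a * b' * a⁻¹ * b'⁻¹) := by
  have := h.cmB _ (cmt_mem ha hb') b hb
  calc _ = (a * b * a⁻¹ * b⁻¹) * (b * (a * b' * a⁻¹ * b'⁻¹)) * b⁻¹ := by group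
    _ = _ := by rw [← this]; group

theorem ex {a c : G} (ha : a ∈ A) (h1 : a ≠ 1) (hc : c ∈ ⁅A, B⁆) : ∃ b ∈ B, c = a * b * a⁻¹ * b⁻¹ := by
  rw [← h.2.2.1 a ha h1] at hc
  induction hc using Subgroup.closure_induction with
  | mem _ hx => obtain ⟨b, hb, rfl⟩ := hx; exact ⟨b, hb, rfl⟩
  | one => exact ⟨1, B.one_mem, by simp⟩
  | mul _ _ _ _ p q =>
    obtain ⟨b, hb, rfl⟩ := p; obtain ⟨b', hb', rfl⟩ := q
    exact ⟨_, B.mul_mem hb hb', (h.cmt_mul ha hb hb').symm⟩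
  | inv _ _ p =>
    obtain ⟨b, hb, rfl⟩ := p
    exact ⟨b⁻¹, B.inv_mem hb, inv_eq_of_mul_eq_one_right (by rw [← h.cmt_mul ha hb (B.inv_mem hb)]; simp)⟩

theorem ex' {a c : G} (ha : a ∈ A) (h1 : a ≠ 1) (hc : c ∈ ⁅A, B⁆) : ∃ b ∈ B, b * a * b⁻¹ = a * c := by
  obtain ⟨b, hb, e⟩ := h.ex ha h1 (Subgroup.inv_mem _ hc)
  exact ⟨b, hb, by rw [← h.cmA c hc a ha, ← inv_inv c, e]; group⟩

theorem conj_eq {a b : G} (ha : a ∈ A) (hb : b ∈ B) : ∃ c ∈ ⁅A, B⁆, b * a * b⁻¹ = a * c :=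
  ⟨_, cmt_mem (A.inv_mem ha) hb, by group⟩

theorem smul_le_sup {b : G} (hb : b ∈ B) : b • A ≤ A ⊔ ⁅A, B⁆ := fun x hx => by
  obtain ⟨a, ha, rfl⟩ := exists_of_mem_smul hx
  obtain ⟨c, hc, e⟩ := h.conj_eq ha hb
  rw [e]; exact Subgroup.mul_mem_sup ha hc

theorem sup_smul {b : G} (hb : b ∈ B) (h1 : b ≠ 1) : A ⊔ b • A = A ⊔ ⁅A, B⁆ := by
  refine le_antisymm (sup_le le_sup_left (h.smul_le_sup hb)) (sup_le le_sup_left fun c hc => ?_)
  obtain ⟨a, ha, rfl⟩ := h.symm.ex hb h1 (Subgroup.commutator_comm A B ▸ hc)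
  rw [sup_comm]; exact Subgroup.mul_mem_sup (conj_mem ha b) (A.inv_mem ha)

theorem smul_line {x : G} (hx : x ∈ A ⊔ B) : x • (A ⊔ ⁅A, B⁆) = A ⊔ ⁅A, B⁆ := by
  refine smul_of_sup (fun a ha => smul_of_mem (Subgroup.mem_sup_left ha)) (fun b hb => ?_) x hx
  have k : ∀ b ∈ B, b • (A ⊔ ⁅A, B⁆) ≤ A ⊔ ⁅A, B⁆ := fun b hb => by
    rw [smul_sup, h.cmB.symm.smul_eq hb]; exact sup_le (h.smul_le_sup hb) le_sup_right
  refine le_antisymm (k b hb) ?_
  have := smul_mono (k _ (B.inv_mem hb)) b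
  rwa [smul_inv_smul] at this

end T3

/-- sets of abstract root subgroups -/
abbrev AR (S : Set (Subgroup G)) : Prop := IsRootSubgroupSet S

/-- non-isolated members -/
def NI (S : Set (Subgroup G)) (A : Subgroup G) : Prop := ∃ D ∈ S, R1 A D

theorem ni_iff {S : Set (Subgroup G)} {A : Subgroup G} (hA : A ∈ S) : ¬ IsIsolatedIn (FAdj S) S A ↔ NI S A := by
  constructor
  · intro h
    by_contra hc
    exact h ⟨hA, fun B => ⟨fun h => hc ⟨B, h.2.1, h.2.2⟩, fun h => hc ⟨B, h.1, R1.symm h.2.2⟩⟩⟩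
  · rintro ⟨D, hD, r⟩ h
    exact (h.2 D).1 ⟨hA, hD, r⟩

namespace AR
variable {S : Set (Subgroup G)} (h : AR S)
include h

theorem cm {A : Subgroup G} (hA : A ∈ S) : Cm A A := cm_self.1 (h.commutative A hA)
theorem smul {A : Subgroup G} (hA : A ∈ S) (g : G) : g • A ∈ S := h.conj_mem A hA g
theorem exists_ne {A : Subgroup G} (hA : A ∈ S) : ∃ a ∈ A, a ≠ 1 := by
  obtain ⟨⟨a, ha⟩, h1⟩ := Subgroup.ne_bot_iff_exists_ne_one.1 (h.ne_bot A hA)
  exact ⟨a, ha, fun e => h1 (Subtype.ext e)⟩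
theorem tri {A B : Subgroup G} (hA : A ∈ S) (hB : B ∈ S) : Cm A B ∨ R1 A B ∨ T3 S A B :=
  (h.pair A hA B hB).imp_left cm_iff.1
theorem Om_mem {A B C : Subgroup G} (hA : A ∈ S) (hC : C ∈ Om A B) : C ∈ S := by
  obtain ⟨x, -, rfl⟩ := hC; exact h.smul hA x
theorem ni_smul {A : Subgroup G} (n : NI S A) (g : G) : NI S (g • A) :=
  let ⟨D, hD, r⟩ := n; ⟨_, h.smul hD g, r.smul g⟩

theorem t3_ne {A B : Subgroup G} (t : T3 S A B) : ¬ Cm A B := fun c => h.ne_bot _ t.mem (cm_iff.2 c)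

theorem t3_cm {A B : Subgroup G} (hA : A ∈ S) (t : T3 S A B) : Cm (A ⊔ ⁅A, B⁆) (A ⊔ ⁅A, B⁆) :=
  ((h.cm hA).sup t.cmA).sup' (t.cmA.symm.sup (h.cm t.mem))

theorem t3_cm_smul {A B : Subgroup G} (hA : A ∈ S) (t : T3 S A B) {b : G} (hb : b ∈ B) : Cm A (b • A) :=
  (h.t3_cm hA t).mono le_sup_left (t.smul_le_sup hb)

theorem t3_not_r1 {A B : Subgroup G} (hA : A ∈ S) (t : T3 S A B) : ¬ R1 A B := fun r => by
  obtain ⟨b, hb, h1⟩ := r.symm.exists_ne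
  exact (r.symm.r1_smul hb h1).not_cm (h.t3_cm_smul hA t hb)

theorem cm_smul_of_not {A D : Subgroup G} (hA : A ∈ S) (hD : D ∈ S) (n : ¬ R1 A D) {a : G} (ha : a ∈ A) :
    Cm D (a • D) := by
  rcases h.tri hA hD with c | r | t
  · rw [c.smul_eq ha]; exact h.cm hD
  · exact absurd r n
  · exact h.t3_cm_smul hD t.symm ha

theorem r1_of {A D : Subgroup G} (hA : A ∈ S) (hD : D ∈ S) {a : G} (ha : a ∈ A) (r : R1 D (a • D)) : R1 A D := by
  by_contra n; exact r.not_cm (h.cm_smul_of_not hA hD n ha)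

theorem t3_of_mem {A B : Subgroup G} (hA : A ∈ S) (hB : B ∈ S) (hC : ⁅A, B⁆ ∈ S) : T3 S A B := by
  rcases h.tri hA hB with c | r | t
  · exact absurd (cm_iff.2 c) (h.ne_bot _ hC)
  · exfalso
    have n : ∀ x ∈ A ⊔ B, x • ⁅A, B⁆ = ⁅A, B⁆ := fun x hx => by
      refine smul_of_sup (fun a ha => ?_) (fun b hb => ?_) x hx
      · exact smul_eq_iff.2 (Subgroup.normalizer_commutator_ge_left _ _ ha)
      · exact smul_eq_iff.2 (Subgroup.normalizer_commutator_ge_right _ _ hb)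
    have k : ∀ {A B : Subgroup G}, A ∈ S → ⁅A, B⁆ ∈ S → R1 A B → (∀ x ∈ A, x • ⁅A, B⁆ = ⁅A, B⁆) →
        ∀ b ∈ ⁅A, B⁆ ⊔ A, Cm A (b • A) := fun {A B} hA hC r n b hb => by
      rw [sup_comm] at hb
      obtain ⟨a, ha, c, hc, rfl⟩ := (mem_sup_of_norm n).1 hb
      have r' : ¬ R1 ⁅A, B⁆ A := fun r' => by
        obtain ⟨a, ha, h1⟩ := r.exists_ne
        exact h1 (r'.symm.eq_one ha (n a ha))
      have := (h.cm_smul_of_not hC hA r' hc).smul a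
      rwa [smul_of_mem ha, ← mul_smul] at this
    obtain ⟨b, hb, h1⟩ := r.symm.exists_ne
    rcases r.normal_or n (cmt_le_sup A B) with e | e
    · exact (r.symm.r1_smul hb h1).not_cm (k hA hC r (fun x hx => n x (Subgroup.mem_sup_left hx)) b (e hb))
    · refine (r.symm.r1_smul hb h1).not_cm fun a ha x hx => ?_
      obtain ⟨a', ha', rfl⟩ := exists_of_mem_smul hx
      have := e _ (cmt_mem (A.inv_mem ha') hb) a (Subgroup.mem_sup_left ha)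
      rw [show b * a' * b⁻¹ = a' * (a'⁻¹ * b * a'⁻¹⁻¹ * b⁻¹) by group, ← mul_assoc, h.cm hA a ha a' ha', mul_assoc, ← this,
        ← mul_assoc]
  · exact t

theorem t3_smul {A B : Subgroup G} (hA : A ∈ S) (hB : B ∈ S) (t : T3 S A B) (g : G) : T3 S (g • A) (g • B) :=
  h.t3_of_mem (h.smul hA g) (h.smul hB g) (smul_cmt g A B ▸ h.smul t.mem g)

omit h in
theorem mem_Om_of {A D E : Subgroup G} (r : R1 A D) (r' : R1 E D) {a e : G} (ha : a ∈ A) (he : e ∈ E) (h1 : e ≠ 1)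
    (q : a • D = e • D) : E ∈ Om A D := by
  obtain ⟨d, hd, -, q'⟩ := r'.ex he h1
  rw [(eq_inv_smul_iff.2 (q'.trans q.symm) : E = d⁻¹ • a • D)]
  exact R1.smul_mem (R1.smul_mem r.right_mem (Subgroup.mem_sup_left ha)) (Subgroup.mem_sup_right (D.inv_mem hd))

/-- trivial intersections -/
theorem ti {A B : Subgroup G} (n : NI S A) (hB : B ∈ S) {a : G} (ha : a ∈ A) (hb : a ∈ B) (h1 : a ≠ 1) : A = B := by
  obtain ⟨D, hD, r⟩ := n
  exact r.eq_of_mem r.left_mem (mem_Om_of r (h.r1_of hB hD hb (r.r1_smul ha h1)) ha hb h1 rfl) h1 ha (smul_of_mem hb)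

/-- no central shifts of root elements -/
theorem no_shift {A B E : Subgroup G} (hB : B ∈ S) (r : R1 A B) (c : Cm A A) {z a : G} (hzA : ∀ x ∈ A, z * x = x * z)
    (hzB : ∀ x ∈ B, z * x = x * z) (ha : a ∈ A) (h1 : a ≠ 1) (hE : E ∈ S) (he : z * a ∈ E) : z = 1 := by
  have q : (z * a) • B = a • B := by rw [hzA a ha, mul_smul, smul_eq_of_comm hzB]
  have n1 : z * a ≠ 1 := fun e => h1 (r.eq_one ha (by rw [← q, e, one_smul]))
  have m := mem_Om_of r (h.r1_of hE hB he (q ▸ r.r1_smul ha h1)) ha he n1 q.symm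
  have e := r.eq_of_mem m r.left_mem n1 he (by rw [mul_smul, smul_of_mem ha, smul_eq_of_comm hzA])
  rw [e, A.mul_mem_cancel_right ha] at he
  exact r.eq_one he (smul_eq_of_comm hzB)

theorem line_lemma {U V D : Subgroup G} (hU : U ∈ S) (hV : V ∈ S) (hD : D ∈ S) {u v : G} (hu : u ∈ U) (hv : v ∈ V)
    (r : R1 D ((u * v) • D)) : R1 U D ∨ R1 V D := by
  by_contra hc
  push Not at hc
  have c1 := h.cm_smul_of_not hU hD hc.1 (U.inv_mem hu)
  have c2 := h.cm_smul_of_not hV hD hc.2 hv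
  have r' : R1 (v • D) (u⁻¹ • D) := by simpa [mul_smul] using (r.smul u⁻¹).symm
  refine r'.not_cm ?_
  suffices e : v • D = D by rw [e]; exact c1
  refine smul_eq_of_comm fun d hd => ?_
  by_contra hne
  have d1 : d ≠ 1 := by rintro rfl; simp at hne
  rcases h.tri hV hD with c | r | t
  · exact hne (c v hv d hd)
  · exact hc.2 r
  · have := h.no_shift (h.smul hD _) r' (h.cm (h.smul hD v)) (z := d⁻¹) (c2 _ (D.inv_mem hd)) (c1 _ (D.inv_mem hd))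
      (conj_mem hd v) (by simpa using d1) t.symm.mem (by simpa [mul_assoc] using cmt_mem (D.inv_mem hd) hv)
    exact d1 (inv_eq_one.1 this)

theorem eq_sup_of_le {A B C D : Subgroup G} (hA : A ∈ S) (hB : B ∈ S) (hC : C ∈ S) (r : R1 A B) (r' : R1 C D)
    (hle : A ⊔ B ≤ C ⊔ D) : A ∈ Om C D ∧ B ∈ Om C D := by
  have k : ∀ {A B : Subgroup G}, A ∈ S → R1 A B → A ⊔ B ≤ C ⊔ D → A ∈ Om C D := fun {A B} hA r hle => by
    by_contra hn
    refine r.not_cm fun a ha b hb => r'.comm_of_fix (fun E hE => ?_) b (hle (Subgroup.mem_sup_right hb))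
    have m := hle (Subgroup.mem_sup_left ha)
    by_cases r1 : R1 A E
    · exfalso
      obtain ⟨a, ha, h1⟩ := r.exists_ne
      obtain ⟨e, he, -, q⟩ := r1.ex ha h1
      rw [(eq_inv_smul_iff.2 q : A = e⁻¹ • a • E)] at hn
      exact hn (R1.smul_mem (R1.smul_mem hE (hle (Subgroup.mem_sup_left ha))) (Subgroup.inv_mem _ (R1.le_of_mem hE he)))
    · exact (r'.eq_of_cm hE (R1.smul_mem hE m) (h.cm_smul_of_not hA (h.Om_mem hC hE) r1 ha)).symm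
  exact ⟨k hA r hle, k hB r.symm (sup_comm A B ▸ hle)⟩

section Line
variable {A B : Subgroup G}

theorem t3_ne_cmt (t : T3 S A B) : A ≠ ⁅A, B⁆ := fun e => h.t3_ne t (e ▸ t.cmB)

theorem t3_inj (hA : A ∈ S) (n : NI S A) (t : T3 S A B) {a b : G} (ha : a ∈ A) (h1 : a ≠ 1) (hb : b ∈ B)
    (e : a * b = b * a) : b = 1 := by
  by_contra b1
  have e1 : A = b • A := h.ti n (h.smul hA b) ha (by rw [mem_smul, mul_assoc, e]; simpa using ha) h1
  obtain ⟨c, hc, c1⟩ := h.exists_ne t.mem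
  have := t.sup_smul hb b1
  rw [← e1, sup_idem] at this
  exact h.t3_ne_cmt t (h.ti n t.mem (this ▸ Subgroup.mem_sup_right hc) hc c1)

theorem line_cover (t : T3 S A B) {x : G} (hx : x ∈ A ⊔ ⁅A, B⁆) : x ∈ ⁅A, B⁆ ∨ ∃ b ∈ B, x ∈ b • A := by
  obtain ⟨a, ha, c, hc, rfl⟩ := t.cmA.symm.mem_sup.1 hx
  by_cases h1 : a = 1
  · left; simpa [h1] using hc
  · obtain ⟨b, hb, e⟩ := t.ex' ha h1 hc
    exact Or.inr ⟨b, hb, e ▸ conj_mem ha b⟩

theorem eq_cmt_of_le (hA : A ∈ S) (n : NI S A) (t : T3 S A B) {E : Subgroup G} (hE : E ∈ S) (hle : E ≤ ⁅A, B⁆) :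
    E = ⁅A, B⁆ := by
  obtain ⟨D, hD, r⟩ := n
  obtain ⟨e, he, e1⟩ := h.exists_ne hE
  obtain ⟨a, ha, a1⟩ := h.exists_ne hA
  have nc : ¬ Cm E D := fun c => by
    obtain ⟨b, hb, q⟩ := t.ex' ha a1 (hle he)
    exact e1 (h.no_shift hD r (h.cm hA) (t.cmA e (hle he)) (c e he) ha a1 (h.smul hA b)
      (by rw [t.cmA e (hle he) a ha, ← q]; exact conj_mem ha b))
  rcases h.tri hE hD with c | r1 | t1
  · exact absurd c nc
  · exact h.ti ⟨D, hD, r1⟩ t.mem he (hle he) e1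
  rcases h.tri t.mem hD with c | r2 | t2
  · exact absurd (c.mono hle le_rfl) nc
  · exact (h.ti ⟨D, hD, r2⟩ hE (hle he) he e1).symm
  refine le_antisymm hle fun c hc => ?_
  obtain ⟨d, hd, d1⟩ := h.exists_ne hD
  obtain ⟨c', hc', q⟩ := t2.symm.conj_eq hd hc
  have : c' ∈ ⁅D, E⁆ := by
    obtain ⟨d', hd', rfl⟩ := t2.ex (hle he) e1 (Subgroup.commutator_comm D _ ▸ hc')
    rw [Subgroup.commutator_comm]; exact cmt_mem he hd'
  obtain ⟨e', he', q'⟩ := t1.symm.ex' hd d1 this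
  have := h.t3_inj hD ⟨A, hA, r.symm⟩ t2.symm hd d1 (Subgroup.mul_mem _ (Subgroup.inv_mem _ hc) (hle he')) (by
    rw [← q, mul_inv_eq_iff_eq_mul] at q'
    rw [mul_assoc, q']; group)
  rw [inv_mul_eq_one] at this
  exact this ▸ he'

theorem line_members (hA : A ∈ S) (n : NI S A) (t : T3 S A B) {E : Subgroup G} :
    E ∈ membersIn S (A ⊔ ⁅A, B⁆) ↔ (∃ b ∈ B, E = b • A) ∨ E = ⁅A, B⁆ := by
  constructor
  · rintro ⟨hE, hle⟩
    by_cases hc : E ≤ ⁅A, B⁆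
    · exact Or.inr (h.eq_cmt_of_le hA n t hE hc)
    · obtain ⟨x, hx, hx'⟩ := SetLike.not_le_iff_exists.1 hc
      obtain ⟨b, hb, e⟩ := (h.line_cover t (hle hx)).resolve_left hx'
      exact Or.inl ⟨b, hb, (h.ti (h.ni_smul n b) hE e hx fun e => hx' (e ▸ one_mem _)).symm⟩
  · rintro (⟨b, hb, rfl⟩ | rfl)
    · exact ⟨h.smul hA b, t.smul_le_sup hb⟩
    · exact ⟨t.mem, le_sup_right⟩

theorem line_partition (hA : A ∈ S) (n : NI S A) (t : T3 S A B) :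
    IsSubgroupPartition (A ⊔ ⁅A, B⁆) (membersIn S (A ⊔ ⁅A, B⁆)) := by
  refine ⟨fun C hC => hC.2, fun x hx _ => ?_, fun C hC D hD hne => eq_bot_iff.2 fun x hx => ?_⟩
  · rcases h.line_cover t hx with e | ⟨b, hb, e⟩
    · exact ⟨_, ⟨t.mem, le_sup_right⟩, e⟩
    · exact ⟨_, ⟨h.smul hA b, t.smul_le_sup hb⟩, e⟩
  · by_contra h1
    rcases (h.line_members hA n t).1 hC with ⟨b, -, rfl⟩ | rfl
    · exact hne (h.ti (h.ni_smul n b) hD.1 hx.1 hx.2 h1)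
    rcases (h.line_members hA n t).1 hD with ⟨b, -, rfl⟩ | rfl
    · exact hne (h.ti (h.ni_smul n b) hC.1 hx.2 hx.1 h1).symm
    · exact hne rfl

theorem line_iso (hA : A ∈ S) (n : NI S A) (t : T3 S A B) {a : G} (ha : a ∈ A) (h1 : a ≠ 1) :
    ∃ φ : ↥B ≃* ↥⁅A, B⁆, ∀ b : ↥B, (φ b : G) = a⁻¹ * (b : G)⁻¹ * a * b := by
  have m : ∀ b : B, a⁻¹ * (b : G)⁻¹ * a * b ∈ ⁅A, B⁆ := fun b => by
    simpa using cmt_mem (A.inv_mem ha) (B.inv_mem b.2)
  let f : B →* ↥⁅A, B⁆ := MonoidHom.mk' (fun b => ⟨_, m b⟩) fun b b' => Subtype.ext (by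
    show a⁻¹ * ((b : G) * b')⁻¹ * a * (b * b') = (a⁻¹ * (b : G)⁻¹ * a * b) * (a⁻¹ * (b' : G)⁻¹ * a * b')
    rw [h.cm t.mem _ (m b) _ (m b')]
    simpa using t.cmt_mul (A.inv_mem ha) (B.inv_mem b'.2) (B.inv_mem b.2))
  refine ⟨MulEquiv.ofBijective f ⟨(injective_iff_map_eq_one f).2 fun b hb => Subtype.ext ?_, fun c => ?_⟩, fun b => rfl⟩
  · refine h.t3_inj hA n t ha h1 b.2 ?_
    have : a⁻¹ * (b : G)⁻¹ * a * b = 1 := congrArg Subtype.val hb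
    rw [← mul_one ((b : G) * a), ← this]; group
  · obtain ⟨b, hb, e⟩ := t.ex (A.inv_mem ha) (by simpa using h1) c.2
    exact ⟨⟨b⁻¹, B.inv_mem hb⟩, Subtype.ext (by rw [e]; simp [f])⟩

end Line

end AR

end Cfsg.Agent.Root
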