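import Cfsg.Agent.Lib.Root.ARS

set_option autoImplicit false
set_option linter.unusedSectionVars false
set_option linter.style.haveILetI false

/-! Sets of abstract root subgroups: triples, components, lines. -/

namespace Cfsg.Agent.Root

open Cfsg

variable {G : Type*} [Group G]

/-- class at most two -/
def Cl2 (H : Subgroup G) : Prop := ∀ u ∈ H, ∀ v ∈ H, ∀ w ∈ H, (u * v * u⁻¹ * v⁻¹) * w = w * (u * v * u⁻¹ * v⁻¹)

theorem cl2_iff {H : Subgroup G} : ⁅⁅H, H⁆, H⁆ = ⊥ ↔ Cl2 H := by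
  rw [cm_iff, cm_iff_le, Subgroup.commutator_le]
  exact ⟨fun h u hu v hv w hw => (h u hu v hv w hw).symm, fun h u hu v hv w hw => (h u hu v hv w hw).symm⟩

theorem Cm.cl2 {H : Subgroup G} (h : Cm H H) : Cl2 H := fun u hu v hv w _ => by rw [h u hu v hv]; simp

theorem Cl2.sup {X Y : Subgroup G} (c : Cm X Y) (h1 : Cl2 X) (h2 : Cl2 Y) : Cl2 (X ⊔ Y) := by
  intro u hu v hv
  obtain ⟨a, ha, b, hb, rfl⟩ := c.mem_sup.1 hu
  obtain ⟨a', ha', b', hb', rfl⟩ := c.mem_sup.1 hv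
  have m1 := cmt_le_sup X X (cmt_mem ha ha')
  have m2 := cmt_le_sup Y Y (cmt_mem hb hb')
  rw [sup_idem] at m1 m2
  have e : a * b * (a' * b') * (a * b)⁻¹ * (a' * b')⁻¹ = (a * a' * a⁻¹ * a'⁻¹) * (b * b' * b⁻¹ * b'⁻¹) := by
    have e1 := c a' ha' b hb
    have e2 := c _ (X.mul_mem (X.inv_mem ha) (X.inv_mem ha')) _
      (Y.mul_mem (Y.mul_mem (Y.mul_mem hb hb') (Y.inv_mem hb)) (Y.inv_mem hb'))
    have e3 := c _ (X.inv_mem ha) _ (Y.inv_mem hb')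
    calc _ = a * (b * a') * b' * b⁻¹ * (a⁻¹ * b'⁻¹) * a'⁻¹ := by group
      _ = a * a' * ((b * b' * b⁻¹ * b'⁻¹) * (a⁻¹ * a'⁻¹)) := by rw [← e1, e3]; group
      _ = _ := by rw [← e2]; group
  rw [e]
  refine comm_of_sup (fun w hw => ?_) (fun w hw => ?_)
  · rw [mul_assoc, ← c w hw _ m2, ← mul_assoc, h1 a ha a' ha' w hw, mul_assoc]
  · rw [mul_assoc, h2 b hb b' hb' w hw, ← mul_assoc, c _ m1 w hw, mul_assoc]

theorem T3.cl2 {S : Set (Subgroup G)} {A B : Subgroup G} (t : T3 S A B) (cA : Cm A A) (cB : Cm B B) : Cl2 (A ⊔ B) := by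
  have : ⁅A ⊔ B, A ⊔ B⁆ ≤ ⁅A, B⁆ := by
    have n : ∀ x ∈ A ⊔ B, x • ⁅A, B⁆ = ⁅A, B⁆ := fun x hx => (t.cmA.sup' t.cmB).symm.smul_eq hx
    have k : ∀ x ∈ A ⊔ B, ∀ y ∈ A ⊔ B, x * y * x⁻¹ * y⁻¹ ∈ ⁅A, B⁆ := by
      have k0 : ∀ x ∈ A ⊔ B, (∀ a ∈ A, x * a * x⁻¹ * a⁻¹ ∈ ⁅A, B⁆) → (∀ a ∈ B, x * a * x⁻¹ * a⁻¹ ∈ ⁅A, B⁆) →
          ∀ y ∈ A ⊔ B, x * y * x⁻¹ * y⁻¹ ∈ ⁅A, B⁆ := fun x _ h1 h2 => sup_ind h1 h2 fun y hy z _ p q => by
        rw [show x * (y * z) * x⁻¹ * (y * z)⁻¹ = (x * y * x⁻¹ * y⁻¹) * (y * (x * z * x⁻¹ * z⁻¹) * y⁻¹) by group]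
        exact Subgroup.mul_mem _ p (conj_mem_of_eq (n y hy) q)
      refine sup_ind (fun a ha => k0 a (Subgroup.mem_sup_left ha) (fun b hb => ?_) fun b hb => cmt_mem ha hb)
        (fun a ha => k0 a (Subgroup.mem_sup_right ha) (fun b hb => ?_) fun b hb => ?_) fun x hx y hy p q z hz => ?_
      · rw [cA a ha b hb]; simp
      · rw [Subgroup.commutator_comm]; exact cmt_mem ha hb
      · rw [cB a ha b hb]; simp
      · rw [show x * y * z * (x * y)⁻¹ * z⁻¹ = (x * (y * z * y⁻¹ * z⁻¹) * x⁻¹) * (x * z * x⁻¹ * z⁻¹) by group]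
        exact Subgroup.mul_mem _ (conj_mem_of_eq (n x hx) (q z hz)) (p z hz)
    exact Subgroup.commutator_le.2 k
  exact fun u hu v hv w hw => (t.cmA.sup' t.cmB) _ (this (cmt_mem hu hv)) w hw

/-- the upper central series of a subgroup -/
def Zs (R : Subgroup G) (i : ℕ) : Subgroup G := (Subgroup.upperCentralSeries R i).map R.subtype

theorem Zs_smul {R : Subgroup G} (i : ℕ) {x : G} (hx : x ∈ R) {y : G} (hy : y ∈ Zs R i) : x * y * x⁻¹ ∈ Zs R i := by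
  obtain ⟨y, hy, rfl⟩ := hy
  exact ⟨_, (inferInstance : (Subgroup.upperCentralSeries R i).Normal).conj_mem y hy ⟨x, hx⟩, rfl⟩

theorem mem_Zs_succ {R : Subgroup G} {i : ℕ} {x : G} (hx : x ∈ R) :
    x ∈ Zs R (i + 1) ↔ ∀ y ∈ R, x * y * x⁻¹ * y⁻¹ ∈ Zs R i := by
  constructor
  · rintro ⟨x, hx', rfl⟩ y hy
    exact ⟨_, Subgroup.mem_upperCentralSeries_succ_iff.1 hx' ⟨y, hy⟩, rfl⟩
  · intro h
    refine ⟨⟨x, hx⟩, Subgroup.mem_upperCentralSeries_succ_iff.2 fun y => ?_, rfl⟩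
    obtain ⟨z, hz, e⟩ := h y y.2
    rwa [commutatorElement_def, show (⟨x, hx⟩ : R) * y * ⟨x, hx⟩⁻¹ * y⁻¹ = z from Subtype.ext e.symm]

theorem mem_Zs_sup3 {A B C : Subgroup G} {i : ℕ} {x : G} (hx : x ∈ A ⊔ B ⊔ C)
    (h1 : ∀ y ∈ A, x * y * x⁻¹ * y⁻¹ ∈ Zs (A ⊔ B ⊔ C) i) (h2 : ∀ y ∈ B, x * y * x⁻¹ * y⁻¹ ∈ Zs (A ⊔ B ⊔ C) i)
    (h3 : ∀ y ∈ C, x * y * x⁻¹ * y⁻¹ ∈ Zs (A ⊔ B ⊔ C) i) : x ∈ Zs (A ⊔ B ⊔ C) (i + 1) := by
  have k : ∀ y ∈ A ⊔ B ⊔ C, ∀ z, x * y * x⁻¹ * y⁻¹ ∈ Zs (A ⊔ B ⊔ C) i → x * z * x⁻¹ * z⁻¹ ∈ Zs (A ⊔ B ⊔ C) i →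
      x * (y * z) * x⁻¹ * (y * z)⁻¹ ∈ Zs (A ⊔ B ⊔ C) i := fun y hy z p q => by
    rw [show x * (y * z) * x⁻¹ * (y * z)⁻¹ = (x * y * x⁻¹ * y⁻¹) * (y * (x * z * x⁻¹ * z⁻¹) * y⁻¹) by group]
    exact Subgroup.mul_mem _ p (Zs_smul i hy q)
  exact (mem_Zs_succ hx).2 (sup_ind (sup_ind h1 h2 fun y hy z _ => k y (Subgroup.mem_sup_left hy) z) h3
    fun y hy z _ => k y hy z)

theorem nilpotent_of_Zs {R : Subgroup G} {n : ℕ} (h : R ≤ Zs R n) : Group.IsNilpotent R :=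
  ⟨n, eq_top_iff.2 fun x _ => by
    obtain ⟨y, hy, e⟩ := h x.2
    rwa [← show y = x from Subtype.ext e]⟩

theorem cmt_one {a b : G} (h : a * b = b * a) (K : Subgroup G) : a * b * a⁻¹ * b⁻¹ ∈ K := by
  rw [h]; simp

theorem cmt_swap {a b : G} {K : Subgroup G} (h : a * b * a⁻¹ * b⁻¹ ∈ K) : b * a * b⁻¹ * a⁻¹ ∈ K := by
  simpa [mul_assoc] using K.inv_mem h

theorem eq_bot_of_nilpotent {R N : Subgroup G} (h : Group.IsNilpotent R) (hle : N ≤ R) (hN : N ≤ ⁅N, R⁆) : N = ⊥ := by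
  obtain ⟨n, e⟩ := h.nilpotent'
  have k : ∀ i, N ≤ Zs R i → N = ⊥ := by
    intro i
    induction i with
    | zero => intro h; rw [Zs, Subgroup.upperCentralSeries_zero, Subgroup.map_bot] at h; exact eq_bot_iff.2 h
    | succ i ih =>
      intro h
      exact ih (hN.trans (Subgroup.commutator_le.2 fun x hx y hy => (mem_Zs_succ (hle hx)).1 (h hx) y hy))
  exact k n (by rw [Zs, e, ← MonoidHom.range_eq_map, Subgroup.range_subtype]; exact hle)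

namespace AR
variable {S : Set (Subgroup G)} (h : AR S)
include h

section Triple
variable {A B C : Subgroup G} (hA : A ∈ S) (hC : C ∈ S) (t1 : T3 S A B) (t2 : T3 S C B) (c : Cm A C)
include hA hC t1 t2 c

theorem triple_not_r1 {b : G} (hb : b ∈ B) (h1 : b ≠ 1) : ¬ R1 A (b • C) := fun r => by
  obtain ⟨f, hf, f1⟩ := h.exists_ne t2.symm.mem
  obtain ⟨x, hx, rfl⟩ := t2.symm.ex hb h1 hf
  have x1 : x ≠ 1 := by rintro rfl; simp at f1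
  have c2 := h.t3_cm_smul hC t2 hb
  have := h.no_shift hA r.symm (h.cm (h.smul hC b)) (z := x⁻¹) (c2 _ (C.inv_mem hx)) (c.symm _ (C.inv_mem hx))
    (conj_mem hx b) (by simpa using x1) t2.symm.mem (by rw [c2 _ (C.inv_mem hx) _ (conj_mem hx b)]; exact hf)
  exact x1 (inv_eq_one.1 this)

theorem triple_cl2 {b : G} (hb : b ∈ B) (h1 : b ≠ 1) : Cl2 (A ⊔ b • C) := by
  rcases h.tri hA (h.smul hC b) with c' | r | t
  · exact (((h.cm hA).sup c'.symm).sup' (c'.sup (h.cm (h.smul hC b)))).cl2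
  · exact absurd r (h.triple_not_r1 hA hC t1 t2 c hb h1)
  · exact t.cl2 (h.cm hA) (h.cm (h.smul hC b))

theorem triple_cm {b : G} (hb : b ∈ B) : Cm (A ⊔ b • C) (b • A ⊔ C) :=
  ((h.t3_cm_smul hA t1 hb).sup (c.smul b).symm).sup' (c.sup (h.t3_cm_smul hC t2 hb).symm)

theorem triple_sup {b : G} (hb : b ∈ B) (h1 : b ≠ 1) : (A ⊔ b • C) ⊔ (b • A ⊔ C) = (A ⊔ ⁅A, B⁆) ⊔ (C ⊔ ⁅C, B⁆) := by
  rw [← t1.sup_smul hb h1, ← t2.sup_smul hb h1]; ac_rfl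

theorem triple_cm_iff {b : G} (hb : b ∈ B) (h1 : b ≠ 1) : Cm A (b • C) ↔ Cm A ⁅C, B⁆ :=
  ⟨fun k => (c.sup' k).mono le_rfl (le_sup_right.trans (t2.sup_smul hb h1).ge),
    fun k => (c.sup' k).mono le_rfl (t2.smul_le_sup hb)⟩

theorem triple_nilpotent (hB : B ∈ S) : Group.IsNilpotent ↥(A ⊔ B ⊔ C) := by
  obtain ⟨b, hb, b1⟩ := h.exists_ne hB
  have N2 : Cl2 ((A ⊔ ⁅A, B⁆) ⊔ (C ⊔ ⁅C, B⁆)) := by
    rw [← h.triple_sup hA hC t1 t2 c hb b1]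
    exact Cl2.sup (h.triple_cm hA hC t1 t2 c hb) (h.triple_cl2 hA hC t1 t2 c hb b1)
      (sup_comm C _ ▸ h.triple_cl2 hC hA t2 t1 c.symm hb b1)
  set R := A ⊔ B ⊔ C with hR
  have lA : A ≤ R := le_sup_left.trans le_sup_left
  have lB : B ≤ R := le_sup_right.trans le_sup_left
  have lC : C ≤ R := le_sup_right
  have lE : ⁅A, B⁆ ≤ R := (cmt_le_sup _ _).trans (sup_le lA lB)
  have lF : ⁅C, B⁆ ≤ R := (cmt_le_sup _ _).trans (sup_le lC lB)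
  have cm : ∀ {x y}, x ∈ R → y ∈ R → x * y * x⁻¹ * y⁻¹ ∈ R := fun hx hy =>
    R.mul_mem (R.mul_mem (R.mul_mem hx hy) (R.inv_mem hx)) (R.inv_mem hy)
  have nA : ∀ {x}, x ∈ A → x ∈ (A ⊔ ⁅A, B⁆) ⊔ (C ⊔ ⁅C, B⁆) := fun hx => Subgroup.mem_sup_left (Subgroup.mem_sup_left hx)
  have nE : ∀ {x}, x ∈ ⁅A, B⁆ → x ∈ (A ⊔ ⁅A, B⁆) ⊔ (C ⊔ ⁅C, B⁆) := fun hx => Subgroup.mem_sup_left (Subgroup.mem_sup_right hx)
  have nC : ∀ {x}, x ∈ C → x ∈ (A ⊔ ⁅A, B⁆) ⊔ (C ⊔ ⁅C, B⁆) := fun hx => Subgroup.mem_sup_right (Subgroup.mem_sup_left hx)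
  have nF : ∀ {x}, x ∈ ⁅C, B⁆ → x ∈ (A ⊔ ⁅A, B⁆) ⊔ (C ⊔ ⁅C, B⁆) := fun hx => Subgroup.mem_sup_right (Subgroup.mem_sup_right hx)
  have z1 : ∀ e ∈ ⁅A, B⁆, ∀ f ∈ ⁅C, B⁆, e * f * e⁻¹ * f⁻¹ ∈ Zs R 1 := fun e he f hf =>
    mem_Zs_sup3 (cm (lE he) (lF hf)) (fun y hy => cmt_one (N2 e (nE he) f (nF hf) y (nA hy)) _)
      (fun y hy => cmt_one (by
        have a1 : Commute e y := t1.cmB e he y hy
        have a2 : Commute f y := t2.cmB f hf y hy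
        exact (((a1.mul_left a2).mul_left a1.inv_left).mul_left a2.inv_left).eq) _)
      (fun y hy => cmt_one (N2 e (nE he) f (nF hf) y (nC hy)) _)
  have key : ∀ a e f y : G, a ∈ (A ⊔ ⁅A, B⁆) ⊔ (C ⊔ ⁅C, B⁆) → e ∈ (A ⊔ ⁅A, B⁆) ⊔ (C ⊔ ⁅C, B⁆) →
      f ∈ (A ⊔ ⁅A, B⁆) ⊔ (C ⊔ ⁅C, B⁆) → y * a * y⁻¹ = a * e → f * y = y * f →
      (a * f * a⁻¹ * f⁻¹) * y * (a * f * a⁻¹ * f⁻¹)⁻¹ * y⁻¹ = f * e * f⁻¹ * e⁻¹ := fun a e f y ha he hf q1 q2 => by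
    have q3 : y * f * y⁻¹ = f := by rw [← q2]; group
    have q4 := N2 f hf e he a⁻¹ (Subgroup.inv_mem _ ha)
    calc _ = (a * f * a⁻¹ * f⁻¹) * ((y * f * y⁻¹) * (y * a * y⁻¹) * (y * f * y⁻¹)⁻¹ * (y * a * y⁻¹)⁻¹) := by group
      _ = a * ((f * e * f⁻¹ * e⁻¹) * a⁻¹) := by rw [q1, q3]; group
      _ = _ := by rw [q4]; group
  have z2 : ∀ a ∈ A, ∀ f ∈ ⁅C, B⁆, a * f * a⁻¹ * f⁻¹ ∈ Zs R 2 := fun a ha f hf =>
    mem_Zs_sup3 (cm (lA ha) (lF hf)) (fun y hy => cmt_one (N2 a (nA ha) f (nF hf) y (nA hy)) _)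
      (fun y hy => by
        obtain ⟨e, he, q⟩ := t1.conj_eq ha hy
        rw [key a e f y (nA ha) (nE he) (nF hf) q (t2.cmB f hf y hy)]
        exact cmt_swap (z1 e he f hf))
      (fun y hy => cmt_one (N2 a (nA ha) f (nF hf) y (nC hy)) _)
  have z2' : ∀ a ∈ C, ∀ f ∈ ⁅A, B⁆, a * f * a⁻¹ * f⁻¹ ∈ Zs R 2 := fun a ha f hf =>
    mem_Zs_sup3 (cm (lC ha) (lE hf)) (fun y hy => cmt_one (N2 a (nC ha) f (nE hf) y (nA hy)) _)
      (fun y hy => by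
        obtain ⟨e, he, q⟩ := t2.conj_eq ha hy
        rw [key a e f y (nC ha) (nF he) (nE hf) q (t1.cmB f hf y hy)]
        exact z1 f hf e he)
      (fun y hy => cmt_one (N2 a (nC ha) f (nE hf) y (nC hy)) _)
  have z3 : ∀ e ∈ ⁅A, B⁆, e ∈ Zs R 3 := fun e he =>
    mem_Zs_sup3 (lE he) (fun y hy => cmt_one (t1.cmA e he y hy) _) (fun y hy => cmt_one (t1.cmB e he y hy) _)
      (fun y hy => cmt_swap (z2' y hy e he))
  have z3' : ∀ e ∈ ⁅C, B⁆, e ∈ Zs R 3 := fun e he =>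
    mem_Zs_sup3 (lF he) (fun y hy => cmt_swap (z2 y hy e he)) (fun y hy => cmt_one (t2.cmB e he y hy) _)
      (fun y hy => cmt_one (t2.cmA e he y hy) _)
  refine nilpotent_of_Zs (n := 4) (sup_le (sup_le (fun x hx => ?_) fun x hx => ?_) fun x hx => ?_)
  · exact mem_Zs_sup3 (lA hx) (fun y hy => cmt_one (h.cm hA x hx y hy) _) (fun y hy => z3 _ (cmt_mem hx hy))
      (fun y hy => cmt_one (c x hx y hy) _)
  · exact mem_Zs_sup3 (lB hx) (fun y hy => cmt_swap (z3 _ (cmt_mem hy hx))) (fun y hy => cmt_one (h.cm hB x hx y hy) _)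
      (fun y hy => cmt_swap (z3' _ (cmt_mem hy hx)))
  · exact mem_Zs_sup3 (lC hx) (fun y hy => cmt_one (c.symm x hx y hy) _) (fun y hy => z3' _ (cmt_mem hx hy))
      (fun y hy => cmt_one (h.cm hC x hx y hy) _)

end Triple

/-- reachability in the graph of rank one pairs -/
theorem reach_symm {A B : Subgroup G} (r : Relation.ReflTransGen (FAdj S) A B) : Relation.ReflTransGen (FAdj S) B A := by
  induction r with
  | refl => rfl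
  | tail _ k ih => exact .head ⟨k.2.1, k.1, R1.symm k.2.2⟩ ih

theorem reach_smul_of {A B : Subgroup G} (r : Relation.ReflTransGen (FAdj S) A B) (g : G) :
    Relation.ReflTransGen (FAdj S) (g • A) (g • B) := by
  induction r with
  | refl => rfl
  | tail _ k ih => exact .tail ih ⟨h.smul k.1 g, h.smul k.2.1 g, R1.smul k.2.2 g⟩

theorem top_ind {p : G → Prop} (h1 : ∀ E ∈ S, ∀ e ∈ E, p e) (h0 : p 1) (h2 : ∀ x y, p x → p y → p (x * y)) (g : G) : p g :=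
  Subgroup.iSup_induction (fun E : S => (E : Subgroup G)) (x := g) (C := p)
    (by rw [iSup_subtype'' S fun E => E, h.generates]; trivial) (fun E => h1 E E.2) h0 h2

theorem reach_smul {A : Subgroup G} (hA : A ∈ S) (n : NI S A) (g : G) : Relation.ReflTransGen (FAdj S) A (g • A) := by
  refine h.top_ind (p := fun g => Relation.ReflTransGen (FAdj S) A (g • A)) (fun E hE e he => ?_)
    (by rw [one_smul]) (fun x y p q => by rw [mul_smul]; exact p.trans (h.reach_smul_of q x)) g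
  obtain ⟨D, hD, r⟩ := n
  rcases h.tri hA hE with c | r1 | t
  · rw [c.symm.smul_eq he]
  · exact .tail (.single ⟨hA, hE, r1⟩) ⟨hE, h.smul hA e, by simpa [smul_of_mem he] using r1.symm.smul e⟩
  obtain ⟨a, ha, a1⟩ := h.exists_ne hA
  obtain ⟨c, hc, q⟩ := t.conj_eq ha he
  rcases h.line_lemma (h.smul hA e) t.mem hD (conj_mem ha e) (Subgroup.inv_mem _ hc)
    (by rw [q, mul_inv_cancel_right]; exact r.r1_smul ha a1) with r2 | r2
  · exact .tail (.single ⟨hA, hD, r⟩) ⟨hD, h.smul hA e, r2.symm⟩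
  · have r3 := r2.smul e
    rw [t.cmB.symm.smul_eq he] at r3
    exact .tail (.tail (.tail (.single ⟨hA, hD, r⟩) ⟨hD, t.mem, r2.symm⟩) ⟨t.mem, h.smul hD e, r3⟩)
      ⟨h.smul hD e, h.smul hA e, r.symm.smul e⟩

theorem conj_of_reach {A B : Subgroup G} (r : Relation.ReflTransGen (FAdj S) A B) : ∃ g : G, B = g • A := by
  induction r with
  | refl => exact ⟨1, (one_smul _ _).symm⟩
  | tail _ k ih =>
    obtain ⟨g, rfl⟩ := ih
    obtain ⟨x, -, e⟩ := R1.exists_smul_eq k.2.2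
    exact ⟨x * g, by rw [mul_smul, e]⟩

theorem ni_of_reach {A B : Subgroup G} (r : Relation.ReflTransGen (FAdj S) A B) (hne : B ≠ A) : NI S A := by
  rcases r.cases_head with e | ⟨D, k, -⟩
  · exact absurd e.symm hne
  · exact ⟨D, k.2.1, k.2.2⟩

theorem ni_of_conn (h2 : ∃ A ∈ S, ∃ B ∈ S, A ≠ B) (hc : IsConnectedFamily (FAdj S) S) {A : Subgroup G} (hA : A ∈ S) :
    NI S A := by
  obtain ⟨B, hB, C, hC, hne⟩ := h2
  by_cases e : B = A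
  · exact h.ni_of_reach (hc A hA C hC) (e ▸ hne.symm)
  · exact h.ni_of_reach (hc A hA B hB) e

theorem ni_of_class (hc : IsConjClassOfSubgroups S) {A B : Subgroup G} (hA : A ∈ S) (n : NI S A) (hB : B ∈ S) : NI S B := by
  obtain ⟨g, rfl⟩ := hc.2 A hA B hB
  exact h.ni_smul n g

theorem map {H : Type*} [Group H] (f : G →* H) (hf : Function.Surjective f) (hne : ∀ A ∈ S, A.map f ≠ ⊥) :
    AR ((fun A : Subgroup G => A.map f) '' S) := by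
  refine ⟨?_, ?_, ?_, ?_, ?_⟩
  · rintro _ ⟨A, hA, rfl⟩
    refine cm_self.2 ?_
    rintro _ ⟨a, ha, rfl⟩ _ ⟨b, hb, rfl⟩
    rw [← map_mul, h.cm hA a ha b hb, map_mul]
  · rintro _ ⟨A, hA, rfl⟩; exact hne A hA
  · rw [iSup_image, ← Subgroup.map_top_of_surjective f hf, ← h.generates]; simp only [Subgroup.map_iSup]
  · rintro _ ⟨A, hA, rfl⟩ g
    obtain ⟨g, rfl⟩ := hf g
    exact ⟨g • A, h.smul hA g, map_smul f g A⟩
  · rintro _ ⟨A, hA, rfl⟩ _ ⟨B, hB, rfl⟩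
    simp only
    rcases h.tri hA hB with c | r | t
    · left; rw [← Subgroup.map_commutator, cm_iff.2 c, Subgroup.map_bot]
    · by_cases e : A.map f = B.map f
      · left; rw [← e, ← Subgroup.map_commutator, cm_iff.2 (h.cm hA), Subgroup.map_bot]
      · exact Or.inr (Or.inl (r.map f e))
    · refine Or.inr (Or.inr ⟨⟨_, t.mem, Subgroup.map_commutator _ _ _⟩, ?_, ?_, ?_⟩)
      · rw [← Subgroup.map_commutator, ← Subgroup.map_sup]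
        rintro _ ⟨c, hc, rfl⟩ _ ⟨x, hx, rfl⟩
        rw [← map_mul, t.2.1 c hc x hx, map_mul]
      · rintro _ ⟨a, ha, rfl⟩ h1
        rw [← Subgroup.map_commutator, ← t.2.2.1 a ha (fun e => h1 (by simp [e])), MonoidHom.map_closure,
          Subgroup.coe_map, Set.image_image, Set.image_image]
        simp
      · rintro _ ⟨a, ha, rfl⟩ h1
        rw [← Subgroup.map_commutator, ← t.2.2.2 a ha (fun e => h1 (by simp [e])), MonoidHom.map_closure,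
          Subgroup.coe_map, Set.image_image, Set.image_image]
        simp

end AR

end Cfsg.Agent.Root
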