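import Cfsg.Agent.Lib.Root.ARS2

set_option autoImplicit false
set_option linter.unusedSectionVars false
set_option linter.style.haveILetI false

/-! Sets of abstract root subgroups: lines, natural modules, special pairs, generation. -/

namespace Cfsg.Agent.Root

open Cfsg

variable {G : Type*} [Group G]

/-- collinear members -/
abbrev Ln (S : Set (Subgroup G)) (A B : Subgroup G) : Prop := B ∈ linePartners S A

namespace Ln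
variable {S : Set (Subgroup G)} {A B : Subgroup G} (l : Ln S A B)
include l
theorem mem : B ∈ S := l.1.1
theorem ne : B ≠ A := l.1.2.1
theorem cm : Cm A B := cm_iff.1 l.1.2.2
theorem symm (hA : A ∈ S) : Ln S B A := ⟨⟨hA, l.ne.symm, cm_iff.2 l.cm.symm⟩, sup_comm A B ▸ l.2⟩
theorem cover {x : G} (hx : x ∈ A ⊔ B) (h1 : x ≠ 1) : ∃ E ∈ S, E ≤ A ⊔ B ∧ x ∈ E :=
  let ⟨E, hE, e⟩ := l.2.2.1 x hx h1; ⟨E, hE.1, hE.2, e⟩
theorem ti {C D : Subgroup G} (hC : C ∈ S) (hD : D ∈ S) (lC : C ≤ A ⊔ B) (lD : D ≤ A ⊔ B) {x : G} (h1 : x ≠ 1)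
    (a : x ∈ C) (b : x ∈ D) : C = D := by
  by_contra hne
  exact h1 (Subgroup.mem_bot.1 (l.2.2.2 C ⟨hC, lC⟩ D ⟨hD, lD⟩ hne ▸ (⟨a, b⟩ : x ∈ C ⊓ D)))
theorem mul_ne (hA : A ∈ S) {a b : G} (ha : a ∈ A) (hb : b ∈ B) (h1 : a ≠ 1) : a * b ≠ 1 := fun e =>
  l.ne (l.ti l.mem hA le_sup_right le_sup_left h1 (eq_inv_of_mul_eq_one_left e ▸ B.inv_mem hb) ha)
theorem of_eq {E F : Subgroup G} (hF : F ∈ S) (hne : F ≠ E) (c : Cm E F) (e : E ⊔ F = A ⊔ B) : Ln S E F :=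
  ⟨⟨hF, hne, cm_iff.2 c⟩, e ▸ l.2⟩
end Ln

theorem two_trans_of {X : Type*} [MulAction G X] {K : Subgroup G} {L : Set X} (hL : ∀ k ∈ K, ∀ x ∈ L, k • x ∈ L)
    {E E' F : X} (hE : E ∈ L) (hE' : E' ∈ L) (hF : F ∈ L) (n1 : E' ≠ E) (n2 : F ≠ E) (n3 : F ≠ E')
    (h1 : ∀ x ∈ L, ∀ y ∈ L, x ≠ E → y ≠ E → ∃ k ∈ K, k • E = E ∧ k • x = y)
    (h2 : ∃ k ∈ K, k • E = F) :
    ∀ x ∈ L, ∀ y ∈ L, ∀ x' ∈ L, ∀ y' ∈ L, x ≠ y → x' ≠ y' → ∃ k ∈ K, k • x = x' ∧ k • y = y' := by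
  have t1 : ∀ x ∈ L, ∃ k ∈ K, k • E = x := fun x hx => by
    by_cases e : x = E
    · exact ⟨1, K.one_mem, by rw [e, one_smul]⟩
    obtain ⟨k, hk, q⟩ := h2
    obtain ⟨k', hk', -, q'⟩ := h1 F hF x hx n2 e
    exact ⟨k' * k, K.mul_mem hk' hk, by rw [mul_smul, q, q']⟩
  have t2 : ∀ x ∈ L, ∀ y ∈ L, x ≠ y → ∃ k ∈ K, k • E = x ∧ k • E' = y := fun x hx y hy hne => by
    obtain ⟨k, hk, rfl⟩ := t1 x hx
    obtain ⟨k', hk', q, q'⟩ := h1 E' hE' _ (hL _ (K.inv_mem hk) y hy) n1 fun e => hne (by rw [← e, smul_inv_smul])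
    exact ⟨k * k', K.mul_mem hk hk', by rw [mul_smul, q], by rw [mul_smul, q', smul_inv_smul]⟩
  intro x hx y hy x' hx' y' hy' a b
  obtain ⟨k, hk, rfl, rfl⟩ := t2 x hx y hy a
  obtain ⟨k', hk', rfl, rfl⟩ := t2 x' hx' y' hy' b
  exact ⟨k' * k⁻¹, K.mul_mem hk' (K.inv_mem hk), by simp [mul_smul], by simp [mul_smul]⟩

namespace AR
variable {S : Set (Subgroup G)} (h : AR S)
include h

theorem ln_smul {A B : Subgroup G} (l : Ln S A B) (g : G) : Ln S (g • A) (g • B) := by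
  have k : ∀ {C : Subgroup G}, C ∈ membersIn S (g • A ⊔ g • B) → g⁻¹ • C ∈ membersIn S (A ⊔ B) := fun hC =>
    ⟨h.smul hC.1 _, by simpa [smul_sup] using smul_mono hC.2 g⁻¹⟩
  refine ⟨⟨h.smul l.mem g, fun e => l.ne ((smul_left_cancel_iff g).1 e), cm_iff.2 (l.cm.smul g)⟩, fun C hC => hC.2,
    fun x hx h1 => ?_, fun C hC D hD hne => ?_⟩
  · rw [← smul_sup] at hx
    obtain ⟨y, hy, rfl⟩ := exists_of_mem_smul hx
    obtain ⟨E, hE, le, e⟩ := l.cover hy (by simpa using h1)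
    exact ⟨g • E, ⟨h.smul hE g, smul_sup g A B ▸ smul_mono le g⟩, conj_mem e g⟩
  · rw [← smul_eq_bot (g := g⁻¹), smul_inf]
    exact l.2.2.2 _ (k hC) _ (k hD) fun e => hne ((smul_left_cancel_iff _).1 e)

theorem ln_cmt {A B : Subgroup G} (hA : A ∈ S) (n : NI S A) (t : T3 S A B) : Ln S A ⁅A, B⁆ :=
  ⟨⟨t.mem, (h.t3_ne_cmt t).symm, cm_iff.2 t.cmA.symm⟩, h.line_partition hA n t⟩

theorem ln_cm_sup {A B : Subgroup G} (hA : A ∈ S) (l : Ln S A B) : Cm (A ⊔ B) (A ⊔ B) :=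
  ((h.cm hA).sup l.cm.symm).sup' (l.cm.sup (h.cm l.mem))

theorem ln_not_cm {A B U : Subgroup G} (hA : A ∈ S) (hB : B ∈ S) (r : R1 A B) (l : Ln S A U) : ¬ Cm U B := fun c => by
  obtain ⟨a, ha, a1⟩ := h.exists_ne hA
  obtain ⟨u, hu, u1⟩ := h.exists_ne l.mem
  obtain ⟨E, hE, -, e⟩ := l.cover (Subgroup.mul_mem_sup ha hu) (l.mul_ne hA ha hu a1)
  exact u1 (h.no_shift hB r (h.cm hA) (l.cm.symm u hu) (c u hu) ha a1 hE (l.cm a ha u hu ▸ e))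

theorem exists_t3_of_ln {A B U : Subgroup G} (hA : A ∈ S) (hB : B ∈ S) (r : R1 A B) (l : Ln S A U) :
    ∃ E ∈ S, E ≤ A ⊔ U ∧ E ≠ A ∧ T3 S E B := by
  rcases h.tri l.mem hB with c | r' | t
  · exact absurd c (h.ln_not_cm hA hB r l)
  swap
  · exact ⟨U, l.mem, le_sup_right, l.ne, t⟩
  obtain ⟨b, hb, b1⟩ := h.exists_ne hB
  obtain ⟨a, ha, a1, q⟩ := r.ex' hb b1
  obtain ⟨u, hu, -, q'⟩ := r'.ex' hb b1
  obtain ⟨E, hE, le, e⟩ := l.cover (Subgroup.mul_mem_sup (A.inv_mem ha) hu) (l.mul_ne hA (A.inv_mem ha) hu (by simpa using a1))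
  have c : Cm B ((a⁻¹ * u) • B) := by rw [← cm_smul a, mul_smul, smul_inv_smul, q, q', cm_smul]; exact l.cm
  have ne : (a⁻¹ * u) • B ≠ B := fun e => by
    rw [mul_smul, inv_smul_eq_iff, q, q', smul_left_cancel_iff] at e; exact l.ne e
  have nr : ¬ R1 E B := fun r => (r.r1_smul e fun e' => ne (by rw [e', one_smul])).not_cm c
  refine ⟨E, hE, le, fun e => nr (e ▸ r), ?_⟩
  rcases h.tri hE hB with c' | r' | t
  · exact absurd (c'.smul_eq e) ne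
  · exact absurd r' nr
  · exact t

/-- the triangle lemma -/
theorem lemT {A B E : Subgroup G} (hA : A ∈ S) (hB : B ∈ S) (hE : E ∈ S) (r : R1 A B) (c : Cm E A)
    (hl : ∀ e ∈ E, e ≠ 1 → ∀ a ∈ A, a ≠ 1 → ∃ F ∈ S, e * a ∈ F) (t : T3 S B E) : T3 S A ⁅B, E⁆ ∧ ⁅A, ⁅B, E⁆⁆ = E := by
  have lB := h.ln_cmt hB ⟨A, hA, r.symm⟩ t
  set D := ⁅B, E⁆ with hD
  have tD : T3 S A D := by
    rcases h.tri hA t.mem with c' | r' | t'
    · exact absurd c'.symm (h.ln_not_cm hB hA r.symm lB)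
    · exfalso
      obtain ⟨a, ha, a1⟩ := h.exists_ne hA
      obtain ⟨e, he, e1⟩ := h.exists_ne hE
      obtain ⟨F, hF, m⟩ := hl e he e1 a ha a1
      exact e1 (h.no_shift t.mem r' (h.cm hA) (c e he) (t.cmB.symm e he) ha a1 hF m)
    · exact t'
  refine ⟨tD, ?_⟩
  have nA : NI S A := ⟨B, hB, r⟩
  have cE : Cm E ⁅A, D⁆ := (c.sup' t.cmB.symm).mono le_rfl (cmt_le_sup A D)
  obtain ⟨b, hb, b1⟩ := h.exists_ne hB
  obtain ⟨a, ha, a1, q⟩ := r.ex' hb b1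
  obtain ⟨e₀, he₀, e₀1⟩ := h.exists_ne hE
  have tb : T3 S (b⁻¹ • E) A := by
    have := h.t3_smul hE hB t.symm (b⁻¹ * a)
    rwa [mul_smul b⁻¹ a B, q, inv_smul_smul, mul_smul, c.symm.smul_eq ha] at this
  have eb : ⁅b⁻¹ • E, A⁆ = (b⁻¹ * a) • D := by
    rw [hD, Subgroup.commutator_comm B, smul_cmt, mul_smul b⁻¹ a B, q, inv_smul_smul, mul_smul, c.symm.smul_eq ha]
  have eD : ⁅A, D⁆ = (b⁻¹ * a) • D := by
    obtain ⟨d, hd, qd⟩ := t.symm.conj_eq he₀ (B.inv_mem hb)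
    rw [Subgroup.commutator_comm] at hd
    have d1 : d ≠ 1 := fun e => by
      rw [e, mul_one, mul_inv_eq_iff_eq_mul] at qd
      exact e₀1 (h.t3_inj hB ⟨A, hA, r.symm⟩ t (B.inv_mem hb) (by simpa using b1) he₀ qd)
    rw [← eb, ← tb.2.2.1 _ (conj_mem he₀ b⁻¹) (fun e => e₀1 (conj_eq_one_iff.1 e)), Subgroup.commutator_comm, ← tD.symm.2.2.1 d hd d1, qd]
    congr 1
    refine Set.image_congr fun x hx => ?_
    have a2 := cE e₀ he₀ _ (Subgroup.commutator_comm D A ▸ cmt_mem hd hx)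
    have a3 := c e₀ he₀ x hx
    calc d * x * d⁻¹ * x⁻¹ = e₀ * (d * x * d⁻¹ * x⁻¹) * e₀⁻¹ := by rw [a2]; group
      _ = e₀ * d * x * d⁻¹ * (e₀ * x)⁻¹ := by group
      _ = _ := by rw [a3]; group
  have lA := h.ln_cmt hA nA tD
  have tE : T3 S B ⁅A, D⁆ := by
    rcases h.tri hB tD.mem with c' | r' | t'
    · exact absurd c'.symm (h.ln_not_cm hA hB r lA)
    · exfalso
      obtain ⟨d, hd, d1⟩ := h.exists_ne t.mem
      obtain ⟨F, hF, -, m⟩ := lB.cover (Subgroup.mul_mem_sup hb hd) (lB.mul_ne hB hb hd b1)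
      exact d1 (h.no_shift tD.mem r' (h.cm hB) (t.cmA d hd) (tD.cmB.symm d hd) hb b1 hF (t.cmA d hd b hb ▸ m))
    · exact t'
  have lD : D ≤ ⁅B, ⁅A, D⁆⁆ := fun d hd => by
    obtain ⟨ε, hε, q1⟩ := tD.symm.conj_eq hd ha
    rw [Subgroup.commutator_comm] at hε
    obtain ⟨δ, hδ, q2⟩ := tE.symm.conj_eq hε (B.inv_mem hb)
    rw [Subgroup.commutator_comm] at hδ
    have m : d * δ ∈ ⁅A, D⁆ := by
      have := conj_mem hd (b⁻¹ * a)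
      rw [← eD, show b⁻¹ * a * d * (b⁻¹ * a)⁻¹ = b⁻¹ * (a * d * a⁻¹) * b by group, q1, ← mul_assoc,
        ← t.cmA d hd _ (B.inv_mem hb), mul_assoc d, mul_assoc d, ← inv_inv b, inv_inv b⁻¹, q2, ← mul_assoc,
        ← tD.cmB ε hε d hd, mul_assoc, Subgroup.mul_mem_cancel_left _ hε] at this
      exact this
    have := h.t3_inj hB ⟨A, hA, r.symm⟩ tE hb b1 m (by
      rw [← mul_assoc, ← t.cmA d hd b hb, mul_assoc, ← tE.cmA δ hδ b hb, mul_assoc])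
    rw [eq_inv_of_mul_eq_one_left this]; exact Subgroup.inv_mem _ hδ
  refine (h.eq_cmt_of_le hA nA tD hE fun e he => ?_).symm
  by_cases e1 : e = 1
  · rw [e1]; exact one_mem _
  obtain ⟨e', he', q1⟩ := tE.ex hb b1 (lD (cmt_mem hb he))
  have zb : (e'⁻¹ * e) * b = b * (e'⁻¹ * e) := by
    have : e * b⁻¹ * e⁻¹ = e' * b⁻¹ * e'⁻¹ := by simpa [mul_assoc] using q1
    calc _ = e'⁻¹ * (e * b⁻¹ * e⁻¹)⁻¹ * e := by group
      _ = _ := by rw [this]; group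
  have zA : ∀ x ∈ A, (e'⁻¹ * e) * x = x * (e'⁻¹ * e) := fun x hx => by
    rw [mul_assoc, c e he x hx, ← mul_assoc, tD.cmA _ (Subgroup.inv_mem _ he') x hx, mul_assoc]
  have zD : ∀ x ∈ D, (e'⁻¹ * e) * x = x * (e'⁻¹ * e) := fun x hx => by
    rw [mul_assoc, t.cmB.symm e he x hx, ← mul_assoc, tD.cmB _ (Subgroup.inv_mem _ he') x hx, mul_assoc]
  have zB := r.comm_of_comm zA (h.ti ⟨A, hA, r.symm⟩ (h.smul hB _) hb
    (by rw [mem_smul, mul_assoc, ← zb, inv_mul_cancel_left]; exact hb) b1).symm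
  obtain ⟨d, hd, q2⟩ := tD.ex' ha a1 he'
  obtain ⟨F, hF, m⟩ := hl e he e1 a ha a1
  have r2 := r.smul d
  rw [t.cmA.smul_eq hd] at r2
  have := h.no_shift hB r2 (h.cm (h.smul hA d)) (z := e'⁻¹ * e) (fun x hx => by
    obtain ⟨y, hy, rfl⟩ := exists_of_mem_smul hx
    exact (((Commute.mul_right (zD d hd) (zA y hy)).mul_right (Commute.inv_right (zD d hd)))).eq) zB (conj_mem ha d)
    (by simpa using a1) hF (by
      rw [q2, ← cE e he _ (Subgroup.inv_mem _ he'), ← tD.cmA e' he' a ha]; simpa [mul_assoc] using m)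
  rw [inv_mul_eq_one] at this
  exact this ▸ he'

theorem line_struct {A B U : Subgroup G} (hA : A ∈ S) (hB : B ∈ S) (r : R1 A B) (l : Ln S A U) :
    ∃ E ∈ S, T3 S B E ∧ T3 S A ⁅B, E⁆ ∧ ⁅A, ⁅B, E⁆⁆ = E ∧ A ⊔ E = A ⊔ U := by
  obtain ⟨E, hE, le, hne, t⟩ := h.exists_t3_of_ln hA hB r l
  have cc := h.ln_cm_sup hA l
  obtain ⟨t1, e1⟩ := h.lemT hA hB hE r (cc.mono le le_sup_left) (fun e he e1 a ha a1 => by
    obtain ⟨F, hF, -, m⟩ := l.cover (Subgroup.mul_mem _ (le he) (Subgroup.mem_sup_left ha)) fun q =>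
      hne (l.ti hE hA le le_sup_left e1 he (eq_inv_of_mul_eq_one_left q ▸ A.inv_mem ha))
    exact ⟨F, hF, m⟩) t.symm
  refine ⟨E, hE, t.symm, t1, e1, le_antisymm (sup_le le_sup_left le) (sup_le le_sup_left ?_)⟩
  have l2 := h.ln_cmt hA ⟨B, hB, r⟩ t1
  rw [e1] at l2
  obtain ⟨e, he, q⟩ := h.exists_ne hE
  obtain ⟨a, ha, u, hu, rfl⟩ := l.cm.mem_sup.1 (le he)
  have u1 : u ≠ 1 := by
    rintro rfl
    exact hne (l.ti hE hA le le_sup_left q he (by simpa using ha))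
  obtain ⟨F, hF, lF, m⟩ := l2.cover (x := u) (by
    simpa using Subgroup.mul_mem_sup (A.inv_mem ha) he) u1
  rwa [l.ti l.mem hF le_sup_right (lF.trans (sup_le le_sup_left le)) u1 hu m]

theorem exists_third {A U : Subgroup G} (hA : A ∈ S) (l : Ln S A U) : ∃ F ∈ S, F ≤ A ⊔ U ∧ F ≠ A ∧ F ≠ U := by
  obtain ⟨a, ha, a1⟩ := h.exists_ne hA
  obtain ⟨u, hu, u1⟩ := h.exists_ne l.mem
  obtain ⟨F, hF, le, m⟩ := l.cover (Subgroup.mul_mem_sup ha hu) (l.mul_ne hA ha hu a1)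
  refine ⟨F, hF, le, ?_, ?_⟩ <;> rintro rfl
  · exact l.ne (l.ti l.mem hA le_sup_right le_sup_left u1 hu ((F.mul_mem_cancel_left ha).1 m))
  · exact l.ne (l.ti l.mem hA le_sup_right le_sup_left a1 ((F.mul_mem_cancel_right hu).1 m) ha)

section NoIso
variable (hF : ∀ A ∈ S, NI S A)
include hF

theorem ln_fix {A U : Subgroup G} (hA : A ∈ S) (l : Ln S A U) :
    ∃ E ∈ S, ∃ D ∈ S, T3 S A D ∧ ⁅A, D⁆ = E ∧ A ⊔ E = A ⊔ U := by
  obtain ⟨B, hB, r⟩ := hF A hA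
  obtain ⟨E, hE, t, t1, e, q⟩ := h.line_struct hA hB r l
  exact ⟨E, hE, _, t.mem, t1, e, q⟩

theorem line_two_trans {A U : Subgroup G} (hA : A ∈ S) (l : Ln S A U) :
    ∀ C₁ ∈ membersIn S (A ⊔ U), ∀ C₂ ∈ membersIn S (A ⊔ U), ∀ D₁ ∈ membersIn S (A ⊔ U), ∀ D₂ ∈ membersIn S (A ⊔ U),
      C₁ ≠ C₂ → D₁ ≠ D₂ → ∃ x ∈ ⨆ E ∈ normalizingMembers S (A ⊔ U), E, x • C₁ = D₁ ∧ x • C₂ = D₂ := by
  have key : ∀ A' ∈ S, ∀ U', Ln S A' U' → A' ⊔ U' = A ⊔ U → ∃ E ∈ S, E ≠ A' ∧ A' ⊔ E = A ⊔ U ∧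
      ∀ x ∈ membersIn S (A ⊔ U), ∀ y ∈ membersIn S (A ⊔ U), x ≠ E → y ≠ E →
        ∃ k ∈ ⨆ E ∈ normalizingMembers S (A ⊔ U), E, k • E = E ∧ k • x = y := by
    intro A' hA' U' l' e'
    obtain ⟨E, hE, D, hD, t, rfl, q⟩ := h.ln_fix hF hA' l'
    refine ⟨_, hE, (h.t3_ne_cmt t).symm, q.trans e', fun x hx y hy n1 n2 => ?_⟩
    have m : D ∈ normalizingMembers S (A ⊔ U) := ⟨hD, fun d hd => smul_eq_iff.1 (by
      rw [← e', ← q]; exact t.smul_line (Subgroup.mem_sup_right hd))⟩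
    rw [← e', ← q] at hx hy
    obtain ⟨d, hd, rfl⟩ := ((h.line_members hA' (hF _ hA') t).1 hx).resolve_right n1
    obtain ⟨d', hd', rfl⟩ := ((h.line_members hA' (hF _ hA') t).1 hy).resolve_right n2
    have := D.mul_mem hd' (D.inv_mem hd)
    exact ⟨d' * d⁻¹, (le_iSup₂_of_le D m le_rfl : D ≤ _) this, t.cmB.symm.smul_eq this, by simp [mul_smul]⟩
  obtain ⟨E, hE, n1, q1, k1⟩ := key A hA U l rfl
  have lE : Ln S E A := l.of_eq hA n1.symm ((h.ln_cm_sup hA l).mono (le_sup_right.trans q1.le) le_sup_left)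
    ((sup_comm _ _).trans q1)
  obtain ⟨E', hE', n2, q2, k2⟩ := key E hE A lE ((sup_comm _ _).trans q1)
  have lE' : Ln S E E' := l.of_eq hE' n2 ((h.ln_cm_sup hA l).mono (le_sup_left.trans q2.le) (le_sup_right.trans q2.le)) q2
  obtain ⟨F, hF', le, n3, n4⟩ := h.exists_third hE lE'
  have mE : E ∈ membersIn S (A ⊔ U) := ⟨hE, le_sup_left.trans q2.le⟩
  have mF : F ∈ membersIn S (A ⊔ U) := ⟨hF', le.trans q2.le⟩
  refine two_trans_of (fun k hk x hx => ⟨h.smul hx.1 k, ?_⟩) mE ⟨hE', le_sup_right.trans q2.le⟩ mF n2 n3 n4 k1 ?_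
  · have : k ∈ Subgroup.normalizer ((A ⊔ U : Subgroup G) : Set G) := SetLike.le_def.1 (iSup₂_le fun E hE => hE.2) hk
    exact (smul_mono hx.2 k).trans (smul_eq_iff.2 this).le
  · obtain ⟨k, hk, -, e⟩ := k2 E mE F mF n2.symm n4
    exact ⟨k, hk, e⟩

theorem line_two_trans' {A U : Subgroup G} (hA : A ∈ S) (l : Ln S A U) {C₁ C₂ D₁ D₂ : Subgroup G}
    (h1 : C₁ ∈ membersIn S (A ⊔ U)) (h2 : C₂ ∈ membersIn S (A ⊔ U)) (h3 : D₁ ∈ membersIn S (A ⊔ U))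
    (h4 : D₂ ∈ membersIn S (A ⊔ U)) (n1 : C₁ ≠ C₂) (n2 : D₁ ≠ D₂) :
    ∃ x : G, x • (A ⊔ U) = A ⊔ U ∧ x • C₁ = D₁ ∧ x • C₂ = D₂ := by
  obtain ⟨x, hx, e⟩ := h.line_two_trans hF hA l C₁ h1 C₂ h2 D₁ h3 D₂ h4 n1 n2
  exact ⟨x, smul_eq_iff.2 ((iSup₂_le fun E hE => hE.2 : _ ≤ Subgroup.normalizer ((A ⊔ U : Subgroup G) : Set G)) hx), e⟩

theorem ln_of_mem {A U E F : Subgroup G} (hA : A ∈ S) (l : Ln S A U) (h1 : E ∈ membersIn S (A ⊔ U))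
    (h2 : F ∈ membersIn S (A ⊔ U)) (hne : E ≠ F) : Ln S E F ∧ E ⊔ F = A ⊔ U := by
  obtain ⟨x, e, rfl, rfl⟩ := h.line_two_trans' hF hA l ⟨hA, le_sup_left⟩ ⟨l.mem, le_sup_right⟩ h1 h2 l.ne.symm hne
  exact ⟨h.ln_smul l x, by rw [← smul_sup, e]⟩

theorem exists_cmt_eq {E F : Subgroup G} (hE : E ∈ S) (l : Ln S E F) : ∃ P ∈ S, T3 S E P ∧ ⁅E, P⁆ = F := by
  obtain ⟨E', hE', D, hD, t, rfl, q⟩ := h.ln_fix hF hE l
  obtain ⟨x, -, e1, e2⟩ := h.line_two_trans' hF hE l ⟨hE, le_sup_left⟩ ⟨hE', le_sup_right.trans q.le⟩ ⟨hE, le_sup_left⟩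
    ⟨l.mem, le_sup_right⟩ (h.t3_ne_cmt t) l.ne.symm
  refine ⟨x • D, h.smul hD x, ?_, ?_⟩
  · simpa only [e1] using h.t3_smul hE hD t x
  · rw [← e2, smul_cmt, e1]

theorem ln_smul_of_t3 {A B : Subgroup G} (hA : A ∈ S) (t : T3 S A B) {b : G} (hb : b ∈ B) (hne : b • A ≠ A) :
    Ln S A (b • A) :=
  (h.ln_of_mem hF hA (h.ln_cmt hA (hF A hA) t) ⟨hA, le_sup_left⟩ ⟨h.smul hA b, t.smul_le_sup hb⟩ hne.symm).1

end NoIso

theorem r1_of_cmt {A B D : Subgroup G} (hA : A ∈ S) (hB : B ∈ S) (hD : D ∈ S) (t : T3 S A B) (e : ⁅D, ⁅A, B⁆⁆ = A) :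
    R1 B D := by
  have t' : T3 S D ⁅A, B⁆ := h.t3_of_mem hD t.mem (by rw [e]; exact hA)
  have c : Cm A D := by simpa only [e] using t'.cmA
  rcases h.tri hB hD with c' | r | t2
  · exact absurd ((c.sup c').mono (cmt_le_sup A B) le_rfl).symm (h.t3_ne t')
  · exact r
  · exfalso
    have := eq_bot_of_nilpotent (N := A ⊔ ⁅A, B⁆) (h.triple_nilpotent hA hD t t2.symm c hB)
      (sup_le (le_sup_of_le_left le_sup_left) ((cmt_le_sup A B).trans le_sup_left)) (sup_le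
        (by conv_lhs => rw [← e, Subgroup.commutator_comm]
            exact Subgroup.commutator_mono le_sup_right le_sup_right)
        (Subgroup.commutator_mono le_sup_left (le_sup_of_le_left le_sup_right)))
    exact h.ne_bot A hA (eq_bot_iff.2 (le_sup_left.trans this.le))

end AR

end Cfsg.Agent.Root
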