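import Cfsg.Agent.Lib.Root.ARS3

set_option autoImplicit false
set_option linter.unusedSectionVars false
set_option linter.style.haveILetI false

/-! Sets of abstract root subgroups: special pairs, generation, quasi-simplicity. -/

namespace Cfsg.Agent.Root

open Cfsg

variable {G : Type*} [Group G]

/-- the configuration of two commuting members with a common opposite member -/
structure Cfg (S : Set (Subgroup G)) (A B C : Subgroup G) : Prop where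
  ar : AR S
  hA : A ∈ S
  hB : B ∈ S
  hC : C ∈ S
  rA : R1 A B
  rC : R1 C B
  cm : Cm A C
  ne : A ≠ C

namespace Cfg
variable {S : Set (Subgroup G)} {A B C : Subgroup G} (k : Cfg S A B C)
include k

section
variable {y a c : G} (hy : y ∈ B) (ha : a ∈ A) (hc : c ∈ C) (ea : y • A = a⁻¹ • B) (ec : y • C = c⁻¹ • B)
include hy ha hc ea ec

theorem cmB : Cm B ((a * c⁻¹) • B) := by
  rw [← cm_smul a⁻¹, mul_smul, inv_smul_smul, ← ea, ← ec, cm_smul]; exact k.cm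

theorem g_ne : (a * c⁻¹) • B ≠ B := fun e => by
  rw [mul_smul, smul_eq_iff_eq_inv_smul, ← ea, ← ec, smul_left_cancel_iff] at e; exact k.ne e.symm

theorem wB : ∀ x ∈ B, (y⁻¹ * ((a * c⁻¹) * y * (a * c⁻¹)⁻¹)) * x = x * (y⁻¹ * ((a * c⁻¹) * y * (a * c⁻¹)⁻¹)) := fun x hx => by
  rw [mul_assoc, ← k.cmB hy ha hc ea ec x hx _ (conj_mem hy _), ← mul_assoc, k.ar.cm k.hB _ (B.inv_mem hy) x hx, mul_assoc]

theorem gA : ∀ x ∈ A, (a * c⁻¹) * x = x * (a * c⁻¹) := fun x hx => by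
  rw [mul_assoc, ← k.cm x hx _ (C.inv_mem hc), ← mul_assoc, k.ar.cm k.hA a ha x hx, mul_assoc]

theorem wA : (y⁻¹ * ((a * c⁻¹) * y * (a * c⁻¹)⁻¹)) • A = C := by
  rw [mul_smul, mul_smul, (inv_smul_eq_iff.2 (smul_eq_of_comm (k.gA hy ha hc ea ec)).symm : (a * c⁻¹)⁻¹ • A = A), mul_smul, ea,
    ← mul_smul _ a⁻¹, k.cm a ha _ (C.inv_mem hc), mul_inv_cancel_right, ← ec, inv_smul_smul]

theorem w_conj {y' a' c' : G} (hy' : y' ∈ B) (ha' : a' ∈ A) (hc' : c' ∈ C) (ea' : y' • A = a'⁻¹ • B)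
    (ec' : y' • C = c'⁻¹ • B) :
    (y⁻¹ * ((a * c⁻¹) * y * (a * c⁻¹)⁻¹)) * a' * (y⁻¹ * ((a * c⁻¹) * y * (a * c⁻¹)⁻¹))⁻¹ = c' := by
  have wB := k.wB hy ha hc ea ec
  have wA := k.wA hy ha hc ea ec
  generalize y⁻¹ * ((a * c⁻¹) * y * (a * c⁻¹)⁻¹) = w at wB wA
  refine inv_injective (k.rC.inj (C.inv_mem (conj_mem_of_eq wA ha')) (C.inv_mem hc') ?_)
  rw [← ec', ← wA, ← mul_smul, ← wB y' hy', mul_smul, ea', mul_inv_rev, mul_inv_rev, inv_inv, mul_smul, mul_smul,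
    (inv_smul_eq_iff.2 (smul_eq_of_comm wB).symm : w⁻¹ • B = B)]

/-- `A` commutes with its conjugates under the powers of `w` -/
theorem cm_pow {x : G} (hx : x ∈ B) : Cm A ((x⁻¹ * ((a * c⁻¹) * x * (a * c⁻¹)⁻¹)) • A) := by
  have gA := k.gA hy ha hc ea ec
  by_cases x1 : x = 1
  · simpa [x1] using k.ar.cm k.hA
  obtain ⟨u, hu, -, e⟩ := k.rA.ex' hx x1
  rw [mul_smul, mul_smul, (inv_smul_eq_iff.2 (smul_eq_of_comm gA).symm : (a * c⁻¹)⁻¹ • A = A), mul_smul, ← cm_smul x,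
    smul_inv_smul, ← e, ← mul_smul, gA u hu, mul_smul, cm_smul]
  exact k.cmB hy ha hc ea ec

end

theorem part {a : G} (ha : a ∈ A) (a1 : a ≠ 1) : ∃ y ∈ B, y ≠ 1 ∧ ∃ c ∈ C, y • A = a⁻¹ • B ∧ y • C = c⁻¹ • B := by
  obtain ⟨y, hy, y1, e⟩ := k.rA.ex (A.inv_mem ha) (by simpa using a1)
  obtain ⟨c, hc, -, e'⟩ := k.rC.ex' hy y1
  exact ⟨y, hy, y1, c⁻¹, C.inv_mem hc, e, by simpa using e'.symm⟩

theorem cm_theta {w : G} (hw : ∀ y ∈ B, ∀ a ∈ A, ∀ c ∈ C, y • A = a⁻¹ • B → y • C = c⁻¹ • B → w * a * w⁻¹ = c)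
    {a : G} (ha : a ∈ A) : Cm B ((a * (w * a * w⁻¹)⁻¹) • B) := by
  by_cases a1 : a = 1
  · simpa [a1] using k.ar.cm k.hB
  obtain ⟨y, hy, -, c, hc, ea, ec⟩ := k.part ha a1
  rw [hw y hy a ha c hc ea ec]; exact k.cmB hy ha hc ea ec

section
variable {y a c : G} (hy : y ∈ B) (ha : a ∈ A) (hc : c ∈ C) (ea : y • A = a⁻¹ • B) (ec : y • C = c⁻¹ • B)
include hy ha hc ea ec

theorem cm_sq : Cm B (((a * c⁻¹) * (a * c⁻¹)) • B) := by
  have := k.cm_theta (fun _ hy' _ ha' _ hc' => k.w_conj hy ha hc ea ec hy' ha' hc') (A.mul_mem ha ha)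
  rw [show ∀ w : G, w * (a * a) * w⁻¹ = (w * a * w⁻¹) * (w * a * w⁻¹) by intro w; group,
    k.w_conj hy ha hc ea ec hy ha hc ea ec] at this
  rwa [show a * c⁻¹ * (a * c⁻¹) = a * a * (c * c)⁻¹ by rw [mul_assoc, ← mul_assoc c⁻¹, ← k.cm a ha _ (C.inv_mem hc)]; group]

/-- the commutator `[w, g]` centralizes `A` and `B` -/
theorem z_comm {g w : G} (hg : g = a * c⁻¹) (hw : w = y⁻¹ * (g * y * g⁻¹)) :
    (∀ x ∈ A, (w * g * w⁻¹ * g⁻¹) * x = x * (w * g * w⁻¹ * g⁻¹)) ∧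
      ∀ x ∈ B, (w * g * w⁻¹ * g⁻¹) * x = x * (w * g * w⁻¹ * g⁻¹) := by
  have gA := k.gA hy ha hc ea ec
  have wB := k.wB hy ha hc ea ec
  have wa := k.w_conj hy ha hc ea ec hy ha hc ea ec
  have c2 := k.cm_pow hy ha hc ea ec (B.mul_mem hy hy)
  have wA := k.wA hy ha hc ea ec
  have cB := k.cmB hy ha hc ea ec
  have cs := k.cm_sq hy ha hc ea ec
  rw [← hg] at gA wB wa c2 wA cB cs
  rw [← hw] at wB wa wA
  have e2 : (y * y)⁻¹ * (g * (y * y) * g⁻¹) = w * w := by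
    have := cB _ (B.inv_mem hy) _ (conj_mem hy g)
    calc _ = y⁻¹ * (y⁻¹ * (g * y * g⁻¹)) * (g * y * g⁻¹) := by group
      _ = _ := by rw [this, hw]; group
  rw [e2, mul_smul, wA] at c2
  refine ⟨fun x hx => ?_, fun x hx => ?_⟩
  · have a1 : Commute c x := (k.cm x hx c hc).symm
    have a2 : Commute (w * c * w⁻¹) x := (c2 x hx _ (conj_mem hc w)).symm
    have a3 : Commute g x := gA x hx
    rw [show w * g * w⁻¹ = (w * a * w⁻¹) * (w * c * w⁻¹)⁻¹ by rw [hg]; group, wa]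
    exact ((a1.mul_left a2.inv_left).mul_left a3.inv_left).eq
  · have a1 : Commute w x := wB x hx
    have a2 : Commute (g * y * g⁻¹) x := (cB x hx _ (conj_mem hy g)).symm
    have a3 : Commute (g * g * y * (g * g)⁻¹) x := (cs x hx _ (conj_mem hy _)).symm
    rw [show w * g * w⁻¹ * g⁻¹ = w * ((g * y * g⁻¹)⁻¹ * (g * g * y * (g * g)⁻¹))⁻¹ by rw [hw]; group]
    exact (a1.mul_left (a2.inv_left.mul_left a3).inv_left).eq

end

theorem sp : Sp A B := k.rA.special_of_inv fun a ha a1 y hy ea => by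
  have y1 : y ≠ 1 := by rintro rfl; exact k.rA.smul_ne (A.inv_mem ha) (by simpa using ea.symm)
  obtain ⟨c, hc, -, ec⟩ := k.rC.ex' hy y1
  replace ec : y • C = c⁻¹⁻¹ • B := by simpa using ec.symm
  replace hc := C.inv_mem hc
  generalize c⁻¹ = c at ec hc
  obtain ⟨y', hy', -, c', hc', ea', ec'⟩ := k.part (A.inv_mem ha) (by simpa using a1)
  have wa := k.w_conj hy ha hc ea ec hy ha hc ea ec
  have wa' := k.w_conj hy ha hc ea ec hy' (A.inv_mem ha) hc' ea' ec'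
  obtain rfl : c' = c⁻¹ := by rw [← wa', eq_inv_iff_mul_eq_one]; conv_lhs => arg 2; rw [← wa]
                              group
  obtain ⟨zA, zB⟩ := k.z_comm hy ha hc ea ec rfl rfl
  have wB := k.wB hy ha hc ea ec
  have wB' := k.wB hy' (A.inv_mem ha) hc' ea' ec'
  have th := fun y₁ h1 a₁ h2 c₁ h3 => k.w_conj hy ha hc ea ec (y' := y₁) (a' := a₁) (c' := c₁) h1 h2 h3
  have th' := fun y₁ h1 a₁ h2 c₁ h3 => k.w_conj hy' (A.inv_mem ha) hc' ea' ec' (y' := y₁) (a' := a₁) (c' := c₁) h1 h2 h3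
  have cB := k.cmB hy ha hc ea ec
  have cs := k.cm_sq hy ha hc ea ec
  have gn := k.g_ne hy ha hc ea ec
  have eg : a⁻¹ * c⁻¹⁻¹ = (a * c⁻¹)⁻¹ := by rw [mul_inv_rev, k.cm _ (A.inv_mem ha) _ (C.inv_mem (C.inv_mem hc))]
  rw [eg] at wB' th'
  obtain ⟨g, hg⟩ : ∃ g, g = a * c⁻¹ := ⟨_, rfl⟩
  rw [← hg] at zA zB wB wB' th th' cB cs gn wa
  obtain ⟨w, hw⟩ : ∃ w, w = y⁻¹ * (g * y * g⁻¹) := ⟨_, rfl⟩
  obtain ⟨w', hw'⟩ : ∃ w, w = y'⁻¹ * (g⁻¹ * y' * g⁻¹⁻¹) := ⟨_, rfl⟩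
  rw [← hw] at zA zB wB th wa
  rw [← hw'] at wB' th'
  have z1A : ∀ x ∈ A, Commute (w'⁻¹ * w) x := fun x hx => by
    by_cases x1 : x = 1
    · simp [x1]
    obtain ⟨y₁, h1, -, c₁, h3, e1, e2⟩ := k.part hx x1
    have := (th y₁ h1 x hx c₁ h3 e1 e2).trans (th' y₁ h1 x hx c₁ h3 e1 e2).symm
    calc w'⁻¹ * w * x = w'⁻¹ * (w * x * w⁻¹) * w := by group
      _ = _ := by rw [this]; group
  have z1B : ∀ x ∈ B, Commute (w'⁻¹ * w) x := fun x hx => (Commute.inv_left (wB' x hx)).mul_left (wB x hx)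
  have ww : Commute w' w := by
    have a1 : Commute w' y := wB' y hy
    have a2 : Commute y' (g * y * g⁻¹) := cB y' hy' _ (conj_mem hy g)
    have a3 : Commute (g⁻¹ * y' * g⁻¹⁻¹) (g * y * g⁻¹) :=
      (cs.smul g⁻¹) _ (conj_mem hy' _) _ (by rw [mul_smul, inv_smul_smul]; exact conj_mem hy g)
    rw [hw]; exact a1.inv_right.mul_right (hw' ▸ a2.inv_left.mul_left a3)
  have z1w : Commute (w'⁻¹ * w) w := ww.inv_left.mul_left rfl
  have z1g : Commute (w'⁻¹ * w) g := by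
    rw [hg, ← wa]
    exact (z1A a ha).mul_right ((z1w.mul_right (z1A a ha)).mul_right z1w.inv_right).inv_right
  have e : g * (y * y') * g⁻¹ = ((w'⁻¹ * w) * (w * g * w⁻¹ * g⁻¹)) * (y * y') := by
    have m := B.mul_mem hy hy'
    rw [mul_assoc _ _ (y * y'), zB _ m, ← mul_assoc (w'⁻¹ * w), (z1B _ m).eq]
    have e1 : g * y * g⁻¹ = y * w := by rw [hw]; group
    have e2 : g * y' * g⁻¹ = y' * (g * w'⁻¹ * g⁻¹) := by rw [hw']; group
    calc _ = (g * y * g⁻¹) * (g * y' * g⁻¹) := by group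
      _ = y * (w * y') * (g * (w'⁻¹ * w)) * w⁻¹ * g⁻¹ := by rw [e1, e2]; group
      _ = y * y' * (w * (w'⁻¹ * w)) * g * w⁻¹ * g⁻¹ := by rw [wB y' hy', ← z1g.eq]; group
      _ = _ := by rw [← z1w.eq]; group
  have : y * y' = 1 := by
    by_contra n1
    have m := B.mul_mem hy hy'
    have := k.ar.no_shift k.hA k.rA.symm (k.ar.cm k.hB) (fun x hx => ((z1B x hx).mul_left (zB x hx)).eq)
      (fun x hx => ((z1A x hx).mul_left (zA x hx)).eq) m n1 (k.ar.smul k.hB g) (e ▸ conj_mem m g)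
    rw [this, one_mul] at e
    exact gn (k.ar.ti ⟨A, k.hA, k.rA.symm⟩ (k.ar.smul k.hB g) m (e ▸ conj_mem m g) n1).symm
  rw [inv_eq_of_mul_eq_one_right this, ea', inv_inv]

theorem rev {le : Subgroup G → Subgroup G → Prop} (tr : ∀ U V W, le U V → le V W → le U W)
    (sm : ∀ U V (g : G), le U V → le (g • U) (g • V)) (nr : ∀ U ∈ S, ∀ V, le U V → ¬ R1 U V) (l : le A C) : le C A := by
  have key : ∀ a ∈ A, a ≠ 1 → ∃ c ∈ C, le B ((a * c⁻¹) • B) ∧ (le ((a * c⁻¹) • B) B → le C A) := fun a ha a1 => by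
    obtain ⟨y, hy, -, c, hc, ea, ec⟩ := k.part ha a1
    refine ⟨c, hc, ?_, fun q => ?_⟩
    · have := sm _ _ (a * y) l
      rwa [mul_smul, mul_smul, ea, ec, smul_inv_smul, ← mul_smul] at this
    · have := sm _ _ (a * y)⁻¹ q
      rwa [mul_inv_rev, mul_smul, mul_smul, mul_smul, inv_smul_smul, ← ea, ← ec, inv_smul_smul, inv_smul_smul] at this
  obtain ⟨a, ha, a1⟩ := k.rA.exists_ne
  obtain ⟨c, hc, l1, q⟩ := key a ha a1
  obtain ⟨c', hc', l2, -⟩ := key a⁻¹ (A.inv_mem ha) (by simpa using a1)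
  have l3 := tr _ _ _ l1 (sm _ _ (a * c⁻¹) l2)
  have e : a * c⁻¹ * (a⁻¹ * c'⁻¹) = c⁻¹ * c'⁻¹ := by rw [k.cm a ha _ (C.inv_mem hc)]; group
  rw [← mul_smul, e] at l3
  have e1 : c⁻¹ * c'⁻¹ = 1 := by
    by_contra n1
    exact nr B k.hB _ l3 (k.rC.r1_smul (C.mul_mem (C.inv_mem hc) (C.inv_mem hc')) n1)
  have := sm _ _ (a * c⁻¹) l2
  rw [← mul_smul, e, e1, one_smul] at this
  exact q this

end Cfg

namespace AR
variable {S : Set (Subgroup G)} (h : AR S)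
include h

theorem le_of_forall {K : Subgroup G} (hK : ∀ A ∈ S, A ≤ K) : K = ⊤ := eq_top_iff.2 (h.generates ▸ iSup₂_le hK)

theorem exists_cfg (hc : IsConjClassOfSubgroups S) (hF : ∀ A ∈ S, NI S A) (hd : IsDegenerateRootSet S) {A C : Subgroup G}
    (hA : A ∈ S) (hC : C ∈ S) : ∃ D ∈ S, R1 C D ∧ R1 A D ∨ R1 C A := by
  by_contra hn
  push Not at hn
  obtain ⟨D₀, hD₀, r₀⟩ := hF C hC
  set K := ⨆ D ∈ rankOnePartners S C, D with hK
  have lK : ∀ D ∈ S, R1 C D → D ≤ K := fun D hD r => le_iSup₂_of_le D ⟨hD, r⟩ le_rfl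
  have lC : C ≤ K := by
    obtain ⟨c, hc, c1⟩ := r₀.exists_ne
    obtain ⟨d, hd, -, e⟩ := r₀.ex hc c1
    rw [(eq_inv_smul_iff.2 e : C = d⁻¹ • c • D₀)]
    exact smul_le (lK _ (h.smul hD₀ c) (by simpa only [smul_of_mem hc] using r₀.smul c)) (K.inv_mem (lK _ hD₀ r₀ hd))
  have k : ∀ e : G, e • C = C → e • K ≤ K := fun e he => by
    rw [hK]
    change Subgroup.map _ _ ≤ _
    simp only [Subgroup.map_iSup]
    exact iSup₂_le fun D hD => lK (e • D) (h.smul hD.1 e) (by simpa only [he] using R1.smul hD.2 e)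
  have n : ∀ g : G, g • K = K := h.top_ind (fun E hE e he => by
    rcases h.tri hC hE with c | r | t
    · refine le_antisymm (k e (c.symm.smul_eq he)) ?_
      simpa using smul_mono (k _ (c.symm.smul_eq (E.inv_mem he))) e
    · exact smul_of_mem (lK E hE r he)
    · exact absurd t (hd C hC E hE)) (one_smul _ _) fun x y p q => by rw [mul_smul, q, p]
  have := h.le_of_forall (K := K) fun E hE => by
    obtain ⟨g, rfl⟩ := hc.2 C hC E hE
    exact (smul_mono lC g).trans (n g).le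
  obtain ⟨B, hB, r⟩ := hF A hA
  refine r.not_cm (Cm.symm (cm_iff_le.2 (le_top.trans (this.ge.trans (iSup₂_le fun D hD => cm_iff_le.1 ?_)))))
  rcases h.tri hA hD.1 with c | r | t
  · exact c.symm
  · exact absurd r ((hn D hD.1).1 hD.2)
  · exact absurd t (hd A hA D hD.1)

theorem ni_of_nd (hc : IsConjClassOfSubgroups S) (nd : IsNondegenerateRootSet S) : ∀ A ∈ S, NI S A := by
  obtain ⟨A, hA, B, hB, r⟩ := nd.2.1
  exact fun C hC => h.ni_of_class hc hA ⟨B, hB, r⟩ hC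

theorem exists_ln (hc : IsConjClassOfSubgroups S) (hF : ∀ A ∈ S, NI S A) (h3 : ∃ A ∈ S, ∃ B ∈ S, T3 S A B) {A : Subgroup G}
    (hA : A ∈ S) : (∃ U, Ln S A U) ∧ ∃ U ∈ S, ∃ V ∈ S, ⁅U, V⁆ = A := by
  obtain ⟨U, hU, V, hV, t⟩ := h3
  obtain ⟨g, rfl⟩ := hc.2 _ t.mem A hA
  exact ⟨⟨g • U, h.ln_smul ((h.ln_cmt hU (hF U hU) t).symm hU) g⟩, _, h.smul hU g, _, h.smul hV g, (smul_cmt _ _ _).symm⟩

theorem path_of_r1 {A B U : Subgroup G} (hA : A ∈ S) (hB : B ∈ S) (r : R1 A B) (l : Ln S A U) :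
    ∃ E ∈ S, E ∈ membersIn S (A ⊔ U) ∧ Ln S A E ∧ T3 S B E ∧ T3 S A ⁅B, E⁆ ∧ ⁅A, ⁅B, E⁆⁆ = E := by
  obtain ⟨E, hE, t, t1, e, q⟩ := h.line_struct hA hB r l
  exact ⟨E, hE, ⟨hE, le_sup_right.trans q.le⟩, by simpa only [e] using h.ln_cmt hA ⟨B, hB, r⟩ t1, t, t1, e⟩

theorem sp_of_ln {A B U : Subgroup G} (hA : A ∈ S) (hB : B ∈ S) (r : R1 A B) (l : Ln S A U) : Sp A B := by
  obtain ⟨E, hE, -, -, t, t1, e⟩ := h.path_of_r1 hA hB r l
  obtain ⟨d, hd, d1⟩ := h.exists_ne t.mem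
  obtain ⟨a, ha, a1⟩ := h.exists_ne hA
  refine Cfg.sp ⟨h, hA, hB, h.smul hA d, r, by simpa only [t.cmA.smul_eq hd] using r.smul d, h.t3_cm_smul hA t1 hd,
    fun q => ?_⟩
  have := t1.sup_smul hd d1
  rw [← q, sup_idem] at this
  obtain ⟨x, hx, x1⟩ := h.exists_ne t1.mem
  exact h.t3_ne_cmt t1 (h.ti ⟨B, hB, r⟩ t1.mem (this ▸ Subgroup.mem_sup_right hx) hx x1)

theorem sp_of_deg (hc : IsConjClassOfSubgroups S) (hd : IsDegenerateRootSet S) {A B C : Subgroup G} (hA : A ∈ S) (hB : B ∈ S)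
    (r : R1 A B) (hC : C ∈ S) (ne : A ≠ C) (c : Cm A C)
    (hH : (∃ a ∈ A, a ^ 2 ≠ 1 ∧ a ^ 3 ≠ 1) ∨ ∃ K ≤ A ⊔ B, ⁅K, K⁆ = K ∧ ∃ a ∈ A, a ∈ K ∧ a ≠ 1) : Sp A B := by
  have hF : ∀ E ∈ S, NI S E := fun E hE => h.ni_of_class hc hA ⟨B, hB, r⟩ hE
  by_contra hn
  have tri : ∀ {U V}, U ∈ S → V ∈ S → Cm U V ∨ R1 U V := fun hU hV =>
    (h.tri hU hV).imp_right fun k => k.resolve_right (hd _ hU _ hV)
  have k1 : ∀ E ∈ S, E ≠ A → Cm A E → Cm E B := fun E hE n cE =>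
    (tri hE hB).resolve_right fun r' => hn (Cfg.sp ⟨h, hA, hB, hE, r, r', cE, n.symm⟩)
  have k2 : ∀ E ∈ S, E ≠ B → Cm B E → Cm E A := fun E hE n cE =>
    (tri hE hA).resolve_right fun r' => hn (Cfg.sp ⟨h, hB, hA, hE, r.symm, r', cE, n.symm⟩).symm
  have cB := k1 C hC ne.symm c
  obtain ⟨D, hD, ⟨rC, rA⟩ | rC⟩ := h.exists_cfg hc hF hd hA hC
  swap
  · exact rC.not_cm c.symm
  have k : Cfg S A D C := ⟨h, hA, hD, hC, rA, rC, c, ne⟩
  rcases hH with ⟨a₀, ha₀, o2, o3⟩ | ⟨K, lK, pK, a₀, ha₀, m₀, a1⟩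
  · obtain ⟨x, -, ex⟩ := rA.exists_smul_eq
    have hy := conj_mem_of_eq ex ha₀
    have y2 : (x * a₀ * x⁻¹) ^ 2 ≠ 1 := by rw [conj_pow]; simpa using o2
    have y3 : (x * a₀ * x⁻¹) ^ 3 ≠ 1 := by rw [conj_pow]; simpa using o3
    generalize x * a₀ * x⁻¹ = y at hy y2 y3
    have y1 : y ≠ 1 := by rintro rfl; simp at y2
    obtain ⟨a, ha, a1, ea⟩ := rA.ex' hy y1
    obtain ⟨c₀, hc₀, -, ec⟩ := rC.ex' hy y1
    replace ea : y • A = a⁻¹⁻¹ • D := by simpa using ea.symm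
    replace ec : y • C = c₀⁻¹⁻¹ • D := by simpa using ec.symm
    replace ha := A.inv_mem ha
    replace hc₀ := C.inv_mem hc₀
    replace a1 : a⁻¹ ≠ 1 := by simpa using a1
    generalize a⁻¹ = a at ea ha a1
    generalize c₀⁻¹ = c₀ at ec hc₀
    obtain ⟨zA, zD⟩ := k.z_comm hy ha hc₀ ea ec rfl rfl
    have wa := k.w_conj hy ha hc₀ ea ec hy ha hc₀ ea ec
    have wD := k.wB hy ha hc₀ ea ec
    have cp := fun x hx => k.cm_pow hy ha hc₀ ea ec (x := x) hx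
    have cD := k.cmB hy ha hc₀ ea ec
    have gA := k.gA hy ha hc₀ ea ec
    have gn := k.g_ne hy ha hc₀ ea ec
    obtain ⟨g, hg⟩ : ∃ g, g = a * c₀⁻¹ := ⟨_, rfl⟩
    rw [← hg] at zA zD wa wD cp cD gA gn
    have pw : ∀ i : ℕ, (y ^ i)⁻¹ * (g * y ^ i * g⁻¹) = (y⁻¹ * (g * y * g⁻¹)) ^ i := fun i => by
      rw [Commute.mul_pow (cD _ (D.inv_mem hy) _ (conj_mem hy g)), inv_pow, conj_pow]
    have cen : ∀ i : ℕ, y ^ i ≠ 1 → ∀ b ∈ B,
        Commute ((y⁻¹ * (g * y * g⁻¹)) ^ i * a * ((y⁻¹ * (g * y * g⁻¹)) ^ i)⁻¹) b := fun i hi b hb => by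
      refine k1 _ (h.smul hA _) (fun e => gn ?_) (pw i ▸ cp _ (D.pow_mem hy i)) _ (conj_mem ha _) b hb
      rw [← pw, mul_smul, inv_smul_eq_iff, mul_smul, (inv_smul_eq_iff.2 (smul_eq_of_comm gA).symm : g⁻¹ • A = A),
        mul_smul] at e
      obtain ⟨u, hu, -, q⟩ := rA.ex' (D.pow_mem hy i) hi
      rwa [← q, ← mul_smul, gA u hu, mul_smul, smul_left_cancel_iff] at e
    obtain ⟨w, hw⟩ : ∃ w, w = y⁻¹ * (g * y * g⁻¹) := ⟨_, rfl⟩
    rw [← hw] at zA zD wa wD cen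
    have zw : Commute (w * g * w⁻¹ * g⁻¹) w := by
      have cs := k.cm_sq hy ha hc₀ ea ec
      rw [← hg] at cs
      have a1 : Commute w (g * y * g⁻¹) := hw ▸ Commute.mul_left (cD _ (D.inv_mem hy) _ (conj_mem hy g)) rfl
      have a2 : Commute w (g * g * y * (g * g)⁻¹) := hw ▸ Commute.mul_left (cs _ (D.inv_mem hy) _ (conj_mem hy _))
        ((cD.smul g) _ (conj_mem hy g) _ (by rw [← mul_smul]; exact conj_mem hy _))
      rw [show w * g * w⁻¹ * g⁻¹ = w * ((g * y * g⁻¹)⁻¹ * (g * g * y * (g * g)⁻¹))⁻¹ by rw [hw]; group]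
      exact Commute.mul_left rfl (a1.symm.inv_left.mul_left a2.symm).inv_left
    obtain ⟨z, hz⟩ : ∃ z, z = w * g * w⁻¹ * g⁻¹ := ⟨_, rfl⟩
    rw [← hz] at zA zD zw
    have f2 : w ^ 2 * a * (w ^ 2)⁻¹ = c₀ * (z * a)⁻¹ * c₀ := by
      calc _ = w * (w * a * w⁻¹) * w⁻¹ := by rw [pow_two]; group
        _ = (w * a * w⁻¹) * (w * (a * c₀⁻¹) * w⁻¹ * (a * c₀⁻¹)⁻¹ * a)⁻¹ * c₀ := by
          rw [show w * (a * c₀⁻¹) * w⁻¹ = (w * a * w⁻¹) * (w * c₀ * w⁻¹)⁻¹ by group, wa]; group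
        _ = _ := by rw [wa, hz, hg]
    have f3 : w ^ 3 * a * (w ^ 3)⁻¹ = (w ^ 2 * a * (w ^ 2)⁻¹) * (z * c₀)⁻¹ * (w ^ 2 * a * (w ^ 2)⁻¹) := by
      calc _ = w * (w ^ 2 * a * (w ^ 2)⁻¹) * w⁻¹ := by rw [pow_succ' w 2]; group
        _ = (w * c₀ * w⁻¹) * (w * z * (a * w⁻¹))⁻¹ * (w * c₀ * w⁻¹) := by rw [f2]; group
        _ = _ := by rw [← zw.eq, ← wa, pow_two]; group
    refine a1 (r.eq_one ha (smul_eq_of_comm fun b hb => ?_))
    have c1 : Commute c₀ b := cB c₀ hc₀ b hb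
    have g2 := cen 2 y2 b hb
    have g3 := cen 3 y3 b hb
    rw [f3] at g3
    have g4 := ((g2.inv_left.mul_left g3).mul_left g2.inv_left).inv_left.mul_left c1.inv_left
    have g5 : Commute z b := by simpa [mul_assoc] using g4
    rw [f2] at g2
    have g6 := g5.inv_left.mul_left ((c1.inv_left.mul_left g2).mul_left c1.inv_left).inv_left
    have : Commute a b := by simpa [mul_assoc] using g6
    exact this
  · have rB : R1 B D := ((tri hD hB).resolve_left fun q => rA.not_cm (k2 D hD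
      (fun e => rC.not_cm (e ▸ cB)) q.symm).symm).symm
    have k' : Cfg S B D C := ⟨h, hB, hD, hC, rB, rC, cB.symm, fun e => r.not_cm (e ▸ c)⟩
    obtain ⟨y, hy, y1, c₀, hc₀, ea, ec⟩ := k.part ha₀ a1
    obtain ⟨b₀, hb₀, -, eb⟩ := rB.ex' hy y1
    replace eb : y • B = b₀⁻¹⁻¹ • D := by simpa using eb.symm
    have th := fun y₁ h1 a₁ h2 c₁ h3 => k.w_conj hy ha₀ hc₀ ea ec (y' := y₁) (a' := a₁) (c' := c₁) h1 h2 h3
    have th' := fun y₁ h1 a₁ h2 c₁ h3 => k'.w_conj hy (B.inv_mem hb₀) hc₀ eb ec (y' := y₁) (a' := a₁) (c' := c₁) h1 h2 h3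
    have wA := k.wA hy ha₀ hc₀ ea ec
    have wB := k'.wA hy (B.inv_mem hb₀) hc₀ eb ec
    generalize y⁻¹ * (a₀ * c₀⁻¹ * y * (a₀ * c₀⁻¹)⁻¹) = w at th wA
    generalize y⁻¹ * (b₀⁻¹ * c₀⁻¹ * y * (b₀⁻¹ * c₀⁻¹)⁻¹) = w' at th' wB
    let σ : Subgroup G → Set (Subgroup G) := fun E => {U | U ∈ S ∧ U ≠ E ∧ Cm E U}
    have σs : ∀ (g : G) E F, σ E = σ F → σ (g • E) = σ (g • F) := fun g E F e => by
      have : ∀ E U, U ∈ σ (g • E) ↔ g⁻¹ • U ∈ σ E := fun E U =>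
        ⟨fun q => ⟨h.smul q.1 _, fun e => q.2.1 (inv_smul_eq_iff.1 e), by simpa using q.2.2.smul g⁻¹⟩,
          fun q => ⟨by simpa using h.smul q.1 g, fun e => q.2.1 (inv_smul_eq_iff.2 e), by simpa using q.2.2.smul g⟩⟩
      ext U; rw [this, this, e]
    have σAB : σ A = σ B := Set.ext fun U =>
      ⟨fun q => ⟨q.1, fun e => r.not_cm (e ▸ q.2.2), (k1 U q.1 q.2.1 q.2.2).symm⟩,
        fun q => ⟨q.1, fun e => r.symm.not_cm (e ▸ q.2.2), (k2 U q.1 q.2.1 q.2.2).symm⟩⟩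
    have p1 : ∀ a ∈ A, σ ((w'⁻¹ * w * a * (w'⁻¹ * w)⁻¹) • D) = σ (a • D) := fun a ha => by
      by_cases a1 : a = 1
      · simp [a1]
      obtain ⟨y, hy, y1, c, hc, ea, ec⟩ := k.part (A.inv_mem ha) (by simpa using a1)
      obtain ⟨b, hb, -, eb⟩ := rB.ex' hy y1
      have q := (th y hy _ (A.inv_mem ha) c hc ea ec).trans (th' y hy _ (B.inv_mem hb) c hc (by simpa using eb.symm) ec).symm
      have : w'⁻¹ * w * a * (w'⁻¹ * w)⁻¹ = b := by
        calc _ = w'⁻¹ * (w * a⁻¹ * w⁻¹)⁻¹ * w' := by group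
          _ = _ := by rw [q]; group
      rw [this, eb, ← inv_inv a, ← ea]
      exact (σs y _ _ σAB).symm
    have p2 : ∀ x ∈ A ⊔ B, ∃ a ∈ A, ∀ a' ∈ A, σ (x • a' • D) = σ (a • a' • D) := by
      refine sup_ind (fun x hx => ⟨x, hx, fun _ _ => rfl⟩) (fun x hx => ?_) ?_
      · have vA : (w'⁻¹ * w) • A = B := by rw [mul_smul, wA, ← wB, inv_smul_smul]
        obtain ⟨a, ha, rfl⟩ := exists_of_mem_smul (vA ▸ hx : x ∈ (w'⁻¹ * w) • A)
        refine ⟨a, ha, fun a' ha' => ?_⟩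
        rw [← σs _ _ _ (p1 a' ha'), ← mul_smul, ← mul_smul a, ← p1 _ (A.mul_mem ha ha')]
        congr 2; group
      · rintro x - x' - ⟨a, ha, q⟩ ⟨a', ha', q'⟩
        refine ⟨a * a', A.mul_mem ha ha', fun u hu => ?_⟩
        rw [mul_smul, σs x _ _ (q' u hu), ← mul_smul a', q _ (A.mul_mem ha' hu), mul_smul, mul_smul]
    let N : Subgroup G :=
      { carrier := {x | ∀ a' ∈ A, σ (x • a' • D) = σ (a' • D)}
        one_mem' := fun a _ => by rw [one_smul]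
        mul_mem' := fun {x x'} q q' a ha => by rw [mul_smul, σs x _ _ (q' a ha), q a ha]
        inv_mem' := fun {x} q a ha => by rw [← σs x⁻¹ _ _ (q a ha), inv_smul_smul] }
    have : K ≤ N := by
      rw [← pK]
      refine Subgroup.commutator_le.2 fun x hx x' hx' u hu => ?_
      obtain ⟨a, ha, q⟩ := p2 x (lK hx)
      obtain ⟨a', ha', q'⟩ := p2 x' (lK hx')
      have m := A.mul_mem (A.inv_mem (A.mul_mem ha ha')) hu
      have e1 : σ ((x' * x) • ((a * a')⁻¹ * u) • D) = σ (u • D) := by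
        rw [mul_smul, σs x' _ _ (q _ m), ← mul_smul a, q' _ (A.mul_mem ha m), ← mul_smul, ← mul_assoc, ← mul_assoc,
          h.cm hA a' ha' a ha, mul_inv_cancel, one_mul]
      have e2 : σ ((x * x') • ((a * a')⁻¹ * u) • D) = σ (u • D) := by
        rw [mul_smul, σs x _ _ (q' _ m), ← mul_smul a', q _ (A.mul_mem ha' m), ← mul_smul, ← mul_assoc, ← mul_assoc,
          mul_inv_cancel, one_mul]
      rw [commutatorElement_def, mul_assoc (x * x'), ← mul_inv_rev, mul_smul, ← σs _ _ _ (σs (x' * x)⁻¹ _ _ e1),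
        inv_smul_smul, e2]
    have q := this (K.inv_mem m₀) 1 A.one_mem
    rw [one_smul, ← ea] at q
    have q' := σs y⁻¹ _ _ q
    rw [inv_smul_smul, smul_of_mem (D.inv_mem hy)] at q'
    exact absurd (q' ▸ (⟨hC, ne.symm, c⟩ : C ∈ σ A) : C ∈ σ D).2.2.symm rC.not_cm

theorem conn_E (hc : IsConjClassOfSubgroups S) (nd : IsNondegenerateRootSet S) : IsConnectedFamily (EAdj S S) S := by
  have hF := h.ni_of_nd hc nd
  have sm : ∀ {A B : Subgroup G} (g : G), Relation.ReflTransGen (EAdj S S) A B →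
      Relation.ReflTransGen (EAdj S S) (g • A) (g • B) := fun g r => by
    induction r with
    | refl => rfl
    | tail _ k ih => exact .tail ih ⟨h.smul k.1 g, h.smul k.2.1 g, h.ln_smul k.2.2 g⟩
  have k : ∀ A ∈ S, ∀ B ∈ S, R1 A B → Relation.ReflTransGen (EAdj S S) A B := fun A hA B hB r => by
    obtain ⟨⟨U, l⟩, -⟩ := h.exists_ln hc hF nd.2.2 hA
    obtain ⟨E, hE, -, l1, t, t1, e⟩ := h.path_of_r1 hA hB r l
    have l2 := h.ln_cmt hE (hF E hE) t.symm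
    rw [Subgroup.commutator_comm] at l2
    exact .tail (.tail (.single ⟨hA, hE, l1⟩) ⟨hE, t.mem, l2⟩) ⟨t.mem, hB, (h.ln_cmt hB (hF B hB) t).symm hB⟩
  intro A hA B hB
  obtain ⟨g, rfl⟩ := hc.2 A hA B hB
  refine h.top_ind (p := fun g => Relation.ReflTransGen (EAdj S S) A (g • A)) (fun E hE e he => ?_)
    (by rw [one_smul]) (fun x y p q => by rw [mul_smul]; exact p.trans (sm x q)) g
  rcases h.tri hA hE with c | r | t
  · rw [c.symm.smul_eq he]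
  · exact (k A hA E hE r).trans (k E hE _ (h.smul hA e) (by simpa only [smul_of_mem he] using r.symm.smul e))
  · by_cases q : e • A = A
    · rw [q]
    · exact .single ⟨hA, h.smul hA e, h.ln_smul_of_t3 hF hA t he q⟩

theorem gen_ln (hc : IsConjClassOfSubgroups S) (nd : IsNondegenerateRootSet S) {A B Y : Subgroup G} (hA : A ∈ S) (hB : B ∈ S)
    (r : R1 A B) (h1 : ∀ U, Ln S A U → U ≤ Y) (h2 : B ≤ Y) : Y = ⊤ := by
  have hF := h.ni_of_nd hc nd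
  have lA : A ≤ Y := by
    obtain ⟨⟨U, l⟩, -⟩ := h.exists_ln hc hF nd.2.2 hA
    obtain ⟨F, hF', le, n1, n2⟩ := h.exists_third hA l
    have q1 := h.ln_of_mem hF hA l ⟨hA, le_sup_left⟩ ⟨hF', le⟩ n1.symm
    have q2 := h.ln_of_mem hF hA l ⟨l.mem, le_sup_right⟩ ⟨hF', le⟩ n2.symm
    exact le_sup_left.trans (q2.2.ge.trans (sup_le (h1 U l) (h1 F q1.1)))
  have orb : ∀ y ∈ Y, ∀ U, Ln S (y • A) U → U ≤ Y := fun y hy U l => by
    have := smul_le (h1 _ (by simpa using h.ln_smul l y⁻¹)) hy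
    rwa [smul_inv_smul] at this
  -- every orbit member has an opposite orbit member
  have opp : ∀ y ∈ Y, ∃ y' ∈ Y, R1 (y • A) (y' • A) := fun y hy => by
    obtain ⟨x, hx, e⟩ := r.exists_smul_eq
    exact ⟨y * x, Y.mul_mem hy (sup_le lA h2 hx), by rw [mul_smul, e]; exact r.smul y⟩
  have step : ∀ y ∈ Y, ∀ U, Ln S (y • A) U → (∃ y' ∈ Y, U = y' • A) ∨
      ∃ y' ∈ Y, T3 S (y' • A) U ∧ T3 S (y • A) ⁅y' • A, U⁆ ∧ ⁅y • A, ⁅y' • A, U⁆⁆ = U := fun y hy U l => by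
    obtain ⟨y', hy', r'⟩ := opp y hy
    obtain ⟨E, hE, t, t1, e, q⟩ := h.line_struct (h.smul hA y) (h.smul hA y') r' l
    have := (h.line_members (h.smul hA y) (hF _ (h.smul hA y)) t1 (E := U)).1 ⟨l.mem, by rw [e, q]; exact le_sup_right⟩
    rcases this with ⟨d, hd, rfl⟩ | e'
    · exact Or.inl ⟨d * y, Y.mul_mem (orb y' hy' _ (h.ln_cmt (h.smul hA y') (hF _ (h.smul hA y')) t) hd) hy,
        (mul_smul _ _ _).symm⟩
    · rw [e] at e'; subst e'; exact Or.inr ⟨y', hy', t, t1, e⟩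
  have step2 : ∀ y ∈ Y, ∀ U, Ln S (y • A) U → ∃ y' ∈ Y, U = y' • A := fun y hy U l => by
    rcases step y hy U l with q | ⟨y', hy', t, t1, e⟩
    · exact q
    have hB' := h.smul hA y'
    have lD := h.ln_cmt hB' (hF _ hB') t
    obtain ⟨P, hP, tP, eP⟩ := h.exists_cmt_eq hF t.mem (lD.symm hB')
    have rP : R1 U P := h.r1_of_cmt hB' l.mem hP t (by rw [Subgroup.commutator_comm, eP])
    have lP : Ln S (y' • A) P := by
      have := h.ln_cmt hP (hF P hP) tP.symm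
      rw [Subgroup.commutator_comm, eP] at this
      exact this.symm hP
    have cj : ∀ P' ∈ S, R1 U P' → (∃ z ∈ Y, P' = z • A) → ∃ y' ∈ Y, U = y' • A := fun P' _ r' ⟨z, hz, e'⟩ => by
      obtain ⟨x, hx, q⟩ := r'.symm.exists_smul_eq
      exact ⟨x * z, Y.mul_mem (sup_le (e' ▸ smul_le lA hz) (orb y hy U l) hx) hz, by rw [mul_smul, ← e', q]⟩
    obtain ⟨y₂, hy₂, r₂⟩ := opp y' hy'
    obtain ⟨E, hE, t₂, t₃, e₂, q₂⟩ := h.line_struct hB' (h.smul hA y₂) r₂ lP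
    have mem : ∀ P' ∈ membersIn S (y' • A ⊔ P), P' ≠ E → ∃ z ∈ Y, P' = z • A := fun P' m n => by
      rw [← q₂, ← e₂] at m
      rcases (h.line_members hB' (hF _ hB') t₃).1 m with ⟨d, hd, rfl⟩ | e'
      · exact ⟨d * y', Y.mul_mem (orb y₂ hy₂ _ (h.ln_cmt (h.smul hA y₂) (hF _ (h.smul hA y₂)) t₂) hd) hy',
          (mul_smul _ _ _).symm⟩
      · exact absurd (e'.trans e₂) n
    by_cases n : P = E
    · obtain ⟨d, hd, d1⟩ := h.exists_ne t.mem
      have n' : d • P ≠ P := fun q => by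
        obtain ⟨p, hp, p1⟩ := h.exists_ne hP
        have := tP.symm.sup_smul hd d1
        rw [q, sup_idem, Subgroup.commutator_comm, eP] at this
        obtain ⟨x, hx, x1⟩ := h.exists_ne hB'
        exact lP.ne (h.ti (hF P hP) hB' (this ▸ Subgroup.mem_sup_right hx) hx x1)
      refine cj (d • P) (h.smul hP d) (by simpa only [t.cmB.smul_eq hd] using rP.smul d) (mem _ ⟨h.smul hP d, ?_⟩ (n ▸ n'))
      have := tP.symm.smul_le_sup hd
      rwa [Subgroup.commutator_comm, eP, sup_comm] at this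
    · exact cj P hP rP (mem P ⟨hP, le_sup_right⟩ n)
  refine h.le_of_forall fun E hE => ?_
  have : ∃ y ∈ Y, E = y • A := by
    have := h.conn_E hc nd A hA E hE
    clear hE
    induction this with
    | refl => exact ⟨1, Y.one_mem, (one_smul _ _).symm⟩
    | tail _ k ih =>
      obtain ⟨y, hy, rfl⟩ := ih
      exact step2 y hy _ k.2.2
  obtain ⟨y, hy, rfl⟩ := this
  exact smul_le lA hy

theorem ab_of_ti (hc : IsConjClassOfSubgroups S) (nd : IsNondegenerateRootSet S) {Δ : Set (Subgroup G)}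
    (hΔ : IsWeakTISubset S Δ) {A B : Subgroup G} (hA : A ∈ Δ) (hB : B ∈ Δ) : Cm A B := by
  have hF := h.ni_of_nd hc nd
  let N : Subgroup G :=
    { carrier := {x | ∀ U, x • U ∈ Δ ↔ U ∈ Δ}
      one_mem' := fun U => by rw [one_smul]
      mul_mem' := fun {x y} p q U => by rw [mul_smul, p, q]
      inv_mem' := fun {x} p U => by rw [← p, smul_inv_smul] }
  have k : ∀ E ∈ S, ∀ U ∈ Δ, (∀ e ∈ E, e • U = U) → E ≤ N := fun E hE U hU q e he => by
    by_cases e1 : e = 1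
    · rw [e1]; exact N.one_mem
    rcases hΔ.2.2.2 e ⟨e1, E, hE, he⟩ with d | d
    · intro V
      constructor
      · intro m
        rw [← d] at m
        obtain ⟨W, hW, e'⟩ := m
        rwa [← (smul_left_cancel_iff e).1 e']
      · intro m; rw [← d]; exact ⟨V, m, rfl⟩
    · exact absurd hU (Set.disjoint_left.1 d ⟨U, hU, q e he⟩)
  have k2 : ∀ A ∈ Δ, ∀ B ∈ Δ, ¬ R1 A B := fun A hA B hB r => by
    have := h.gen_ln hc nd (hΔ.1 hA) (hΔ.1 hB) r (Y := N) (fun U l => k U l.mem A hA fun e he => l.cm.symm.smul_eq he)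
      (k B (hΔ.1 hB) B hB fun e he => smul_of_mem he)
    refine hΔ.2.2.1 (hΔ.1.antisymm fun E hE => ?_)
    obtain ⟨g, rfl⟩ := hc.2 A (hΔ.1 hA) E hE
    exact ((this ▸ Subgroup.mem_top g : g ∈ N) A).2 hA
  rcases h.tri (hΔ.1 hA) (hΔ.1 hB) with c | r | t
  · exact c
  · exact absurd r (k2 A hA B hB)
  exfalso
  have lD := h.ln_cmt (hΔ.1 hA) (hF _ (hΔ.1 hA)) t
  obtain ⟨P, hP, tP, eP⟩ := h.exists_cmt_eq hF t.mem (lD.symm (hΔ.1 hA))
  have rP : R1 B P := h.r1_of_cmt (hΔ.1 hA) (hΔ.1 hB) hP t (by rw [Subgroup.commutator_comm, eP])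
  obtain ⟨x, hx, e⟩ := rP.exists_smul_eq
  have m : x ∈ N := sup_le (k B (hΔ.1 hB) B hB fun e he => smul_of_mem he)
    (k P hP A hA fun e he => (eP ▸ tP.cmB).symm.smul_eq he) hx
  exact k2 B hB P (e ▸ (m B).2 hB) rP

section Preorder
variable (hc : IsConjClassOfSubgroups S) (hF : ∀ A ∈ S, NI S A) {A C : Subgroup G} (hA : A ∈ S) (hC : C ∈ S) (ne : A ≠ C)
include hc hF hA hC ne

theorem cent_rev (l : ∀ E ∈ S, Cm E A → Cm E C) : ∀ E ∈ S, Cm E C → Cm E A := by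
  have c := l A hA (h.cm hA)
  obtain ⟨B, hB, r⟩ := hF C hC
  have r' : R1 A B := by
    rcases h.tri hA hB with c' | r' | t
    · exact absurd (l B hB c'.symm).symm r.not_cm
    · exact r'
    · exact absurd t.symm.cmA (h.ln_not_cm hB hC r.symm (h.ln_cmt hB (hF B hB) t.symm) ∘ fun _ =>
        l _ t.symm.mem t.symm.cmB)
  exact Cfg.rev (le := fun U V => ∀ E ∈ S, Cm E U → Cm E V) ⟨h, hA, hB, hC, r', r, c, ne⟩
    (fun _ _ _ p q E hE c => q E hE (p E hE c))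
    (fun U V g p E hE c => by simpa using (p _ (h.smul hE g⁻¹) (by simpa using c.smul g⁻¹)).smul g)
    (fun U hU V p r => r.not_cm (p U hU (h.cm hU))) l

theorem opp_rev (l : ∀ E ∈ S, R1 A E → R1 C E) : Cm A C ∧ ∀ E ∈ S, R1 C E → R1 A E := by
  have c : Cm A C := by
    rcases h.tri hA hC with c | r | t
    · exact c
    · exact absurd rfl (l C hC r).ne
    · exfalso
      obtain ⟨P, hP, tP, eP⟩ := h.exists_cmt_eq hF t.symm.mem ((h.ln_cmt hC (hF C hC) t.symm).symm hC)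
      have rP : R1 A P := h.r1_of_cmt hC hA hP t.symm (by rw [Subgroup.commutator_comm, eP])
      exact (l P hP rP).not_cm (eP ▸ tP.cmB)
  obtain ⟨B, hB, r⟩ := hF A hA
  exact ⟨c, (Cfg.rev (le := fun U V => V ∈ S ∧ ∀ E ∈ S, R1 U E → R1 V E) ⟨h, hA, hB, hC, r, l B hB r, c, ne⟩
    (fun _ _ _ p q => ⟨q.1, fun E hE c => q.2 E hE (p.2 E hE c)⟩)
    (fun U V g p => ⟨h.smul p.1 g, fun E hE c => by
      simpa using (p.2 _ (h.smul hE g⁻¹) (by simpa using c.smul g⁻¹)).smul g⟩)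
    (fun U _ V p r => (p.2 V p.1 r).ne rfl) ⟨hC, l⟩).2⟩

end Preorder

theorem ni_of_dn (hc : IsConjClassOfSubgroups S) (hdn : IsDegenerateRootSet S ∨ IsNondegenerateRootSet S) {A C : Subgroup G}
    (hA : A ∈ S) (hC : C ∈ S) (ne : A ≠ C) : ∀ A ∈ S, NI S A := by
  rcases hdn with hd | nd
  · by_contra hn
    push Not at hn
    obtain ⟨B, hB, n⟩ := hn
    obtain ⟨g, rfl⟩ := hc.2 A hA C hC
    refine ne (h.top_ind (p := fun g => g • A = A) (fun E hE e he => ?_) (one_smul _ _)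
      (fun x y p q => by rw [mul_smul, q, p]) g).symm
    rcases h.tri hA hE with c | r | t
    · exact c.symm.smul_eq he
    · exact absurd (h.ni_of_class hc hA ⟨E, hE, r⟩ hB) n
    · exact absurd t (hd A hA E hE)
  · exact h.ni_of_nd hc nd

theorem nd_of_t3 (hF : ∀ A ∈ S, NI S A) (h3 : ¬ IsDegenerateRootSet S) : IsNondegenerateRootSet S := by
  unfold IsDegenerateRootSet at h3
  push Not at h3
  obtain ⟨A, hA, B, hB, t⟩ := h3
  obtain ⟨D, hD, r⟩ := hF A hA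
  exact ⟨⟨A, hA, _, T3.mem t, h.t3_ne_cmt t, cm_iff.2 (T3.cmA t).symm⟩, ⟨A, hA, D, hD, r⟩, A, hA, B, hB, t⟩

theorem eq_top_of_normal (hc : IsConjClassOfSubgroups S) {N A : Subgroup G} (hN : N.Normal) (hA : A ∈ S) (le : A ≤ N) :
    N = ⊤ := h.le_of_forall fun E hE => by
  obtain ⟨g, rfl⟩ := hc.2 A hA E hE
  exact (smul_mono le g).trans (normal_smul hN g).le

/-- normal subgroups, under the hypotheses of the quasi-simplicity criterion -/
theorem normal_eq (hc : IsConjClassOfSubgroups S) (hF : ∀ A ∈ S, NI S A) (hp : Group.IsPerfect G)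
    (h2 : ∀ A ∈ S, ∀ C ∈ S, A ≠ C → ¬ ∀ E ∈ S, Cm E A ↔ Cm E C)
    (h3 : IsDegenerateRootSet S → ∀ A ∈ S, ∀ B ∈ S, R1 A B → ∀ N : Subgroup G, N.Normal → B ≤ N ⊔ A → N = ⊤)
    (N : Subgroup G) (hN : N.Normal) : N = ⊤ ∨ N ≤ Subgroup.center G := by
  rw [or_iff_not_imp_left]
  intro hne
  have ab : ∀ A ∈ S, ∀ n ∈ N, Cm A (n • A) := fun A hA n hn => by
    by_cases hd : IsDegenerateRootSet S
    · rcases h.tri hA (h.smul hA n) with c | r | t
      · exact c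
      · exact absurd (h3 hd A hA _ (h.smul hA n) r N hN (smul_le le_sup_right (Subgroup.mem_sup_left hn))) hne
      · exact absurd t (hd _ hA _ (h.smul hA n))
    by_cases q : n • A = A
    · rw [q]; exact h.cm hA
    refine h.ab_of_ti hc (h.nd_of_t3 hF hd) (Δ := {U | ∃ n ∈ N, U = n • A}) ⟨?_, ?_, fun e => hne ?_, fun d _ => ?_⟩
      ⟨1, N.one_mem, (one_smul _ _).symm⟩ ⟨n, hn, rfl⟩
    · rintro _ ⟨n, -, rfl⟩; exact h.smul hA n
    · exact ⟨_, ⟨n, hn, rfl⟩, A, ⟨1, N.one_mem, (one_smul _ _).symm⟩, q⟩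
    · refine eq_top_of_perfect hp (h.cm hA).nilpotent (h.le_of_forall fun E hE => ?_)
      rw [← e] at hE
      obtain ⟨n, hn, rfl⟩ := hE
      exact smul_le le_sup_right (Subgroup.mem_sup_left hn)
    · rw [or_iff_not_imp_right, Set.not_disjoint_iff]
      rintro ⟨_, ⟨_, ⟨n₁, h1, rfl⟩, rfl⟩, n₂, h2, e⟩
      replace e : d • n₁ • A = n₂ • A := e
      ext U
      constructor
      · rintro ⟨_, ⟨n, hn, rfl⟩, rfl⟩
        refine ⟨d * (n * n₁⁻¹) * d⁻¹ * n₂, N.mul_mem (hN.conj_mem _ (N.mul_mem hn (N.inv_mem h1)) d) h2, ?_⟩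
        rw [mul_smul, ← e]; simp [conjBy_eq, mul_smul]
      · rintro ⟨n, hn, rfl⟩
        refine ⟨_, ⟨d⁻¹ * (n * n₂⁻¹) * d * n₁, N.mul_mem (by
          simpa using hN.conj_mem _ (N.mul_mem hn (N.inv_mem h2)) d⁻¹) h1, rfl⟩, ?_⟩
        simp [conjBy_eq, mul_smul, e]
  have fx : ∀ A ∈ S, ∀ n ∈ N, n • A = A := fun A hA n hn => by
    by_contra q
    have hA' := h.smul hA n
    obtain ⟨D, hD, c1, c2⟩ : ∃ D ∈ S, Cm D A ∧ ¬ Cm D (n • A) := by
      by_contra hn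
      push Not at hn
      exact h2 A hA _ hA' (Ne.symm q) fun E hE => ⟨hn E hE, h.cent_rev hc hF hA hA' (Ne.symm q) hn E hE⟩
    have le : ⁅D, n • A⁆ ≤ N := Subgroup.commutator_le.2 fun d hd x hx => by
      obtain ⟨a, ha, rfl⟩ := exists_of_mem_smul hx
      rw [← QuotientGroup.eq_one_iff, commutatorElement_def]
      have e := congrArg (QuotientGroup.mk (s := N)) (c1 d hd a ha)
      simp only [QuotientGroup.mk_mul, QuotientGroup.mk_inv, (QuotientGroup.eq_one_iff n).2 hn] at e ⊢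
      simp [e]
    rcases h.tri hD hA' with c | r | t
    · exact c2 c
    · have nm : ∀ x ∈ n • A ⊔ D, x • (N ⊓ (n • A ⊔ D)) = N ⊓ (n • A ⊔ D) := fun x hx => by
        rw [smul_inf, normal_smul hN, smul_of_mem hx]
      rcases r.symm.normal_or nm inf_le_right with e | e
      · obtain ⟨x, hx, q⟩ := r.symm.exists_smul_eq
        obtain ⟨a, ha, m, hm, rfl⟩ := (mem_sup_of_norm fun a ha => nm a (Subgroup.mem_sup_left ha)).1
          (sup_le le_sup_left (e.trans (sup_comm _ _).le) hx)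
        have := ab _ hA' _ (hN.conj_mem m hm.1 a)
        rw [mul_smul, smul_of_mem ((n • A).inv_mem ha), q] at this
        exact c2 this.symm
      · obtain ⟨d, hd, d1⟩ := r.exists_ne
        refine (r.r1_smul hd d1).not_cm fun a ha x hx => ?_
        obtain ⟨a', ha', rfl⟩ := exists_of_mem_smul hx
        have := e _ ⟨le (cmt_mem hd ha'), sup_comm D _ ▸ cmt_le_sup _ _ (cmt_mem hd ha')⟩ a (Subgroup.mem_sup_left ha)
        rw [show d * a' * d⁻¹ = (d * a' * d⁻¹ * a'⁻¹) * a' by group, ← mul_assoc, ← this, mul_assoc, h.cm hA' a ha a' ha',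
          ← mul_assoc]
    · exact hne (h.eq_top_of_normal hc hN t.mem le)
  intro n hn
  rw [Subgroup.mem_center_iff]
  refine h.top_ind (fun A hA a ha => ?_) (by simp) fun x y p q => by rw [mul_assoc, q, ← mul_assoc, p, mul_assoc]
  obtain ⟨B, hB, r⟩ := hF A hA
  have := r.eq_one (A.mul_mem ha (conj_mem_of_eq (fx A hA n hn) (A.inv_mem ha))) (fx B hB _ (by
    rw [← mul_assoc, ← mul_assoc]; exact N.mul_mem (hN.conj_mem n hn a) (N.inv_mem hn)))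
  rw [← one_mul (n * a), ← this]; group

end AR

end Cfsg.Agent.Root
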