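import Mathlib
import Cfsg.Agent.Lib.Perm.Dick9
import Cfsg.Agent.Lib.Root.SL2

/-! Generation of `SL₂(k(λ))` by two unipotent `k`-subgroups. -/

set_option autoImplicit false

namespace Cfsg.Agent.Root
open Cfsg Matrix Polynomial

section Fin
open Cfsg.Agent.Perm Cfsg.Agent.Perm.GL2 Cfsg.Agent.Perm.Tri Subgroup MulAction

theorem sl2_gen_fin {k F : Type*} [Field k] [Field F] [Algebra k F] [Finite k] [Fintype F] (h2 : (2 : k) ≠ 0)
    (h3 : Nat.card k ≠ 3) {lam : F} (h0 : lam ≠ 0) (hs : ∀ x : F, ∃ p : k[X], aeval lam p = x)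
    {H : Subgroup (SL2 F)} (hx : ∀ c : k, xU (algebraMap k F c) ∈ H) (hy : ∀ c : k, xL (algebraMap k F c * lam) ∈ H) :
    H = ⊤ := by
  obtain ⟨p, hp⟩ := CharP.exists F
  haveI hp := Fact.mk (CharP.char_is_prime F p)
  have h2' : (2 : F) ≠ 0 := by
    rw [← map_ofNat (algebraMap k F)]; exact (_root_.map_ne_zero _).2 h2
  have hp2 : p ≠ 2 := by rintro rfl; exact h2' (CharP.cast_eq_zero F 2)
  have hvt : ∀ a : F, ph (xU a) = tr a := fun a => by
    rw [tr_eq]; exact congrArg ph (Subtype.ext (by simp))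
  have hv : ∀ c : k, ph (xU (algebraMap k F c)) ∈ H.map ph := fun c => mem_map_of_mem _ (hx c)
  have hu : ph (xL lam) ∈ H.map ph := mem_map_of_mem _ (by simpa using hy 1)
  have ho : orderOf (⟨_, hv 1⟩ : H.map ph) = p := by
    rw [orderOf_mk, hvt]; exact orderOf_eq_prime (tr_pow _) (by rw [Ne, tr_eq_one]; simp)
  have hd : p ∣ Nat.card (H.map ph) := ho ▸ _root_.orderOf_dvd_natCard _
  rcases dickson p (H.map ph) with h | h | ⟨-, x, hx'⟩ | h | ⟨h, ⟨e⟩⟩ | ⟨L, c, hL, h⟩
  · exact absurd hd h.2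
  · exact absurd h (not_dih hp2 ho)
  · exfalso
    have h1 := hx' _ (hv 1)
    have h3 := hx' _ hu
    induction x using OnePoint.rec with
    | infty => exact h0 (by simpa using GL2.smul_inf.1 h3)
    | coe a => rw [hvt, tr_coe] at h1; simp at h1
  · exact absurd hd h.1
  · exfalso
    obtain rfl : p = 3 := h.resolve_left (not_not.2 hd)
    let f : Multiplicative k →* H.map ph := MonoidHom.mk' (fun c => ⟨_, hv c.toAdd⟩) fun a b =>
      Subtype.ext (by simp only [toAdd_mul, map_add, ← xU_add, map_mul]; rfl)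
    have hf : Function.Injective f := (injective_iff_map_eq_one f).2 fun a ha => by
      have : ph (xU (algebraMap k F a.toAdd)) = 1 := congrArg Subtype.val ha
      rw [hvt, tr_eq_one, map_eq_zero] at this
      exact this
    have h4 := Subgroup.card_dvd_of_injective f hf
    rw [Nat.card_congr e.toEquiv, card_A5, Nat.card_congr Multiplicative.toAdd] at h4
    haveI := Fintype.ofFinite k
    haveI : CharP k 3 := (algebraMap k F).charP (algebraMap k F).injective 3
    obtain ⟨⟨n, hn0⟩, -, hn⟩ := FiniteField.card k 3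
    change _ = 3 ^ n at hn
    rw [Nat.card_eq_fintype_card, hn] at h3 h4
    rcases n with _ | _ | n
    · omega
    · exact h3 rfl
    · have : 9 ∣ 60 := dvd_trans ⟨3 ^ n, by ring⟩ h4
      omega
  · have h1 : H.map ph ≤ cjs c (RG L.subtype) := by
      rcases h with h | h
      · exact h.le
      · rw [h]; exact cjs_mono c (RS_le_RG _)
    have h3 : cjs c (RS L.subtype) ≤ H.map ph := by
      rcases h with h | h
      · rw [h]; exact cjs_mono c (RS_le_RG _)
      · exact h.ge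
    have k1 : ∀ a : k, (2 + algebraMap k F a * lam) ^ 2 ∈ L := fun a => by
      obtain ⟨b, hb⟩ := tau_mem L.subtype (g := SpecialLinearGroup.toGL (xU 1 * xL (algebraMap k F a * lam)))
        (h1 (mem_map_of_mem ph (H.mul_mem (by simpa using hx 1) (hy a))))
      rw [coe_toGL, Matrix.SpecialLinearGroup.det_coe] at hb
      simp [trace_fin_two] at hb
      have : (2 + algebraMap k F a * lam) ^ 2 = b := by rw [hb]; ring
      rw [this]; exact b.2
    have h8 : (8 : F) ≠ 0 := by rw [show (8 : F) = 2 ^ 3 by norm_num]; exact pow_ne_zero _ h2'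
    have k2 : ∀ a : k, algebraMap k F a * lam ∈ L := fun a => by
      have : algebraMap k F a * lam = ((2 + algebraMap k F a * lam) ^ 2 - (2 + algebraMap k F (-a) * lam) ^ 2) / 8 := by
        rw [map_neg]; field_simp; ring
      rw [this]; exact div_mem (sub_mem (k1 _) (k1 _)) (ofNat_mem L 8)
    have hl : lam ∈ L := by simpa using k2 1
    have k3 : ∀ a : k, algebraMap k F a ∈ L := fun a => by
      have := div_mem (k2 a) hl
      rwa [mul_div_cancel_right₀ _ h0] at this
    have hL2 : L = ⊤ := eq_top_iff.2 fun x _ => by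
      obtain ⟨q, rfl⟩ := hs x
      induction q using Polynomial.induction_on' with
      | add a b ha hb => rw [map_add]; exact add_mem (ha trivial) (hb trivial)
      | monomial n a => rw [aeval_monomial]; exact mul_mem (k3 a) (pow_mem hl n)
    rw [RS_eq_PS _ (by rw [hL2, ← Nat.card_eq_fintype_card]; exact Nat.card_congr Subfield.topEquiv.toEquiv)] at h3
    have h4 : -1 ∈ H := neg_mem_of_even h2' (by
      refine dvd_trans ?_ (card_dvd_of_le h3)
      rw [← RS_eq_PS (RingHom.id F) Nat.card_eq_fintype_card 1]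
      exact two_dvd_card_RS _ _ (hL.trans_le (Nat.card_le_card_of_injective _ L.subtype.injective)))
    rw [eq_top_iff, ← comap_map_eq_self (ker_le h4)]
    exact fun g _ => h3 ⟨g, rfl⟩

end Fin

section Euclid
variable {R S : Type*} [CommRing R] [CommRing S]

/-- first half of a fraction free Euclid step -/
noncomputable def eP (n : ℕ) (P c : R[X]) : R[X] := C (c.coeff n) * P - C (P.coeff (n + 1)) * X * c
/-- new first component -/
noncomputable def eQ (n : ℕ) (P c : R[X]) : R[X] := C ((eP n P c).coeff n) * eP n P c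
/-- new second component -/
noncomputable def eE (n : ℕ) (P c : R[X]) : R[X] :=
  C (c.coeff n) * (C ((eP n P c).coeff n) * c - C (c.coeff n) * eP n P c)
/-- the discriminant of the Euclid procedure -/
noncomputable def eD : ℕ → R[X] → R[X] → R
  | 0, P, _ => P.coeff 0
  | n + 1, P, c => c.coeff n * (eP n P c).coeff n * eD n (eQ n P c) (eE n P c)

theorem eP_map (f : R →+* S) (n : ℕ) (P c : R[X]) : (eP n P c).map f = eP n (P.map f) (c.map f) := by
  simp [eP]

theorem eQ_map (f : R →+* S) (n : ℕ) (P c : R[X]) : (eQ n P c).map f = eQ n (P.map f) (c.map f) := by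
  simp [eQ, ← eP_map]

theorem eE_map (f : R →+* S) (n : ℕ) (P c : R[X]) : (eE n P c).map f = eE n (P.map f) (c.map f) := by
  simp [eE, ← eP_map]

theorem eD_map (f : R →+* S) (n : ℕ) : ∀ P c : R[X], f (eD n P c) = eD n (P.map f) (c.map f) := by
  induction n with
  | zero => intro P c; simp [eD]
  | succ n ih => intro P c; simp [eD, ih, eQ_map, eE_map, ← eP_map]

theorem eP_mul (a : R) (n : ℕ) (P c : R[X]) : eP n (C a * P) (C a * c) = C (a ^ 2) * eP n P c := by
  simp [eP]; ring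

theorem eD_mul {k : Type*} [Field k] (n : ℕ) : ∀ (a : k) (P c : k[X]), a ≠ 0 → eD n P c ≠ 0 →
    eD n (C a * P) (C a * c) ≠ 0 := by
  induction n with
  | zero => intro a P c ha h; simpa [eD, ha] using h
  | succ n ih =>
    intro a P c ha h
    simp only [eD, ne_eq, mul_eq_zero, not_or] at h ⊢
    have e1 : eQ n (C a * P) (C a * c) = C (a ^ 4) * eQ n P c := by
      simp only [eQ, eP_mul, coeff_C_mul]; simp only [map_mul, map_pow]; ring
    have e2 : eE n (C a * P) (C a * c) = C (a ^ 4) * eE n P c := by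
      simp only [eE, eP_mul, coeff_C_mul]; simp only [map_mul, map_pow]; ring
    rw [e1, e2, eP_mul]
    refine ⟨⟨by simp [ha, h.1.1], by rw [coeff_C_mul]; simp [ha, h.1.2]⟩, ih _ _ _ (pow_ne_zero _ ha) h.2⟩

/-- degree bounds -/
def Bd (n : ℕ) (P c : R[X]) : Prop := (∀ i, n < i → P.coeff i = 0) ∧ ∀ i, n ≤ i → c.coeff i = 0

theorem Bd.eP {n : ℕ} {P c : R[X]} (h : Bd (n + 1) P c) (i : ℕ) (hi : n < i) : (eP n P c).coeff i = 0 := by
  obtain ⟨j, rfl⟩ : ∃ j, i = j + 1 := ⟨i - 1, by omega⟩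
  rw [Root.eP, coeff_sub, coeff_C_mul, mul_assoc, coeff_C_mul, coeff_X_mul]
  rcases (show j = n ∨ n < j by omega) with rfl | hj
  · ring
  · rw [h.1 _ (by omega), h.2 j (by omega)]; ring

theorem Bd.step {n : ℕ} {P c : R[X]} (h : Bd (n + 1) P c) : Bd n (eQ n P c) (eE n P c) := by
  refine ⟨fun i hi => by rw [eQ, coeff_C_mul, h.eP i hi, mul_zero], fun i hi => ?_⟩
  rw [eE, coeff_C_mul, coeff_sub, coeff_C_mul, coeff_C_mul]
  rcases hi.eq_or_lt with rfl | hi
  · ring
  · rw [h.eP i hi, h.2 i hi]; ring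

theorem exists_eD (k : Type*) [Field k] (n : ℕ) : ∃ P c : k[X], Bd n P c ∧ P.coeff n ≠ 0 ∧ eD n P c ≠ 0 := by
  induction n with
  | zero => exact ⟨1, 0, ⟨fun i hi => by rw [coeff_one, if_neg hi.ne'], fun _ _ => rfl⟩, by simp, by simp [eD]⟩
  | succ n ih =>
    obtain ⟨Q, e, hb, h1, h2⟩ := ih
    have c1 : (e + Q).coeff n = Q.coeff n := by rw [coeff_add, hb.2 n le_rfl, zero_add]
    have c2 : (Q + X * (e + Q)).coeff (n + 1) = Q.coeff n := by
      rw [coeff_add, coeff_X_mul, c1, hb.1 _ (by omega), zero_add]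
    have c3 : eP n (Q + X * (e + Q)) (e + Q) = C (Q.coeff n) * Q := by rw [eP, c1, c2]; ring
    refine ⟨Q + X * (e + Q), e + Q, ⟨fun i hi => ?_, fun i hi => ?_⟩, by rwa [c2], ?_⟩
    · obtain ⟨j, rfl⟩ : ∃ j, i = j + 1 := ⟨i - 1, by omega⟩
      rw [coeff_add, coeff_X_mul, coeff_add, hb.1 _ (by omega), hb.1 j (by omega), hb.2 j (by omega)]; ring
    · rw [coeff_add, hb.1 _ (by omega), hb.2 _ (by omega), add_zero]
    · have e1 : eQ n (Q + X * (e + Q)) (e + Q) = C (Q.coeff n ^ 3) * Q := by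
        rw [eQ, c3, coeff_C_mul]; simp only [map_mul, map_pow]; ring
      have e2 : eE n (Q + X * (e + Q)) (e + Q) = C (Q.coeff n ^ 3) * e := by
        rw [eE, c3, coeff_C_mul, c1]; simp only [map_mul, map_pow]; ring
      rw [eD, e1, e2, c3, c1, coeff_C_mul]
      exact mul_ne_zero (mul_ne_zero h1 (mul_ne_zero h1 h1)) (eD_mul _ _ _ _ (pow_ne_zero _ h1) h2)

end Euclid

section Inf
variable {k K : Type*} [Field k] [Field K] [Algebra k K] {lam : K} {H : Subgroup (SpecialLinearGroup (Fin 2) K)}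

theorem orb_of_eD (hx : ∀ c : k, xU (algebraMap k K c) ∈ H) (hy : ∀ c : k, xL (algebraMap k K c * lam) ∈ H) (n : ℕ) :
    ∀ P c : k[X], Bd n P c → eD n P c ≠ 0 → ∃ g ∈ H, ∃ a : k, a ≠ 0 ∧
      (g : Matrix (Fin 2) (Fin 2) K) 0 0 * algebraMap k K a = aeval lam P ∧
      (g : Matrix (Fin 2) (Fin 2) K) 1 0 * algebraMap k K a = lam * aeval lam c := by
  induction n with
  | zero =>
    intro P c hb h
    have e1 : P = C (P.coeff 0) := by
      ext i; rcases i with _ | i
      · simp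
      · rw [hb.1 _ (by omega), coeff_C_succ]
    have e2 : c = 0 := by ext i; exact hb.2 i (by omega)
    refine ⟨1, H.one_mem, P.coeff 0, h, ?_, by simp [e2]⟩
    conv_rhs => rw [e1]
    simp
  | succ n ih =>
    intro P c hb h
    simp only [eD, ne_eq, mul_eq_zero, not_or] at h
    obtain ⟨g, hg, a, ha, e1, e2⟩ := ih _ _ hb.step h.2
    obtain ⟨⟨h1, h2⟩, -⟩ := h
    set u := c.coeff n with hu
    set v := (eP n P c).coeff n with hv
    set w := P.coeff (n + 1)
    have h1' : algebraMap k K u ≠ 0 := (_root_.map_ne_zero _).2 h1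
    have h2' : algebraMap k K v ≠ 0 := (_root_.map_ne_zero _).2 h2
    rw [eQ, ← hv] at e1
    rw [eE, ← hv, ← hu] at e2
    have e3 : aeval lam (eP n P c) = algebraMap k K u * aeval lam P - algebraMap k K w * lam * aeval lam c := by
      simp [eP, u, w]
    simp only [map_mul, map_sub, aeval_C, e3] at e1 e2
    refine ⟨xU (algebraMap k K (w / u)) * (xL (algebraMap k K (u * u / v) * lam) * g),
      H.mul_mem (hx _) (H.mul_mem (hy _) hg), a / (u * v), div_ne_zero ha (mul_ne_zero h1 h2), ?_, ?_⟩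
    · simp [Matrix.mul_apply, Fin.sum_univ_two, Matrix.vecMul, dotProduct]
      field_simp
      linear_combination (algebraMap k K u * algebraMap k K v + algebraMap k K w * algebraMap k K u ^ 2 * lam) * e1 +
        algebraMap k K w * algebraMap k K v * e2
    · simp [Matrix.mul_apply, Fin.sum_univ_two, Matrix.vecMul, dotProduct]
      field_simp
      linear_combination (algebraMap k K u ^ 2 * lam) * e1 + algebraMap k K v * e2

theorem eq_top_of_scal (h2 : (2 : k) ≠ 0) (h0 : lam ≠ 0) (hx : ∀ c : k, xU (algebraMap k K c) ∈ H)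
    (hy : xL lam ∈ H) (hs : ∀ s : K, s ≠ 0 → ∃ g ∈ H, ∃ a : k, a ≠ 0 ∧
      (g : Matrix (Fin 2) (Fin 2) K) 0 0 = s * algebraMap k K a ∧ (g : Matrix (Fin 2) (Fin 2) K) 1 0 = 0) : H = ⊤ := by
  have k1 : ∀ (s : K) (c : k), xU (algebraMap k K c * s ^ 2) ∈ H := fun s c => by
    rcases eq_or_ne s 0 with rfl | h
    · simp
    obtain ⟨g, hg, a, ha, e1, e2⟩ := hs s h
    have ha' : algebraMap k K a ≠ 0 := (_root_.map_ne_zero _).2 ha
    have hd := g.det_coe
    rw [det_fin_two, e1, e2] at hd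
    have : xU (algebraMap k K c * s ^ 2) * g = g * xU (algebraMap k K (c / a ^ 2)) := by
      ext i j; fin_cases i <;> fin_cases j <;> simp [Matrix.mul_apply, Fin.sum_univ_two, e1, e2]
      field_simp
      linear_combination (algebraMap k K c * s) * hd
    rw [eq_mul_inv_of_mul_eq this]
    exact H.mul_mem (H.mul_mem hg (hx _)) (H.inv_mem hg)
  have h2' : (2 : K) ≠ 0 := by
    rw [← map_ofNat (algebraMap k K)]; exact (_root_.map_ne_zero _).2 h2
  have k2 : ∀ u : K, xU u ∈ H := fun u => by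
    have := H.mul_mem (k1 (u + 1) (1 / 2 ^ 2)) (k1 (u - 1) (-1 / 2 ^ 2))
    rw [xU_add] at this
    convert this using 2
    simp only [map_div₀, map_one, map_neg, map_pow, map_ofNat]
    field_simp; ring
  have k3 : ∀ u : K, xL u ∈ H := fun u => by
    have : xL u * (xU (-lam⁻¹) * xL lam * xU (-lam⁻¹)) = (xU (-lam⁻¹) * xL lam * xU (-lam⁻¹)) * xU (-u / lam ^ 2) := by
      ext i j; fin_cases i <;> fin_cases j <;> simp [Matrix.mul_apply, Fin.sum_univ_two, h0] <;> field_simp <;> ring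
    rw [eq_mul_inv_of_mul_eq this]
    have := H.mul_mem (H.mul_mem (k2 (-lam⁻¹)) hy) (k2 (-lam⁻¹))
    exact H.mul_mem (H.mul_mem this (k2 _)) (H.inv_mem this)
  rw [eq_top_iff, ← sl2_sup]
  refine sup_le (fun g hg => ?_) fun g hg => ?_
  · obtain ⟨t, rfl⟩ := mem_upper.1 hg; exact k2 t
  · obtain ⟨t, rfl⟩ := mem_lower.1 hg; exact k3 t

theorem sl2_gen_inf [Infinite k] (h2 : (2 : k) ≠ 0) (h0 : lam ≠ 0) (hi : IsIntegral k lam)
    (hs : ∀ x : K, ∃ p : k[X], aeval lam p = x) (hx : ∀ c : k, xU (algebraMap k K c) ∈ H)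
    (hy : ∀ c : k, xL (algebraMap k K c * lam) ∈ H) : H = ⊤ := by
  refine eq_top_of_scal h2 h0 hx (by simpa using hy 1) fun s hs0 => ?_
  set n := (minpoly k lam).natDegree
  have sj : ∀ x : K, ∃ p : k[X], (∀ i, n ≤ i → p.coeff i = 0) ∧ aeval lam p = x := fun x => by
    obtain ⟨p, rfl⟩ := hs x
    refine ⟨p %ₘ minpoly k lam, fun i hi' => coeff_eq_zero_of_degree_lt ((degree_modByMonic_lt _ (minpoly.monic hi)).trans_le ?_),
      minpoly.aeval_modByMonic_minpoly _ _⟩
    rw [degree_eq_natDegree (minpoly.ne_zero hi)]; exact_mod_cast hi'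
  obtain ⟨P, c, hb, -, hD⟩ := exists_eD k n
  obtain ⟨P1, b1, e1⟩ := sj (s * aeval lam P)
  obtain ⟨c1, b2, e2⟩ := sj (s * aeval lam c)
  obtain ⟨P2, b3, e3⟩ := sj (s⁻¹ * aeval lam P)
  obtain ⟨c2, b4, e4⟩ := sj (s⁻¹ * aeval lam c)
  let cv : k[X] → k[X] → k[X][X] := fun a b => a.map C + C X * (b - a).map C
  have cve : ∀ a b (τ : k), (cv a b).map (evalRingHom τ) = a + C τ * (b - a) := fun a b τ => by
    have : (evalRingHom τ).comp (C : k →+* k[X]) = RingHom.id k := by ext; simp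
    simp [cv, Polynomial.map_map, this]
  have n1 : eD n (cv P P2) (cv c c2) ≠ 0 := fun h => hD (by
    have := eD_map (evalRingHom (0 : k)) n (cv P P2) (cv c c2)
    rw [h, cve, cve] at this; simpa using this.symm)
  have n2 : eD n (cv P1 P) (cv c1 c) ≠ 0 := fun h => hD (by
    have := eD_map (evalRingHom (1 : k)) n (cv P1 P) (cv c1 c)
    rw [h, cve, cve] at this; simpa using this.symm)
  obtain ⟨τ, hτ⟩ := not_forall.1 fun h => mul_ne_zero n1 n2 (zero_of_eval_zero _ h)
  rw [eval_mul, mul_eq_zero, not_or, ← coe_evalRingHom, eD_map, eD_map, cve, cve, cve, cve] at hτ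
  have bd : ∀ (m : ℕ) (a b : k[X]), (∀ i, m ≤ i → a.coeff i = 0) → (∀ i, m ≤ i → b.coeff i = 0) →
      ∀ i, m ≤ i → (a + C τ * (b - a)).coeff i = 0 := fun m a b ha hb i hi => by simp [ha i hi, hb i hi]
  obtain ⟨g, hg, a, ha, f1, f2⟩ := orb_of_eD hx hy n _ _
    ⟨bd (n + 1) _ _ hb.1 fun i hi => b3 i (by omega), bd n _ _ hb.2 b4⟩ hτ.1
  obtain ⟨g', hg', a', ha', f3, f4⟩ := orb_of_eD hx hy n _ _
    ⟨bd (n + 1) _ _ (fun i hi => b1 i (by omega)) hb.1, bd n _ _ b2 hb.2⟩ hτ.2
  simp only [map_add, map_mul, map_sub, aeval_C, e1, e2, e3, e4] at f1 f2 f3 f4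
  have ha'' : algebraMap k K a' ≠ 0 := (_root_.map_ne_zero _).2 ha'
  have q1 : (g' : Matrix (Fin 2) (Fin 2) K) 0 0 = s * algebraMap k K a / algebraMap k K a' * (g : Matrix (Fin 2) (Fin 2) K) 0 0 := by
    field_simp; rw [f3, mul_assoc, mul_comm (algebraMap k K a), f1]; field_simp
  have q2 : (g' : Matrix (Fin 2) (Fin 2) K) 1 0 = s * algebraMap k K a / algebraMap k K a' * (g : Matrix (Fin 2) (Fin 2) K) 1 0 := by
    field_simp; rw [f4, mul_assoc, mul_comm (algebraMap k K a), f2]; field_simp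
  have hd := g.det_coe
  rw [det_fin_two] at hd
  refine ⟨g⁻¹ * g', H.mul_mem (H.inv_mem hg) hg', a / a', div_ne_zero ha ha', ?_, ?_⟩
  · simp [Matrix.mul_apply, Fin.sum_univ_two, adjugate_fin_two, q1, q2]
    linear_combination (s * algebraMap k K a / algebraMap k K a') * hd
  · simp [Matrix.mul_apply, Fin.sum_univ_two, adjugate_fin_two, q1, q2]
    ring

theorem sl2_gen (h2 : (2 : k) ≠ 0) (h3 : Nat.card k ≠ 3) (h0 : lam ≠ 0) (hi : IsIntegral k lam)
    (hs : ∀ x : K, ∃ p : k[X], aeval lam p = x) (hx : ∀ c : k, xU (algebraMap k K c) ∈ H)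
    (hy : ∀ c : k, xL (algebraMap k K c * lam) ∈ H) : H = ⊤ := by
  rcases finite_or_infinite k with h | h
  · haveI : Module.Finite k K := by
      have := Algebra.finite_adjoin_simple_of_isIntegral hi
      refine Module.Finite.of_surjective (Algebra.adjoin k {lam}).val.toLinearMap fun x => ?_
      obtain ⟨p, rfl⟩ := hs x
      exact ⟨⟨_, aeval_mem_adjoin_singleton k lam⟩, rfl⟩
    haveI : Finite K := Module.finite_of_finite k
    haveI := Fintype.ofFinite K
    exact sl2_gen_fin h2 h3 h0 hs hx hy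
  · exact sl2_gen_inf h2 h0 hi hs hx hy

end Inf

end Cfsg.Agent.Root
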