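import Cfsg.Agent.Lib.Root.SL2

set_option autoImplicit false
set_option linter.unusedSectionVars false
set_option linter.style.haveILetI false

/-! Structure of special rank one groups with abelian unipotent subgroups. -/

namespace Cfsg.Agent.Root

open Cfsg Matrix

variable {G : Type*} [Group G]

/-- powers with exponents mod `p` -/
def zp {p : ℕ} (a : G) (t : ZMod p) : G := a ^ t.val

section
variable {p : ℕ} [Fact p.Prime] {a : G}

theorem zp_add (h : a ^ p = 1) (s t : ZMod p) : zp a s * zp a t = zp a (s + t) := by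
  rw [zp, zp, zp, ZMod.val_add, ← pow_eq_pow_mod _ h, pow_add]
theorem zp_zp (h : a ^ p = 1) (s t : ZMod p) : zp (zp a s) t = zp a (s * t) := by
  rw [zp, zp, zp, ZMod.val_mul, ← pow_eq_pow_mod _ h, pow_mul]
theorem zp_one : zp a (1 : ZMod p) = a := by rw [zp, ZMod.val_one, pow_one]
theorem zp_conj (g : G) (t : ZMod p) : g * zp a t * g⁻¹ = zp (g * a * g⁻¹) t := by rw [zp, zp, conj_pow]
theorem zp_inv (t : ZMod p) : zp a⁻¹ t = (zp a t)⁻¹ := by rw [zp, zp, inv_pow]
theorem closure_zp (h : a ^ p = 1) {f : ZMod p → ZMod p} (hf : Function.Surjective f) :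
    Subgroup.closure (Set.range fun t => zp a (f t)) = Subgroup.zpowers a := by
  refine le_antisymm ((Subgroup.closure_le _).2 ?_) (Subgroup.zpowers_le.2 (Subgroup.subset_closure ?_))
  · rintro _ ⟨t, rfl⟩; exact Subgroup.npow_mem_zpowers a _
  · obtain ⟨t, ht⟩ := hf 1; exact ⟨t, by simp only [ht, zp_one]⟩
end

namespace Sp
variable {A B : Subgroup G} (h : Sp A B) (c : Cm A A)
include h c

theorem dichotomy : (∃ p : ℕ, p.Prime ∧ IsElementaryAbelian p A) ∨
    ((∀ a ∈ A, a ≠ 1 → ¬ IsOfFinOrder a) ∧ ∀ a ∈ A, ∀ n : ℕ, 0 < n → ∃ c ∈ A, c ^ n = a) := by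
  obtain ⟨a, ha, h1⟩ := h.r1.exists_ne
  haveI : Nontrivial (Pt A c) := ⟨⟨Pt.mk c a ha, 0, Pt.v_ne.1 h1⟩⟩
  rcases (h.sm c).dichotomy with ⟨p, hp, e⟩ | e
  · exact Or.inl ⟨p, hp, cm_self.2 c, fun a ha => by simpa using congrArg Pt.v (e (Pt.mk c a ha))⟩
  · refine Or.inr ⟨fun a ha h1 hf => ?_, fun a ha n hn => ?_⟩
    · obtain ⟨n, hn, e'⟩ := isOfFinOrder_iff_pow_eq_one.1 hf
      exact h1 (congrArg Pt.v ((e n hn).1 (Pt.mk c a ha) (Pt.v_inj (by simpa using e'))))
    · obtain ⟨u, hu⟩ := (e n hn).2 (Pt.mk c a ha)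
      exact ⟨u.v, u.v_mem, by simpa using congrArg Pt.v hu⟩

theorem psl2_prime {p : ℕ} [hp : Fact p.Prime] (hA : ∀ a ∈ A, a ^ p = 1) {a y : G} (ha : a ∈ A) (h1 : a ≠ 1) (hy : y ∈ B)
    (e : y • A = a⁻¹ • B) : IsPSL2PairOver (ZMod p) (Subgroup.zpowers a) (Subgroup.zpowers y) := by
  obtain rfl : prt A B a = y := h.r1.symm.inj (h.r1.prt_spec ha h1).1 hy ((h.r1.prt_spec ha h1).2.trans e.symm)
  set y := prt A B a with hyd
  have ec := h.nn_conj ha h1
  have hn := h.nn_swap ha h1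
  have yp : y ^ p = 1 := by rw [hyd, ← ec, conj_pow, hA a ha]; simp
  have ne1 : ∀ k : ZMod p, k ≠ 0 → zp a k ≠ 1 := fun k hk e => h1 (by
    rw [← zp_one (p := p) (a := a), ← mul_inv_cancel₀ hk, ← zp_zp (hA a ha), e, zp, one_pow])
  have key : ∀ k : ZMod p, k ≠ 0 → prt A B (zp a k⁻¹) = zp y k := fun k hk => by
    have m : zp a k⁻¹ ∈ A := A.pow_mem ha _
    obtain ⟨h2, h3⟩ := h.r1.prt_spec m (ne1 _ (inv_ne_zero hk))
    refine h.r1.symm.inj h2 (B.pow_mem hy _) ?_
    have n0 : k.val • Pt.mk c a ha ≠ 0 := Pt.v_ne.1 (by rw [Pt.v_nsmul]; exact ne1 k hk)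
    have a0 : Pt.mk c a ha ≠ 0 := Pt.v_ne.1 h1
    have P := SM.P_of_prime (M := h.sm c) hp.out (fun u => Pt.v_inj (by simpa using hA _ u.v_mem))
      (k := k.val) (Nat.pos_of_ne_zero (by simpa using hk)) (ZMod.val_lt k) _ ((h.sm c).n_mem _ a0) _ n0
    rw [(h.sm c).self _ a0] at P
    have a1 := h.r1.act_spec hn n0
    have P' : zp (act B (nn A B a) (k.val • Pt.mk c a ha)).v k = a⁻¹ := by
      have := congrArg Pt.v P
      rw [Pt.v_nsmul] at this; exact this
    rw [h3, hyd, ← ec, ← zp_conj, mul_smul, mul_smul, hn.inv.2.1, ← zp_inv, ← P', zp_zp (hA _ (Pt.v_mem _)),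
      mul_inv_cancel₀ hk, zp_one, ← a1, Pt.v_nsmul]
    rfl
  let R : Chev.Rk1 (ZMod p) G :=
    { x := fun t => zp a t
      y := fun t => zp y (-t)
      add_x := zp_add (hA a ha)
      add_y := fun s t => by rw [zp_add yp, neg_add]
      nx := fun k t => by
        have m : zp a (k : ZMod p) ∈ A := A.pow_mem ha _
        have := h.nn_conj m (ne1 _ k.ne_zero)
        have e1 := key _ (inv_ne_zero k.ne_zero)
        rw [inv_inv] at e1
        rw [nn, e1] at this
        rw [neg_neg, ← mul_inv_eq_iff_eq_mul, show t = k * (t / k) by field_simp, ← zp_zp (hA a ha), zp_conj, this,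
          zp_zp yp]
        congr 1; field_simp }
  have := psl2_of_rk1 R (rk1_hm R)
  rw [show Subgroup.closure (Set.range R.x) = Subgroup.zpowers a from closure_zp (f := id) (hA a ha) Function.surjective_id,
    show Subgroup.closure (Set.range R.y) = Subgroup.zpowers y from closure_zp yp neg_surjective] at this
  refine this fun cm => ?_
  have e1 := cm a (Subgroup.mem_zpowers a) y (Subgroup.mem_zpowers y)
  have := h.braid ha h1 hy e
  rw [e1, mul_right_inj] at this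
  exact h1 (h.r1.inf_eq ha (this ▸ hy))

theorem comm_diag (h3 : 3 < ENat.card A) : ⁅A, rankOneDiagonal A B⁆ = A := by
  refine le_antisymm (Subgroup.commutator_le.2 fun a ha g hg => ?_) fun a ha => ?_
  · rw [commutatorElement_def, mul_assoc, mul_assoc, ← mul_assoc g]
    exact A.mul_mem ha (conj_mem_of_eq (smul_eq_iff.2 hg.1.2) (A.inv_mem ha))
  let K : AddSubgroup (Pt A c) :=
    { carrier := {s | s.v ∈ ⁅A, rankOneDiagonal A B⁆}
      add_mem' := fun a b => (⁅A, rankOneDiagonal A B⁆.mul_mem a b :)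
      zero_mem' := (⁅A, rankOneDiagonal A B⁆.one_mem :)
      neg_mem' := fun {x} a => (⁅A, rankOneDiagonal A B⁆.inv_mem (x := x.v) a :) }
  rcases SM.eq_top_or (M := h.sm c) K (by
    rintro _ ⟨τ, hτ, rfl⟩ s hs
    have hn := h.nn_swap s.v_mem (Pt.v_ne.2 hs)
    have e := h.r1.act_aut hτ hn hs
    have e' : act B (nn A B s.v) s = -s := (h.sm c).self s hs
    show (act B τ s + s).v ∈ ⁅A, rankOneDiagonal A B⁆
    rw [add_comm, Pt.v_add, e, e', Pt.v_neg, ← mul_assoc, ← mul_assoc, ← commutatorElement_def]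
    refine Subgroup.commutator_mem_commutator s.v_mem ⟨⟨Subgroup.mul_mem _ hτ.1 hn.inv.1, smul_eq_iff.1 ?_⟩, smul_eq_iff.1 ?_⟩
    · rw [mul_smul, hn.inv.2.1, hτ.2.2]
    · rw [mul_smul, hn.inv.2.2, hτ.2.1]) with e | e
  · exact (e ▸ AddSubgroup.mem_top _ : Pt.mk c a ha ∈ K)
  · exact absurd h3 (not_lt.2 e)

theorem le_comm (h3 : 3 < ENat.card A) : A ≤ ⁅A ⊔ B, A ⊔ B⁆ := by
  conv_lhs => rw [← h.comm_diag c h3]
  exact Subgroup.commutator_mono le_sup_left (inf_le_left.trans inf_le_left)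

theorem perfect (h3 : 3 < ENat.card A) : ⁅A ⊔ B, A ⊔ B⁆ = A ⊔ B := by
  refine le_antisymm (Subgroup.commutator_le.2 fun a ha b hb => ?_) (sup_le (h.le_comm c h3) ?_)
  · exact Subgroup.mul_mem _ (Subgroup.mul_mem _ (Subgroup.mul_mem _ ha hb) (Subgroup.inv_mem _ ha)) (Subgroup.inv_mem _ hb)
  · obtain ⟨x, hx, e⟩ := h.r1.exists_smul_eq
    have := smul_mono (h.le_comm c h3) x
    rwa [e, smul_cmt, smul_of_mem hx] at this

end Sp

end Cfsg.Agent.Root
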