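import Mathlib
import Cfsg.Agent.Lib.Root.ARS4
import Cfsg.Agent.Lib.Root.Spec

/-! Sets of abstract root subgroups of the subgroup they generate. -/

set_option autoImplicit false
set_option linter.unusedSectionVars false

namespace Cfsg.Agent.Root
open Cfsg

variable {G : Type*} [Group G]

section Comap
variable {K : Type*} [Group K] {f : K →* G} (hf : Function.Injective f) {A B : Subgroup K}
include hf

theorem cm_map_iff : Cm (A.map f) (B.map f) ↔ Cm A B :=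
  ⟨fun h a ha b hb => hf (by rw [map_mul, map_mul]; exact h _ ⟨a, ha, rfl⟩ _ ⟨b, hb, rfl⟩), by
    rintro h _ ⟨a, ha, rfl⟩ _ ⟨b, hb, rfl⟩; rw [← map_mul, h a ha b hb, map_mul]⟩

theorem r1_map_iff : R1 (A.map f) (B.map f) ↔ R1 A B := by
  have inj := Subgroup.map_injective hf
  refine ⟨fun h => ?_, fun h => h.map f (inj.ne h.ne)⟩
  have nil : ∀ A : Subgroup K, Group.IsNilpotent (A.map f) → Group.IsNilpotent A := fun A h =>
    Group.nilpotent_of_mulEquiv (A.equivMapOfInjective f hf).symm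
  have key : ∀ {A B : Subgroup K}, RankOneCondition (A.map f) (B.map f) → RankOneCondition A B := fun h a ha a1 => by
    obtain ⟨_, ⟨b, hb, rfl⟩, b1, e⟩ := h _ ⟨a, ha, rfl⟩ (mt (map_eq_one_iff f hf).1 a1)
    refine ⟨b, hb, mt (map_eq_one_iff f hf).2 b1, inj ?_⟩
    rwa [conjBy_eq, conjBy_eq, map_smul, map_smul, map_inv, map_inv]
  exact ⟨fun e => h.ne (by rw [e]), nil _ h.2, nil _ h.3, key h.4, key h.5⟩

theorem t3_map_iff {S : Set (Subgroup G)} : T3 S (A.map f) (B.map f) ↔ T3 {C | C.map f ∈ S} A B := by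
  have inj := Subgroup.map_injective hf
  have e1 : ∀ a, Subgroup.closure ((fun b => f a * b * (f a)⁻¹ * b⁻¹) '' (B.map f : Set G)) =
      (Subgroup.closure ((fun b => a * b * a⁻¹ * b⁻¹) '' (B : Set K))).map f := fun a => by
    rw [MonoidHom.map_closure, Subgroup.coe_map, Set.image_image, Set.image_image]; simp
  have e2 : ∀ b, Subgroup.closure ((fun a => a * f b * a⁻¹ * (f b)⁻¹) '' (A.map f : Set G)) =
      (Subgroup.closure ((fun a => a * b * a⁻¹ * b⁻¹) '' (A : Set K))).map f := fun a => by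
    rw [MonoidHom.map_closure, Subgroup.coe_map, Set.image_image, Set.image_image]; simp
  rw [T3, T3, RootCommutatorCase, RootCommutatorCase, ← Subgroup.map_commutator, ← Subgroup.map_sup]
  refine and_congr Iff.rfl (and_congr (cm_map_iff hf) (and_congr ?_ ?_))
  · exact ⟨fun h a ha a1 => inj (e1 a ▸ h _ ⟨a, ha, rfl⟩ (mt (map_eq_one_iff f hf).1 a1)), by
      rintro h _ ⟨a, ha, rfl⟩ a1; rw [e1, h a ha (mt (map_eq_one_iff f hf).2 a1)]⟩
  · exact ⟨fun h a ha a1 => inj (e2 a ▸ h _ ⟨a, ha, rfl⟩ (mt (map_eq_one_iff f hf).1 a1)), by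
      rintro h _ ⟨a, ha, rfl⟩ a1; rw [e2, h a ha (mt (map_eq_one_iff f hf).2 a1)]⟩

theorem psl2_map_iff {k : Type*} [Field k] (h : IsPSL2PairOver k (A.map f) (B.map f)) : IsPSL2PairOver k A B := by
  obtain ⟨φ, h1, h2, h3, h4⟩ := h
  have inj := Subgroup.map_injective hf
  have hr : ∀ g, φ g ∈ f.range := fun g => by
    have : φ g ∈ (A ⊔ B).map f := by rw [Subgroup.map_sup, ← h1]; exact ⟨g, rfl⟩
    exact Subgroup.map_le_range _ _ this
  let ψ := ((MonoidHom.ofInjective hf).symm.toMonoidHom).comp (φ.codRestrict _ hr)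
  have e : f.comp ψ = φ := MonoidHom.ext fun g => MonoidHom.apply_ofInjective_symm hf _
  refine ⟨ψ, inj ?_, fun g hg => h2 ?_, inj ?_, inj ?_⟩
  · rw [MonoidHom.map_range, e, h1, Subgroup.map_sup]
  · rw [← e, MonoidHom.mem_ker, MonoidHom.comp_apply, MonoidHom.mem_ker.1 hg, map_one]
  · rw [Subgroup.map_map, e, h3]
  · rw [Subgroup.map_map, e, h4]

end Comap

/-- the local axioms of a set of abstract root subgroups -/
structure LAR (S : Set (Subgroup G)) : Prop where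
  cm : ∀ A ∈ S, Cm A A
  ne : ∀ A ∈ S, A ≠ ⊥
  smul : ∀ A ∈ S, ∀ B ∈ S, ∀ b ∈ B, b • A ∈ S
  tri : ∀ A ∈ S, ∀ B ∈ S, Cm A B ∨ R1 A B ∨ T3 S A B

/-- the subgroup generated -/
abbrev gen (S : Set (Subgroup G)) : Subgroup G := ⨆ A ∈ S, A

/-- the members as subgroups of the subgroup generated -/
abbrev loc (S : Set (Subgroup G)) : Set (Subgroup (gen S)) := (fun A : Subgroup G => A.subgroupOf (gen S)) '' S

theorem le_gen {S : Set (Subgroup G)} {A : Subgroup G} (h : A ∈ S) : A ≤ gen S := le_iSup₂_of_le A h le_rfl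

theorem map_loc {S : Set (Subgroup G)} {A : Subgroup G} (h : A ∈ S) : (A.subgroupOf (gen S)).map (gen S).subtype = A :=
  Subgroup.map_subgroupOf_eq_of_le (le_gen h)

theorem loc_eq (S : Set (Subgroup G)) : loc S = {C | C.map (gen S).subtype ∈ S} := by
  ext C
  exact ⟨by rintro ⟨A, hA, rfl⟩; rwa [Set.mem_ofPred_eq, map_loc hA], fun h => ⟨_, h,
    Subgroup.comap_map_eq_self_of_injective (Subgroup.subtype_injective _) C⟩⟩

theorem mem_loc {S : Set (Subgroup G)} {C : Subgroup (gen S)} : C ∈ loc S ↔ C.map (gen S).subtype ∈ S := by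
  rw [loc_eq]; rfl

theorem gen_ind {S : Set (Subgroup G)} {p : G → Prop} (h1 : ∀ A ∈ S, ∀ a ∈ A, p a) (h0 : p 1)
    (h2 : ∀ x y, p x → p y → p (x * y)) {g : G} (hg : g ∈ gen S) : p g := by
  rw [gen, iSup_subtype'] at hg
  exact Subgroup.iSup_induction (C := p) _ hg (fun A => h1 A.1 A.2) h0 h2

theorem cm_gen {S : Set (Subgroup G)} {C : Subgroup G} (h : ∀ A ∈ S, Cm A C) : Cm (gen S) C :=
  cm_iff_le.2 (iSup₂_le fun A hA => cm_iff_le.1 (h A hA))

theorem reach_loc {S : Set (Subgroup G)} {A B : Subgroup (gen S)} : Relation.ReflTransGen (FAdj (loc S)) A B ↔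
    Relation.ReflTransGen (FAdj S) (A.map (gen S).subtype) (B.map (gen S).subtype) := by
  have hi := Subgroup.subtype_injective (gen S)
  refine ⟨fun r => r.lift (fun C : Subgroup (gen S) => C.map (gen S).subtype) fun _ _ h =>
    ⟨mem_loc.1 h.1, mem_loc.1 h.2.1, (r1_map_iff hi).2 h.2.2⟩, fun r => ?_⟩
  generalize hC : B.map (gen S).subtype = C at r
  induction r generalizing B with
  | refl => rw [Subgroup.map_injective hi hC]
  | tail _ k ih =>
    refine .tail (ih (map_loc k.1)) ⟨⟨_, k.1, rfl⟩, mem_loc.2 (hC ▸ k.2.1), (r1_map_iff hi).1 ?_⟩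
    rw [map_loc k.1, hC]; exact k.2.2

theorem reach_symm' {S : Set (Subgroup G)} {A B : Subgroup G} (r : Relation.ReflTransGen (FAdj S) A B) :
    Relation.ReflTransGen (FAdj S) B A := by
  induction r with
  | refl => exact .refl
  | tail _ k ih => exact .head ⟨k.2.1, k.1, R1.symm k.2.2⟩ ih

/-- components of the graph of rank one pairs -/
abbrev cpt (S : Set (Subgroup G)) (A : Subgroup G) : Set (Subgroup G) := componentOf (FAdj S) S A

theorem cpt_eq {S : Set (Subgroup G)} {A B : Subgroup G} (h : B ∈ cpt S A) : cpt S B = cpt S A :=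
  Set.ext fun _ => ⟨fun k => ⟨k.1, h.2.trans k.2⟩, fun k => ⟨k.1, (reach_symm' h.2).trans k.2⟩⟩

theorem conj_of_cpt {S : Set (Subgroup G)} {A B : Subgroup G} (r : Relation.ReflTransGen (FAdj S) A B) :
    ∃ g ∈ gen (cpt S A), B = g • A := by
  induction r with
  | refl => exact ⟨1, one_mem _, (one_smul _ _).symm⟩
  | tail r k ih =>
    obtain ⟨g, hg, rfl⟩ := ih
    obtain ⟨x, hx, e⟩ := R1.exists_smul_eq k.2.2
    exact ⟨x * g, mul_mem (sup_le (le_gen (S := cpt S A) ⟨k.1, r⟩) (le_gen (S := cpt S A) ⟨k.2.1, r.tail k⟩) hx) hg, by rw [mul_smul, e]⟩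

theorem class_loc {S : Set (Subgroup G)} (h0 : S.Nonempty) (h : ∀ A ∈ S, ∀ B ∈ S, ∃ g ∈ gen S, B = g • A) :
    IsConjClassOfSubgroups (loc S) := by
  refine ⟨h0.image _, ?_⟩
  rintro _ ⟨A, hA, rfl⟩ _ ⟨B, hB, rfl⟩
  obtain ⟨g, hg, rfl⟩ := h A hA B hB
  refine ⟨⟨g, hg⟩, Subgroup.map_injective (Subgroup.subtype_injective _) ?_⟩
  rw [conjBy_eq, map_smul, map_loc hA, map_loc hB]; rfl

theorem cmt_sup_le {N A : Subgroup G} (c : Cm A A) (h : ∀ a ∈ A, a • N = N) : ⁅A ⊔ N, A ⊔ N⁆ ≤ N := by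
  refine Subgroup.commutator_le.2 fun x hx y hy => ?_
  obtain ⟨a, ha, n, hn, rfl⟩ := (mem_sup_of_norm h).1 hx
  obtain ⟨a', ha', n', hn', rfl⟩ := (mem_sup_of_norm h).1 hy
  rw [commutatorElement_def]
  have : a * n * (a' * n') * (a * n)⁻¹ * (a' * n')⁻¹ = (a * n * a⁻¹) * ((a * a') * (n' * n⁻¹) * (a * a')⁻¹) * ((a * a' * a⁻¹) * n'⁻¹ * a'⁻¹) := by
    group
  rw [this, c a ha a' ha', mul_inv_cancel_right, ← c a ha a' ha']
  exact mul_mem (mul_mem (h a ha ▸ conj_mem hn a) (h _ (mul_mem ha ha') ▸ conj_mem (mul_mem hn' (inv_mem hn)) _))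
    (h a' ha' ▸ conj_mem (inv_mem hn') a')

namespace LAR
variable {S : Set (Subgroup G)} (h : LAR S)
include h

theorem smul' {A : Subgroup G} (hA : A ∈ S) {g : G} (hg : g ∈ gen S) : g • A ∈ S :=
  gen_ind (p := fun g => ∀ A ∈ S, g • A ∈ S) (fun B hB b hb A hA => h.smul A hA B hB b hb) (fun A hA => by rwa [one_smul])
    (fun x y hx hy A hA => by rw [mul_smul]; exact hx _ (hy A hA)) hg A hA

theorem ar : AR (loc S) := by
  have hi := Subgroup.subtype_injective (gen S)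
  refine ⟨fun A hA => cm_self.2 ((cm_map_iff hi).1 (h.cm _ (mem_loc.1 hA))),
    fun A hA e => h.ne _ (mem_loc.1 hA) (by rw [e, Subgroup.map_bot]), Subgroup.map_injective hi ?_,
    fun A hA g => mem_loc.2 (by rw [conjBy_eq, map_smul]; exact h.smul' (mem_loc.1 hA) g.2), fun A hA B hB => ?_⟩
  · rw [iSup_image, ← MonoidHom.range_eq_map, Subgroup.range_subtype]
    simp only [Subgroup.map_iSup]
    exact iSup_congr fun A => iSup_congr fun hA => map_loc hA
  · rw [cm_iff, ← cm_map_iff hi, loc_eq]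
    exact (h.tri _ (mem_loc.1 hA) _ (mem_loc.1 hB)).imp_right (Or.imp (r1_map_iff hi).1 (t3_map_iff hi).1)

theorem ni_loc {A : Subgroup G} (hA : A ∈ S) (n : NI S A) : NI (loc S) (A.subgroupOf (gen S)) := by
  obtain ⟨D, hD, r⟩ := n
  exact ⟨_, ⟨D, hD, rfl⟩, (r1_map_iff (Subgroup.subtype_injective _)).1 (by rwa [map_loc hA, map_loc hD])⟩

theorem reach_smul {A : Subgroup G} (hA : A ∈ S) (n : NI S A) {g : G} (hg : g ∈ gen S) :
    Relation.ReflTransGen (FAdj S) A (g • A) := by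
  have := reach_loc.1 (h.ar.reach_smul ⟨A, hA, rfl⟩ (h.ni_loc hA n) ⟨g, hg⟩)
  rwa [map_smul, map_loc hA] at this

variable (hF : ∀ A ∈ S, NI S A)
include hF

theorem reach_cmt {A B : Subgroup G} (hA : A ∈ S) (hB : B ∈ S) (t : T3 S A B) :
    Relation.ReflTransGen (FAdj S) A ⁅A, B⁆ := by
  have hi := Subgroup.subtype_injective (gen S)
  have hF' : ∀ A ∈ loc S, NI (loc S) A := by rintro _ ⟨A, hA, rfl⟩; exact h.ni_loc hA (hF A hA)
  have t' : T3 (loc S) (A.subgroupOf (gen S)) (B.subgroupOf (gen S)) := by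
    rw [loc_eq, ← t3_map_iff hi, map_loc hA, map_loc hB]; exact t
  have hA' : A.subgroupOf (gen S) ∈ loc S := ⟨A, hA, rfl⟩
  have l := h.ar.ln_cmt hA' (hF' _ hA') t'
  obtain ⟨x, -, e, -⟩ := h.ar.line_two_trans' hF' hA' l ⟨hA', le_sup_left⟩ ⟨l.mem, le_sup_right⟩ ⟨l.mem, le_sup_right⟩
    ⟨hA', le_sup_left⟩ l.ne.symm l.ne
  have := reach_loc.1 (h.ar.reach_smul hA' (hF' _ hA') x)
  rwa [e, Subgroup.map_commutator, map_loc hA, map_loc hB] at this

theorem cpt_smul {A B : Subgroup G} (hB : B ∈ cpt S A) {g : G} (hg : g ∈ gen S) : g • B ∈ cpt S A :=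
  ⟨h.smul' hB.1 hg, hB.2.trans (h.reach_smul hB.1 (hF B hB.1) hg)⟩

theorem cpt (A : Subgroup G) : LAR (cpt S A) :=
  ⟨fun B hB => h.cm B hB.1, fun B hB => h.ne B hB.1, fun _ hB _ hC _ hc => h.cpt_smul hF hB (le_gen hC.1 hc),
    fun B hB C hC => (h.tri B hB.1 C hC.1).imp_right (Or.imp_right fun t =>
      ⟨⟨t.1, hB.2.trans (h.reach_cmt hF hB.1 hC.1 t)⟩, t.2⟩)⟩

theorem cm_of_not {A B : Subgroup G} (hA : A ∈ S) (hB : B ∈ S) (hn : B ∉ Root.cpt S A) : Cm A B := by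
  rcases h.tri A hA B hB with c | r | t
  · exact c
  · exact absurd ⟨hB, .single ⟨hA, hB, r⟩⟩ hn
  · refine absurd ⟨hB, (h.reach_cmt hF hA hB t).trans (reach_symm' ?_)⟩ hn
    rw [Subgroup.commutator_comm]; exact h.reach_cmt hF hB hA t.symm

theorem cm_cpt {A B : Subgroup G} (hn : Root.cpt S A ≠ Root.cpt S B) : Cm (gen (Root.cpt S A)) (gen (Root.cpt S B)) :=
  cm_gen fun _ hC => (cm_gen fun _ hD => (h.cm_of_not hF hC.1 hD.1 fun k =>
    hn ((cpt_eq hC).symm.trans ((cpt_eq k).symm.trans (cpt_eq hD)))).symm).symm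

theorem class_cpt {A : Subgroup G} (hA : A ∈ S) : IsRootSubgroupClass (loc (Root.cpt S A)) :=
  ⟨(h.cpt hF A).ar, class_loc ⟨A, hA, .refl⟩ fun _ hB _ hC => cpt_eq hB ▸ conj_of_cpt ((reach_symm' hB.2).trans hC.2)⟩

end LAR

end Cfsg.Agent.Root
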