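import Mathlib

/-! Systems of centres and axes of transvections: the combinatorial part of McLaughlin's theorem. -/

set_option autoImplicit false
set_option linter.unusedSectionVars false

namespace Cfsg.Agent.Root.Mc
open Submodule

variable {F : Type*} [Field F] {X Y : Type*} [AddCommGroup X] [Module F X] [AddCommGroup Y] [Module F Y]

theorem avoid2 (h2 : (2 : F) ≠ 0) {a b c d : F} (h : a ≠ 0 ∨ b ≠ 0) (h' : c ≠ 0 ∨ d ≠ 0) :
    ∃ t : F, a + t * b ≠ 0 ∧ c + t * d ≠ 0 := by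
  have key : ∀ {a b : F}, a ≠ 0 ∨ b ≠ 0 → ∀ s t : F, a + s * b = 0 → a + t * b = 0 → s = t := fun {a b} h s t e e' => by
    by_contra n
    have hb : b = 0 := (mul_eq_zero.1 (show (s - t) * b = 0 by linear_combination e - e')).resolve_left (sub_ne_zero.2 n)
    exact h.elim (fun k => k (by simpa [hb] using e)) fun k => k hb
  have n1 : (1 : F) ≠ -1 := fun e => h2 (by linear_combination e)
  by_contra k
  push Not at k
  by_cases e0 : a + 0 * b = 0
  · exact n1 (key h' _ _ (k 1 fun e => zero_ne_one (key h _ _ e0 e)) (k (-1) fun e => by simpa using key h _ _ e0 e))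
  by_cases e1 : a + 1 * b = 0
  · simpa using key h' _ _ (k 0 e0) (k (-1) fun e => n1 (key h _ _ e1 e))
  · exact zero_ne_one (key h' _ _ (k 0 e0) (k 1 e1))

/-- mutually non-orthogonal pairs -/
def Adj (β : X →ₗ[F] Y →ₗ[F] F) (C : X → Y → Prop) (p q : X × Y) : Prop :=
  C p.1 p.2 ∧ C q.1 q.2 ∧ β q.1 p.2 ≠ 0 ∧ β p.1 q.2 ≠ 0

/-- closure properties of the set of pairs (centre, axis) -/
structure Sys (β : X →ₗ[F] Y →ₗ[F] F) (C : X → Y → Prop) : Prop where
  two : (2 : F) ≠ 0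
  z : ∀ {x a}, C x a → β x a = 0
  smul : ∀ {x a} {c : F}, C x a → c ≠ 0 → C (c • x) a
  smul' : ∀ {x a} {c : F}, C x a → c ≠ 0 → C x (c • a)
  conj : ∀ {x a y b}, C x a → C y b → ∀ t : F, C (y + (t * β y a) • x) (b - (t * β x b) • a)
  add : ∀ {x a b}, C x a → C x b → a + b ≠ 0 → C x (a + b)
  add' : ∀ {x y a}, C x a → C y a → x + y ≠ 0 → C (x + y) a
  ni : ∀ {x a}, C x a → ∃ y b, C y b ∧ β y a ≠ 0 ∧ β x b ≠ 0

variable {β : X →ₗ[F] Y →ₗ[F] F} {C : X → Y → Prop} {x y v w r : X} {a b φ ψ : Y}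

theorem Adj.symm {p q : X × Y} (h : Adj β C p q) : Adj β C q p := ⟨h.2.1, h.1, h.2.2.2, h.2.2.1⟩

theorem reach_symm {p q : X × Y} (r : Relation.ReflTransGen (Adj β C) p q) : Relation.ReflTransGen (Adj β C) q p := by
  induction r with
  | refl => exact .refl
  | tail _ k ih => exact .head k.symm ih

/-- connectedness -/
def Conn (β : X →ₗ[F] Y →ₗ[F] F) (C : X → Y → Prop) : Prop :=
  ∀ x a y b, C x a → C y b → Relation.ReflTransGen (Adj β C) (x, a) (y, b)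

theorem Conn.dual (h : Conn β C) : Conn β.flip (fun a x => C x a) := fun a x b y p q =>
  (h x a y b p q).lift Prod.swap fun _ _ k => ⟨k.1, k.2.1, k.2.2.2, k.2.2.1⟩

/-- centres -/
def Pt (C : X → Y → Prop) : Set X := {x | ∃ a, C x a}
/-- axes -/
def Ax (C : X → Y → Prop) : Set Y := {a | ∃ x, C x a}
/-- vectors on all axes -/
def Z (β : X →ₗ[F] Y →ₗ[F] F) (C : X → Y → Prop) : Submodule F X where
  carrier := {x | ∀ y b, C y b → β x b = 0}
  zero_mem' := by simp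
  add_mem' := fun p q y b k => by simp [p y b k, q y b k]
  smul_mem' := fun c x p y b k => by simp [p y b k]

theorem not_Z : x ∉ Z β C ↔ ∃ y b, C y b ∧ β x b ≠ 0 := by
  change ¬ (∀ y b, C y b → β x b = 0) ↔ _
  push Not; rfl

theorem Z_span (h : x ∈ Z β C) (ha : a ∈ span F (Ax C)) : β x a = 0 :=
  (span_le (p := LinearMap.ker (β x))).2 (fun _ k => k.elim fun y k => h y _ k) ha

/-- faithfulness -/
def Fa (β : X →ₗ[F] Y →ₗ[F] F) (C : X → Y → Prop) : Prop := ∀ x a y b, C x a → C y b →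
  (∀ u ∈ Pt C, ∀ c ∈ Ax C, β x c * β u a = β y c * β u b) → ∀ u c, β x c * β u a = β y c * β u b

theorem Fa.dual (h : Fa β C) : Fa β.flip (fun a x => C x a) := fun a x b y p q e c u => by
  simpa [mul_comm] using h x a y b p q (fun u hu c hc => by simpa [mul_comm] using e c hc u hu) u c

namespace Sys
variable (h : Sys β C)
include h

theorem dual : Sys β.flip (fun a x => C x a) where
  two := h.two
  z := h.z
  smul := h.smul'
  smul' := h.smul
  conj := fun p q t => by simpa [sub_eq_add_neg] using h.conj p q (-t)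
  add := h.add'
  add' := h.add
  ni := fun p => (h.ni p).elim fun y ⟨b, k⟩ => ⟨b, y, k.1, k.2.2, k.2.1⟩

theorem nz (p : C x a) : x ∉ Z β C := (h.ni p).elim fun y ⟨b, k⟩ => not_Z.2 ⟨y, b, k.1, k.2.2⟩
theorem ne (p : C x a) : x ≠ 0 := fun e => h.nz p (e ▸ zero_mem _)
theorem ne' (p : C x a) : a ≠ 0 := h.dual.ne p

theorem cmt (p : C x a) (q : C y b) (e1 : β y a ≠ 0) (e2 : β x b = 0) : C x b := by
  have k := h.conj p q (β y a)⁻¹
  rw [inv_mul_cancel₀ e1, e2, mul_zero, zero_smul, sub_zero, one_smul] at k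
  simpa using h.add' k (h.smul q (c := -1) (by simp)) (by simpa using h.ne p)

theorem common (p : C v φ) (q : C w ψ) (e1 : β w φ ≠ 0) : ∃ y b, Adj β C (v, φ) (y, b) ∧ (Adj β C (w, ψ) (y, b) ∨ (w, ψ) = (y, b)) := by
  by_cases e2 : β v ψ = 0
  swap
  · exact ⟨w, ψ, ⟨p, q, e1, e2⟩, Or.inr rfl⟩
  obtain ⟨y, η, k, n1, n2⟩ := h.ni (h.cmt p q e1 e2)
  obtain ⟨t, t1, -⟩ := avoid2 h.two (a := β y φ) (Or.inr (mul_ne_zero n1 e1)) (Or.inl n1 : _ ∨ (0 : F) ≠ 0)
  obtain ⟨s, s1, -⟩ := avoid2 h.two (a := β w η) (Or.inr (neg_ne_zero.2 (mul_ne_zero n2 e1))) (Or.inl n1 : _ ∨ (0 : F) ≠ 0)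
  refine ⟨_, _, ⟨p, h.conj p (h.conj q k t) s, ?_, ?_⟩, Or.inl ⟨q, h.conj p (h.conj q k t) s, ?_, ?_⟩⟩
  · simpa [h.z p, mul_assoc] using t1
  · simpa [h.z p, e2] using n2
  · simpa [h.z q, e2] using n1
  · simpa [h.z q, e2, sub_eq_add_neg, mul_assoc] using s1

theorem reach (p : C v φ) (q : C w ψ) (e1 : β w φ ≠ 0) : Relation.ReflTransGen (Adj β C) (v, φ) (w, ψ) := by
  obtain ⟨y, b, k, k' | k'⟩ := h.common p q e1
  · exact .tail (.single k) k'.symm
  · exact k' ▸ .single k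

theorem reach' (p : C v φ) (q : C w ψ) (e1 : β v ψ ≠ 0) : Relation.ReflTransGen (Adj β C) (v, φ) (w, ψ) :=
  reach_symm (h.reach q p e1)

/-- the connected component of a pair -/
theorem cpt (e : X × Y) : Sys β (fun x a => C x a ∧ Relation.ReflTransGen (Adj β C) e (x, a)) where
  two := h.two
  z := fun p => h.z p.1
  smul := fun {x a c} p hc => ⟨h.smul p.1 hc, by
    obtain ⟨y, b, k, n1, n2⟩ := h.ni p.1
    exact (p.2.trans (h.reach p.1 k n1)).trans (h.reach k (h.smul p.1 hc) (by simp [hc, n2]))⟩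
  smul' := fun {x a c} p hc => ⟨h.smul' p.1 hc, by
    obtain ⟨y, b, k, n1, n2⟩ := h.ni p.1
    exact (p.2.trans (h.reach p.1 k n1)).trans (h.reach k (h.smul' p.1 hc) n2)⟩
  conj := fun {x a y b} p q t => ⟨h.conj p.1 q.1 t, by
    by_cases e1 : β y a = 0
    · by_cases e2 : β x b = 0
      · simpa [e1, e2] using q.2
      · exact p.2.trans (h.reach' p.1 (h.conj p.1 q.1 t) (by simpa [h.z p.1] using e2))
    · exact p.2.trans (h.reach p.1 (h.conj p.1 q.1 t) (by simpa [h.z p.1] using e1))⟩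
  add := fun {x a b} p q n => ⟨h.add p.1 q.1 n, by
    obtain ⟨y, c, k, n1, n2⟩ := h.ni p.1
    exact (p.2.trans (h.reach p.1 k n1)).trans (h.reach k (h.add p.1 q.1 n) n2)⟩
  add' := fun {x y a} p q n => ⟨h.add' p.1 q.1 n, by
    obtain ⟨u, c, k, n1, n2⟩ := h.ni p.1
    exact (p.2.trans (h.reach p.1 k n1)).trans (h.reach' k (h.add' p.1 q.1 n) n1)⟩
  ni := fun p => by
    obtain ⟨y, b, k, n1, n2⟩ := h.ni p.1
    exact ⟨y, b, ⟨k, p.2.trans (h.reach p.1 k n1)⟩, n1, n2⟩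

omit h in
theorem conn_cpt (e : X × Y) : Conn β (fun x a => C x a ∧ Relation.ReflTransGen (Adj β C) e (x, a)) := by
  have key : ∀ q, Relation.ReflTransGen (Adj β C) e q →
      Relation.ReflTransGen (Adj β fun x a => C x a ∧ Relation.ReflTransGen (Adj β C) e (x, a)) e q := fun q r => by
    induction r with
    | refl => exact .refl
    | tail r k ih => exact ih.tail ⟨⟨k.1, r⟩, ⟨k.2.1, r.tail k⟩, k.2.2⟩
  exact fun x a y b p q => (reach_symm (key _ p.2)).trans (key _ q.2)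

theorem mv (p : C v φ) (e : β x φ ≠ 0) (c : F) (hx : x ∈ Pt C) : x + c • v ∈ Pt C := by
  obtain ⟨a, q⟩ := hx
  exact ⟨_, by simpa [div_mul_cancel₀ _ e] using h.conj p q (c / β x φ)⟩

theorem mv' (p : C v φ) (e : β x φ ≠ 0) (c : F) (hx : x + c • v ∈ Pt C) : x ∈ Pt C := by
  simpa using h.mv p (x := x + c • v) (by simpa [h.z p] using e) (-c) hx

variable (hc : Conn β C)
include hc

theorem Q (hx : x ∉ Z β C) (p : C v φ) : β x φ ≠ 0 ∨ ∃ u χ, Adj β C (v, φ) (u, χ) ∧ β x χ ≠ 0 := by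
  obtain ⟨y, b, q, n⟩ := not_Z.1 hx
  have key : ∀ e, Relation.ReflTransGen (Adj β C) (y, b) e → β x e.2 ≠ 0 ∨ ∃ u χ, Adj β C e (u, χ) ∧ β x χ ≠ 0 := fun e r => by
    induction r with
    | refl => exact Or.inl n
    | @tail e e' _ k ih =>
      by_cases m : β x e.2 = 0
      swap
      · exact Or.inr ⟨e.1, e.2, k.symm, m⟩
      obtain ⟨u, χ, k', n'⟩ := ih.resolve_left (not_not.2 m)
      obtain ⟨t, t1, t2⟩ := avoid2 h.two (a := β u e'.2) (c := β e'.1 χ) (Or.inr (mul_ne_zero k'.2.2.1 k.2.2.2))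
        (Or.inr (neg_ne_zero.2 (mul_ne_zero k'.2.2.2 k.2.2.1)))
      exact Or.inr ⟨_, _, ⟨k.2.1, h.conj k.1 k'.2.1 t, by simpa [mul_assoc] using t1,
        by simpa [mul_assoc, sub_eq_add_neg] using t2⟩, by simpa [m] using n'⟩
  exact key _ (hc _ _ _ _ q p)

theorem add_pt (hv : v ∈ Pt C) (hw : w ∈ Pt C) (n : v + w ∉ Z β C) : v + w ∈ Pt C := by
  obtain ⟨φ, p⟩ := hv
  by_cases e : β w φ = 0
  swap
  · simpa [add_comm] using h.mv p e 1 hw
  obtain ⟨u, χ, k, n1⟩ := (h.Q hc n p).resolve_left (by simp [e, h.z p])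
  obtain ⟨z, ζ, k', n2⟩ := (h.Q hc (hw.elim fun _ q => h.nz q) p).resolve_left (not_not.2 e)
  have s1 : ∀ d : F, w + d • v + u ∈ Pt C → v + w ∈ Pt C := fun d m =>
    h.mv' k.2.1 n1 1 (h.mv' p (by simpa [e, h.z p] using k.2.2.1) (d - 1) (by convert m using 1; module))
  by_cases e1 : β w χ = 0
  swap
  · exact s1 0 (by simpa using h.mv k.2.1 e1 1 hw)
  obtain ⟨d, d1, d2⟩ := avoid2 h.two (a := β w ζ) (b := β v ζ) (c := 0) (d := 1) (Or.inl n2) (Or.inr one_ne_zero)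
  have d3 : d ≠ 0 := by simpa using d2
  suffices w + d • v ∈ Pt C from s1 d (by simpa using h.mv k.2.1 (x := w + d • v) (by simpa [e1, d3] using k.2.2.2) 1 this)
  refine h.mv' k'.2.1 (by simpa using d1) 1 (h.mv' p (by simpa [e, h.z p] using k'.2.2.1) (-d) ?_)
  convert h.mv k'.2.1 n2 1 hw using 1; module

theorem span_pt (hx : x ∈ span F (Pt C)) (n : x ∉ Z β C) : x ∈ Pt C := by
  have nz : ∀ v ∈ Pt C, v ∉ Z β C := fun v ⟨_, q⟩ => h.nz q
  have sm : ∀ v ∈ Pt C, ∀ c : F, c ≠ 0 → c • v ∈ Pt C := fun v ⟨a, q⟩ c hc => ⟨a, h.smul q hc⟩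
  suffices x ∈ Pt C ∨ (x ∈ Z β C ∧ ∀ v ∈ Pt C, v + x ∈ Pt C) from this.resolve_right fun k => n k.1
  clear n
  induction hx using span_induction with
  | mem x hx => exact Or.inl hx
  | zero => exact Or.inr ⟨zero_mem _, by simp⟩
  | add x y _ _ p q =>
    rcases p with p | p <;> rcases q with q | q
    · by_cases m : x + y ∈ Z β C
      swap
      · exact Or.inl (h.add_pt hc p q m)
      refine Or.inr ⟨m, fun v hv => ?_⟩
      have n : v + (x + y) ∉ Z β C := fun k => nz v hv (by simpa using sub_mem k m)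
      by_cases m1 : v + x ∈ Z β C
      · by_cases m2 : v + y ∈ Z β C
        · refine absurd ?_ (nz _ (sm v hv 2 h.two))
          convert sub_mem (add_mem m1 m2) m using 1; module
        · rw [add_comm x, ← add_assoc] at n ⊢; exact h.add_pt hc (h.add_pt hc hv q m2) p n
      · rw [← add_assoc] at n ⊢; exact h.add_pt hc (h.add_pt hc hv p m1) q n
    · exact Or.inl (q.2 x p)
    · exact Or.inl (add_comm x y ▸ p.2 y q)
    · exact Or.inr ⟨add_mem p.1 q.1, fun v hv => add_assoc v x y ▸ q.2 _ (p.2 v hv)⟩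
  | smul c x _ p =>
    by_cases hc : c = 0
    · exact Or.inr ⟨by simp [hc], by simp [hc]⟩
    rcases p with p | p
    · exact Or.inl (sm x p c hc)
    · exact Or.inr ⟨smul_mem _ c p.1, fun v hv => by
        simpa [smul_smul, hc] using sm _ (p.2 _ (sm v hv c⁻¹ (inv_ne_zero hc))) c hc⟩

section Lin
variable (hL : ∃ x a y b, C x a ∧ C y b ∧ β y a ≠ 0 ∧ β x b = 0)
include hL

theorem two_ax (hx : x ∈ Pt C) (y : X) : ∃ a, C x a ∧ β y a = 0 := by
  have fin : ∀ x, (∃ a a' t, C x a ∧ C x a' ∧ β t a ≠ 0 ∧ β t a' = 0) → ∀ y, ∃ a, C x a ∧ β y a = 0 :=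
    fun x ⟨a, a', t, p, q, n, e⟩ y => by
      by_cases m : β y a = 0
      · exact ⟨a, p, m⟩
      by_cases m' : β y a' = 0
      · exact ⟨a', q, m'⟩
      exact ⟨_, h.add (h.smul' p m') (h.smul' q (neg_ne_zero.2 m)) fun k => by
        simpa [e, m', n] using congrArg (β t) k, by simp [mul_comm]⟩
  obtain ⟨x0, a0, y0, b0, p, q, n, e⟩ := hL
  have key : ∀ e, Relation.ReflTransGen (Adj β C) (x0, a0) e → ∀ y, ∃ a, C e.1 a ∧ β y a = 0 := fun e' r => by
    induction r with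
    | refl => exact fin _ ⟨a0, b0, y0, p, h.cmt p q n e, n, h.z q⟩
    | @tail e e' _ k ih =>
      obtain ⟨a, p, m⟩ := ih e'.1
      exact fin _ ⟨e'.2, a, e.1, k.2.1, h.cmt k.2.1 p k.2.2.2 m, k.2.2.2, h.z p⟩
  obtain ⟨a, p'⟩ := hx
  exact key _ (hc _ _ _ _ p p') y

theorem lin (hx : x ∈ Pt C) (q : C w ψ) (e : β x ψ = 0) : C x ψ := by
  obtain ⟨z, ζ, k, n⟩ := (h.Q hc (hx.elim fun _ p => h.nz p) q).resolve_left (not_not.2 e)
  obtain ⟨δ, p, m⟩ := h.two_ax hc hL hx z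
  by_cases m' : β w δ = 0
  swap
  · exact h.cmt p q m' e
  have p1 := h.cmt k.2.1 p n m
  have p2 := h.cmt q p1 k.2.2.1 m'
  obtain ⟨t, τ, p3, n1, n2⟩ := h.ni p2
  have n3 : β z ψ ≠ 0 := k.2.2.1
  refine h.cmt p (h.cmt (h.conj p1 p3 (-β t ψ / (β t δ * β z ψ))) q (by simpa [m'] using n2) ?_) (by simpa [m] using n1) e
  simp only [map_add, map_smul, LinearMap.add_apply, LinearMap.smul_apply, smul_eq_mul]
  field_simp; ring

end Lin

theorem rad (hF : Fa β C) (sep : ∀ x, (∀ c, β x c = 0) → x = 0) (hr : r ∈ span F (Pt C)) (hz : r ∈ Z β C) : r = 0 := by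
  by_cases h0 : ∃ x, x ∈ Pt C
  swap
  · rwa [Set.eq_empty_of_forall_notMem (not_exists.1 h0), span_empty, mem_bot] at hr
  obtain ⟨x, a, p⟩ := h0
  obtain ⟨u0, b0, p0, n0, -⟩ := h.ni p
  have hx := h.span_pt hc (add_mem (subset_span ⟨a, p⟩) hr) fun k => h.nz p (by simpa using sub_mem k hz)
  obtain ⟨l, hl, a', q, e⟩ : ∃ l : F, l ≠ 0 ∧ ∃ a', C (x + r) a' ∧ ∀ u ∈ Pt C, l * β u a = β u a' := by
    by_cases hL : ∃ x a y b, C x a ∧ C y b ∧ β y a ≠ 0 ∧ β x b = 0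
    · exact ⟨1, one_ne_zero, a, h.lin hc hL hx p (by simp [h.z p, hz x a p]), fun _ _ => one_mul _⟩
    push Not at hL
    obtain ⟨a', q⟩ := hx
    refine ⟨β u0 a' / β u0 a, div_ne_zero (hL _ _ _ _ p0 q (by simpa [hz _ _ p0] using hL _ _ _ _ p p0 n0)) n0, a', q,
      fun u hu => ?_⟩
    have : β (β u0 a • u - β u a • u0) a' = 0 := by
      by_contra k
      obtain ⟨c, s⟩ := h.span_pt hc (sub_mem (smul_mem _ _ (subset_span hu)) (smul_mem _ _ (subset_span ⟨_, p0⟩)))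
        (not_Z.2 ⟨_, _, q, k⟩)
      exact hL _ _ _ _ s p (by simpa [hz _ _ s] using hL _ _ _ _ q s k) (by simp [mul_comm])
    simp only [map_sub, map_smul, LinearMap.sub_apply, LinearMap.smul_apply, smul_eq_mul] at this
    field_simp; linear_combination -this
  refine sep r fun c => ?_
  have := hF x _ _ _ (h.smul' p hl) q (fun u hu c ⟨y, s⟩ => by simp [e u hu, hz y c s]) u0 c
  rw [← e u0 ⟨_, p0⟩] at this
  simpa [hl, n0, add_mul] using this

theorem sympl (hS : ∀ x a y b, C x a → C y b → β y a ≠ 0 → β x b ≠ 0) :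
    ∃ Θ : X →ₗ[F] Y, (∀ x ∈ span F (Pt C), ∀ y ∈ span F (Pt C), β y (Θ x) = -β x (Θ y)) ∧
      ∀ x a, C x a → ∃ c : F, ∀ y ∈ span F (Pt C), β y a = c * β y (Θ x) := by
  by_cases h0 : ∃ x, x ∈ Pt C
  swap
  · exact ⟨0, by simp, fun x a p => absurd ⟨x, a, p⟩ h0⟩
  obtain ⟨x0, a0, p0⟩ := h0
  let U : Set X := {x | x ∈ Pt C ∧ β x a0 ≠ 0}
  have ex : ∀ x : U, ∃ a, C x a ∧ β x0 a = -β x a0 := fun ⟨x, ⟨a, p⟩, n⟩ =>
    ⟨_, h.smul' p (div_ne_zero (neg_ne_zero.2 n) (hS _ _ _ _ p0 p n)), by simp [div_mul_cancel₀ _ (hS _ _ _ _ p0 p n)]⟩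
  choose θ hθ hθ' using ex
  have sk : ∀ x y : U, β y (θ x) = -β x (θ y) := fun x y => by
    by_cases m : β y (θ x) = 0
    · rw [m, not_not.1 (mt (hS _ _ _ _ (hθ y) (hθ x)) (not_not.2 m)), neg_zero]
    have k := h.conj (hθ x) (hθ y) (-β y a0 / (β y (θ x) * β x a0))
    have := not_not.1 (mt (hS _ _ _ _ k p0) (not_not.2 (by
      simp only [map_add, map_smul, LinearMap.add_apply, LinearMap.smul_apply, smul_eq_mul]
      have := x.2.2; field_simp; ring)))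
    simp only [map_sub, map_smul, smul_eq_mul, hθ'] at this
    have h1 := x.2.2
    have h2 := y.2.2
    field_simp at this
    exact mul_left_cancel₀ h2 (by linear_combination -this)
  have sp : span F U = span F (Pt C) := le_antisymm (span_mono fun _ k => k.1) (span_le.2 fun v hv => by
    by_cases m : β v a0 = 0
    swap
    · exact subset_span ⟨hv, m⟩
    obtain ⟨u, b, q, n, -⟩ := h.ni p0
    have : v + u ∈ U := ⟨h.add_pt hc hv ⟨b, q⟩ (not_Z.2 ⟨_, _, p0, by simpa [m] using n⟩), by simpa [m] using n⟩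
    simpa using sub_mem (subset_span (R := F) this) (subset_span (show u ∈ U from ⟨⟨b, q⟩, n⟩)))
  obtain ⟨s, hs, e, li⟩ := exists_linearIndependent F U
  obtain ⟨Θ, hΘ⟩ := LinearMap.exists_extend ((Module.Basis.span li).constr F fun i => θ ⟨i, hs i.2⟩)
  have t1 : ∀ i : s, Θ i = θ ⟨i, hs i.2⟩ := fun i => by
    rw [← Module.Basis.constr_basis (Module.Basis.span li) F (fun i => θ ⟨i, hs i.2⟩) i, ← hΘ, LinearMap.comp_apply,
      coe_subtype, Module.Basis.span_apply]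
  rw [← sp, ← e]
  have t2 : ∀ (y : U), ∀ x ∈ span F s, β y (Θ x) = -β x (θ y) := fun y x hx =>
    LinearMap.eqOn_span (f := β y ∘ₗ Θ) (g := -β.flip (θ y)) (fun i hi => by simpa [t1 ⟨i, hi⟩] using sk ⟨i, hs hi⟩ y) hx
  have t3 : ∀ x ∈ span F s, ∀ y ∈ span F s, β y (Θ x) = -β x (Θ y) := fun x hx y hy =>
    LinearMap.eqOn_span (f := β.flip (Θ x)) (g := -(β x ∘ₗ Θ)) (fun i hi => by
      simpa [t1 ⟨i, hi⟩] using t2 ⟨i, hs hi⟩ x hx) hy
  have t4 : ∀ x : U, ∀ y ∈ span F s, β y (θ x) = β y (Θ x) := fun x y hy => by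
    rw [t3 x (e ▸ subset_span x.2) y hy, t2 x y hy, neg_neg]
  have t5 : ∀ x a, C x a → β x a0 ≠ 0 → ∃ c : F, ∀ y ∈ span F s, β y a = c * β y (Θ x) := fun x a p n => by
    refine ⟨β x0 a / β x0 (θ ⟨x, ⟨a, p⟩, n⟩), fun y hy => ?_⟩
    rw [← t4 ⟨x, ⟨a, p⟩, n⟩ y hy]
    have q := hθ ⟨x, ⟨a, p⟩, n⟩
    have n' := hS _ _ _ _ p0 q n
    generalize θ ⟨x, ⟨a, p⟩, n⟩ = a' at q n'
    have : β (β x0 a' • y - β y a' • x0) a = 0 := by
      by_contra k
      obtain ⟨c, t⟩ := h.span_pt hc (sub_mem (smul_mem _ _ (sp ▸ e ▸ hy)) (smul_mem _ _ (subset_span ⟨_, p0⟩)))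
        (not_Z.2 ⟨_, _, p, k⟩)
      exact hS _ _ _ _ t q (hS _ _ _ _ p t k) (by simp [mul_comm])
    simp only [map_sub, map_smul, LinearMap.sub_apply, LinearMap.smul_apply, smul_eq_mul] at this
    field_simp; linear_combination this
  refine ⟨Θ, t3, fun x a p => ?_⟩
  by_cases m : β x a0 = 0
  swap
  · exact t5 x a p m
  obtain ⟨η, y, k, n⟩ := (h.dual.Q hc.dual (h.dual.nz p0) p).resolve_left (not_not.2 m)
  have hx : x ∈ span F s := e ▸ sp ▸ subset_span ⟨a, p⟩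
  have hy : y ∈ span F s := e ▸ sp ▸ subset_span ⟨η, k.2.1⟩
  have n1 : β x η ≠ 0 := k.2.2.1
  obtain ⟨c, hc1⟩ := t5 _ _ (h.conj k.2.1 p 1) (by simpa [m, n1] using n)
  obtain ⟨c', hc2⟩ := t5 _ _ k.2.1 n
  have xx : β x (Θ x) = 0 := by
    have := t3 x hx x hx
    simpa [h.two] using show 2 * β x (Θ x) = 0 by linear_combination this
  refine ⟨c, fun u hu => ?_⟩
  have e1 := hc1 u hu
  have e2 := hc1 x hx
  have e3 := hc2 u hu
  have e4 := hc2 x hx
  simp only [map_sub, map_add, map_smul, smul_eq_mul, one_mul, h.z p, xx] at e1 e2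
  have n2 : β x (Θ y) ≠ 0 := fun e => n1 (by rw [e4, e, mul_zero])
  have : c * β x η + β y a * c' = 0 := mul_right_cancel₀ n2 (by linear_combination -e2 - β y a * e4)
  linear_combination e1 + β y a * e3 + β u (Θ y) * this

end Sys

end Cfsg.Agent.Root.Mc
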