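import Mathlib
import Cfsg.Agent.Lib.Root.Mc1
import Cfsg.Agent.Lib.Classical.Sub5
import Cfsg.Agent.Lib.Classical.Lin1
import Cfsg.Agent.Lib.Solv.Cores

/-! McLaughlin's theorem over prime fields of odd order. -/

set_option autoImplicit false
set_option linter.unusedSectionVars false

namespace Cfsg.Agent.Root.Mc
open Submodule Module Cfsg.Agent.Classical

section Gen
variable {F : Type*} [Field F] {V : Type*} [AddCommGroup V] [Module F V] [FiniteDimensional F V]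

theorem surj_of_sep {Y : Type*} [AddCommGroup Y] [Module F Y] [FiniteDimensional F Y] {β : V →ₗ[F] Y →ₗ[F] F}
    (h1 : ∀ x, (∀ y, β x y = 0) → x = 0) (h2 : ∀ y, (∀ x, β x y = 0) → y = 0) : Function.Surjective β := by
  have i1 : Function.Injective β := (injective_iff_map_eq_zero _).2 fun x e => h1 x fun y => by simp [e]
  have i2 : Function.Injective β.flip := (injective_iff_map_eq_zero _).2 fun y e => h2 y fun x => LinearMap.congr_fun e x
  have a := LinearMap.finrank_le_finrank_of_injective i1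
  have b := LinearMap.finrank_le_finrank_of_injective i2
  rw [Subspace.dual_finrank_eq] at b
  exact (LinearMap.injective_iff_surjective_of_finrank_eq_finrank (le_antisymm a (by rwa [Subspace.dual_finrank_eq]))).1 i1

theorem surj2 {W : Submodule F V} {Ψ : Submodule F (Dual F V)} (h1 : ∀ x : W, (∀ y : Ψ, y.1 x = 0) → x = 0)
    (h2 : ∀ y : Ψ, (∀ x : W, y.1 x = 0) → y = 0) :
    (∀ v, ∃ w ∈ W, ∀ ψ ∈ Ψ, ψ w = ψ v) ∧ ∀ χ : Dual F W, ∃ ψ ∈ Ψ, ∀ w : W, ψ w = χ w := by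
  let β : W →ₗ[F] Ψ →ₗ[F] F := (Dual.eval F V).domRestrict₁₂ W Ψ
  refine ⟨fun v => ?_, fun χ => ?_⟩
  · obtain ⟨w, hw⟩ := surj_of_sep (F := F) (V := W) (Y := Ψ) (β := β) h1 h2 ((Dual.eval F V v).domRestrict Ψ)
    exact ⟨w, w.2, fun ψ k => LinearMap.congr_fun hw ⟨ψ, k⟩⟩
  · obtain ⟨w, hw⟩ := surj_of_sep (F := F) (V := Ψ) (Y := W) (β := β.flip) h2 h1 χ
    exact ⟨w, w.2, fun x => LinearMap.congr_fun hw x⟩

theorem pt_mem {Y : Type*} {C : V → Y → Prop} {x : V} {a : Y} (h : C x a) : x ∈ span F (Pt C) := subset_span ⟨a, h⟩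

theorem sl_le {S : Subgroup (V ≃ₗ[F] V)} (h : ∀ u φ, u ≠ 0 → φ ≠ 0 → φ u = 0 → HasT S u φ) {g : V ≃ₗ[F] V}
    (hg : LinearMap.det (g : V →ₗ[F] V) = 1) : g ∈ S := by
  let b := finBasis F V
  let e := Matrix.SpecialLinearGroup.toLin_equiv b
  obtain ⟨M, hM⟩ := e.surjective ⟨g, Units.ext (by simpa [LinearEquiv.coe_det] using hg)⟩
  rw [show g = (e M).1 by rw [hM]]
  rcases subsingleton_or_nontrivial (Fin (finrank F V)) with k | k
  · rw [Subsingleton.elim M 1, map_one]; exact one_mem S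
  refine Lin.transvection_induction (fun M => (e M).1 ∈ S) (fun i j hij a => ?_) (fun A B p q => by rw [map_mul]; exact mul_mem p q) M
  by_cases ha : a = 0
  · rw [ha, Matrix.SpecialLinearGroup.transvection_coeff_zero, map_one]; exact one_mem S
  obtain ⟨-, t, ht, et⟩ := h (b i) (a • b.coord j) (b.ne_zero i) (fun e => by simpa [ha] using LinearMap.congr_fun e (b j))
    (by simp [hij.symm])
  have : (e (Matrix.SpecialLinearGroup.transvection hij a)).1 = t := by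
    refine LinearEquiv.toLinearMap_injective (b.ext fun k => ?_)
    refine (LinearMap.congr_fun (Matrix.SpecialLinearGroup.toLin_equiv.toLinearMap_eq b _) _).trans ?_
    rw [LinearEquiv.coe_coe, et, Matrix.SpecialLinearGroup.transvection_coe, map_add, Matrix.toLin_one, LinearMap.add_apply,
      Matrix.toLin_self]
    by_cases e : j = k
    · simp [Matrix.single_apply, e, ite_and]
    · simp [Matrix.single_apply, e, Ne.symm e]
  rwa [this]

/-- restriction to an invariant subspace -/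
def res (K : Subgroup (V ≃ₗ[F] V)) (W : Submodule F V) (h : K ≤ stab W) : K →* (W ≃ₗ[F] W) :=
  MonoidHom.mk' (fun g => g.1.ofSubmodules W W (mem_stab_iff_map.1 (h g.2))) fun _ _ => rfl

theorem res_range_le {T : Set (V ≃ₗ[F] V)} {W : Submodule F V} (h : Subgroup.closure T ≤ stab W) {S : Subgroup (W ≃ₗ[F] W)}
    (k : ∀ g ∈ T, ∀ f : W ≃ₗ[F] W, (∀ v, (f v : V) = g v) → f ∈ S) : (res _ W h).range ≤ S := by
  rw [MonoidHom.range_eq_map, ← Subgroup.closure_preimage_eq_top, MonoidHom.map_closure, Subgroup.closure_le]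
  rintro _ ⟨g, hg, rfl⟩
  exact k g.1 hg _ fun _ => rfl

/-- the transvections attached to a set of pairs -/
def TS (C : V → Dual F V → Prop) : Set (V ≃ₗ[F] V) := {t | ∃ w ψ, C w ψ ∧ ∀ x, t x = x + ψ x • w}

/-- the transvections of a group -/
def T0 (H : Subgroup (V ≃ₗ[F] V)) (x : V) (φ : Dual F V) : Prop := x ≠ 0 ∧ φ ≠ 0 ∧ HasT H x φ

/-- the pointwise stabiliser -/
def fixer (W : Submodule F V) : Subgroup (V ≃ₗ[F] V) where
  carrier := {g | ∀ v ∈ W, g v = v}
  one_mem' := fun _ _ => rfl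
  mul_mem' := fun p q v hv => by rw [LinearEquiv.mul_apply, q v hv, p v hv]
  inv_mem' := fun p v hv => by rw [LinearEquiv.coe_inv, LinearEquiv.symm_apply_eq, p v hv]

end Gen

variable {p : ℕ} [Fact p.Prime] {V : Type*} [AddCommGroup V] [Module (ZMod p) V] [Finite V] {H : Subgroup (V ≃ₗ[ZMod p] V)}
  {x y : V} {a b : Dual (ZMod p) V}

theorem hasT_csmul (h : HasT H x a) (c : ZMod p) : HasT H x (c • a) := by
  obtain ⟨n, rfl⟩ := ZMod.natCast_zmod_surjective c
  induction n with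
  | zero => simpa using HasT.zero x
  | succ n ih => rw [Nat.cast_succ, add_smul, one_smul]; exact ih.add h

theorem T0.map (h : T0 H x a) {g : V ≃ₗ[ZMod p] V} (hg : g ∈ H) (e : ∀ v, b (g v) = a v) : T0 H (g x) b :=
  ⟨by simpa using h.1, fun k => h.2.1 (LinearMap.ext fun v => by simp [← e, k]), h.2.2.map' hg e⟩

variable (hp : Odd p) (hO : pCore p H = ⊥)
include hp hO

theorem unip {W Z : Submodule (ZMod p) V} (hW : H ≤ stab W) (hZ : H ≤ stab Z) {g : V ≃ₗ[ZMod p] V} (hg : g ∈ H)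
    (h1 : ∀ x, g x - x ∈ W) (h2 : ∀ x ∈ W, g x - x ∈ Z) (h3 : ∀ x ∈ Z, g x = x) : g = 1 := by
  let N : Subgroup H :=
    { carrier := {g | (∀ x, g.1 x - x ∈ W) ∧ (∀ x ∈ W, g.1 x - x ∈ Z) ∧ ∀ x ∈ Z, g.1 x = x}
      one_mem' := by simp
      mul_mem' := fun {g h} p q => ⟨fun x => by simpa using add_mem (p.1 (h.1 x)) (q.1 x),
        fun x hx => by simpa using add_mem (p.2.1 (h.1 x) ((hW h.2 x).1 hx)) (q.2.1 x hx),
        fun x hx => by simp [q.2.2 x hx, p.2.2 x hx]⟩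
      inv_mem' := fun {g} p => ⟨fun x => by simpa using neg_mem (p.1 (g.1⁻¹ x)),
        fun x hx => by simpa using neg_mem (p.2.1 (g.1⁻¹ x) ((hW (g⁻¹).2 x).1 hx)),
        fun x hx => by simp [LinearEquiv.symm_apply_eq, p.2.2 x hx]⟩ }
  haveI : N.Normal := ⟨fun n p g => ⟨fun x => by simpa using (hW g.2 _).1 (p.1 (g.1⁻¹ x)),
    fun x hx => by simpa using (hZ g.2 _).1 (p.2.1 (g.1⁻¹ x) ((hW (g⁻¹).2 x).1 hx)),
    fun x hx => by simpa using congrArg g.1 (p.2.2 (g.1⁻¹ x) ((hZ (g⁻¹).2 x).1 hx))⟩⟩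
  have P : IsPGroup p N := fun g => ⟨1, by
    rcases subsingleton_or_nontrivial V with k | k
    · exact Subsingleton.elim _ _
    haveI : CharP (End (ZMod p) V) p := charP_of_injective_algebraMap (algebraMap (ZMod p) _).injective p
    have e : ((g.1.1 : End (ZMod p) V) - 1) ^ 3 = 0 := LinearMap.ext fun x => by
      simpa [pow_succ, sub_eq_zero] using sub_eq_zero.2 (g.2.2.2 _ (g.2.2.1 _ (g.2.1 x)))
    have h3 : 3 ≤ p := by have := (Fact.out : p.Prime).two_le; obtain ⟨k, rfl⟩ := hp; omega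
    have := pow_eq_zero_of_le h3 e
    rw [sub_pow_char_of_commute _ (Commute.one_right _), one_pow, sub_eq_zero] at this
    refine Subtype.ext (Subtype.ext (LinearEquiv.toLinearMap_injective ?_))
    rw [pow_one]; exact (map_pow LinearEquiv.automorphismGroup.toLinearMapMonoidHom _ _).trans this⟩
  have : (⟨g, hg⟩ : H) = 1 := Subgroup.mem_bot.1 (hO.le (Solv.le_pCore P (show (⟨g, hg⟩ : H) ∈ N from ⟨h1, h2, h3⟩)))
  exact congrArg Subtype.val this

theorem T0.ni (h : T0 H x a) : ∃ y b, T0 H y b ∧ a y ≠ 0 ∧ b x ≠ 0 := by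
  by_contra hn
  push Not at hn
  have key : ∀ g ∈ H, a (g x) = 0 := fun g hg => by
    by_contra n
    have st : ∀ k : ℕ, T0 H x (a ∘ₗ ((g ^ k).symm : V →ₗ[ZMod p] V)) := fun k => by
      induction k with
      | zero => exact h
      | succ k ih =>
        have q := h.map (pow_mem hg (k + 1)) (b := a ∘ₗ ((g ^ (k + 1)).symm : V →ₗ[ZMod p] V)) (by simp)
        have n' : (a ∘ₗ ((g ^ k).symm : V →ₗ[ZMod p] V)) ((g ^ (k + 1)) x) ≠ 0 := by simpa [pow_succ] using n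
        have z : (a ∘ₗ ((g ^ (k + 1)).symm : V →ₗ[ZMod p] V)) x = 0 := by
          by_contra m
          exact n' (hn _ _ (ih.map (inv_mem (pow_mem hg (k + 1))) (b := (a ∘ₗ ((g ^ k).symm : V →ₗ[ZMod p] V)) ∘ₗ
            ((g ^ (k + 1) : V ≃ₗ[ZMod p] V) : V →ₗ[ZMod p] V)) (by simp)) m)
        exact ⟨h.1, q.2.1, inv_smul_smul₀ n' (a ∘ₗ ((g ^ (k + 1)).symm : V →ₗ[ZMod p] V)) ▸ hasT_csmul (ih.2.2.comm q.2.2 z) _⟩
    have := (st (orderOf g - 1)).2.2.1
    have e : (g ^ (orderOf g - 1)).symm x = g x := by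
      rw [LinearEquiv.symm_apply_eq, ← LinearEquiv.mul_apply, ← pow_succ, Nat.sub_add_cancel (orderOf_pos g), pow_orderOf_eq_one]; rfl
    exact n (by simpa [e] using this)
  obtain ⟨-, t, ht, e⟩ := h.2.2
  let Z : Submodule (ZMod p) V := ⨅ g ∈ H, LinearMap.ker (a ∘ₗ (g : V →ₗ[ZMod p] V))
  have mZ : ∀ v, v ∈ Z ↔ ∀ g ∈ H, a (g v) = 0 := fun v => by simp [Z, mem_iInf]
  have le : span (ZMod p) {v | ∃ g ∈ H, v = g x} ≤ Z := span_le.2 (by
    rintro _ ⟨g, hg, rfl⟩; exact (mZ _).2 fun g' hg' => key (g' * g) (mul_mem hg' hg))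
  have m : ∀ v, t v - v ∈ span (ZMod p) {v | ∃ g ∈ H, v = g x} := fun v => by
    rw [e, add_sub_cancel_left]; exact smul_mem _ _ (subset_span ⟨1, one_mem _, rfl⟩)
  have := unip hp hO (Z := Z) (fun g hg => stab_of_le fun v hv => (span_le (p := comap (g : V →ₗ[ZMod p] V) _)).2 (by
      rintro _ ⟨g', hg', rfl⟩; exact subset_span ⟨g * g', mul_mem hg hg', rfl⟩) hv)
    (fun g hg => stab_of_le fun v hv => (mZ _).2 fun g' hg' => (mZ _).1 hv (g' * g) (mul_mem hg' hg)) ht m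
    (fun v _ => le (m v)) fun v hv => by simpa [e] using Or.inl ((mZ v).1 hv 1 (one_mem _))
  exact h.2.1 (LinearMap.ext fun v => by simpa [this, h.1] using e v)

theorem sys0 : Sys (Dual.eval (ZMod p) V) (T0 H) where
  two := fun e => by
    have := (ZMod.natCast_eq_zero_iff 2 p).1 e
    rw [(Nat.prime_dvd_prime_iff_eq Fact.out Nat.prime_two).1 this] at hp
    exact absurd hp (by decide)
  z := fun h => h.2.2.1
  smul := fun h hc => ⟨smul_ne_zero hc h.1, h.2.1, hasT_smul.2 (hasT_csmul h.2.2 _)⟩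
  smul' := fun h hc => ⟨h.1, smul_ne_zero hc h.2.1, hasT_csmul h.2.2 _⟩
  conj := fun {x a y b} h k t => by
    obtain ⟨z, g, hg, e⟩ := hasT_csmul h.2.2 t
    simpa [e] using k.map hg (b := b - (t * b x) • a) fun v => by simp [e, h.2.2.1]; ring
  add := fun h k n => ⟨h.1, n, h.2.2.add k.2.2⟩
  add' := fun h k n => ⟨n, h.2.1, h.2.2.add_left k.2.2⟩
  ni := fun h => h.ni hp hO

omit hp hO in
/-- the component of a pair -/
def cp (H : Subgroup (V ≃ₗ[ZMod p] V)) (e : V × Dual (ZMod p) V) (x : V) (a : Dual (ZMod p) V) : Prop :=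
  T0 H x a ∧ Relation.ReflTransGen (Adj (Dual.eval (ZMod p) V) (T0 H)) e (x, a)

variable {e e' : V × Dual (ZMod p) V}

theorem cp_sys : Sys (Dual.eval (ZMod p) V) (cp H e) := (sys0 hp hO).cpt e

theorem cp_cl (h : cp H e x a) (k : T0 H y b) (n : a y ≠ 0 ∨ b x ≠ 0) : cp H e y b :=
  ⟨k, h.2.trans (n.elim ((sys0 hp hO).reach h.1 k) ((sys0 hp hO).reach' h.1 k))⟩

omit hp hO in
theorem cp_eq (h : cp H e x a) (k : cp H e' x a) : cp H e = cp H e' := by
  ext y b
  exact and_congr_right fun _ => ⟨fun r => k.2.trans ((reach_symm h.2).trans r), fun r => h.2.trans ((reach_symm k.2).trans r)⟩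

theorem cp_orth (n : cp H e ≠ cp H e') : span (ZMod p) (Pt (cp H e)) ≤ Z (Dual.eval (ZMod p) V) (cp H e') :=
  span_le.2 fun x ⟨a, h⟩ y b k => by_contra fun m => n (cp_eq (cp_cl hp hO h k.1 (Or.inr m)) k)

omit hp hO in
theorem ts_le : Subgroup.closure (TS (cp H e)) ≤ H := (Subgroup.closure_le _).2 fun t ⟨w, ψ, h, e⟩ => by
  obtain ⟨-, g, hg, e'⟩ := h.1.2.2
  rwa [show t = g from LinearEquiv.ext fun x => (e x).trans (e' x).symm]

omit hp hO in
theorem ts_fix (C : V → Dual (ZMod p) V → Prop) : Subgroup.closure (TS C) ≤ fixer (Z (Dual.eval (ZMod p) V) C) :=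
  (Subgroup.closure_le _).2 fun t ⟨w, ψ, h, e⟩ v hv => by rw [e, show ψ v = 0 from hv w ψ h, zero_smul, add_zero]

variable (hgen : H ≤ Subgroup.closure (TS (T0 H)))
include hgen

theorem stab_W : H ≤ stab (span (ZMod p) (Pt (cp H e))) := hgen.trans ((Subgroup.closure_le _).2 fun t ⟨w, ψ, h, e⟩ =>
  stab_of_le fun v hv => (span_le (p := comap (t : V →ₗ[ZMod p] V) (span (ZMod p) (Pt (cp H _))))).2 (fun x hx => by
    obtain ⟨a, k⟩ := hx
    by_cases m : ψ x = 0
    · simpa [e, m] using pt_mem k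
    · simpa [e] using add_mem (pt_mem k) (smul_mem _ _ (pt_mem (cp_cl hp hO k h (Or.inr m))))) hv)

theorem stab_Z : H ≤ stab (Z (Dual.eval (ZMod p) V) (cp H e)) := hgen.trans ((Subgroup.closure_le _).2 fun t ⟨w, ψ, h, e⟩ =>
  stab_of_le fun v hv y b k => by
    have : b v = 0 := hv y b k
    by_cases m : b w = 0
    · simp [e, m, this]
    · simp [e, this, show ψ v = 0 from hv _ _ (cp_cl hp hO k h (Or.inl m))])

theorem cp_fa : Fa (Dual.eval (ZMod p) V) (cp H e) := fun x a y b h k e0 u c => by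
  have e1 : ∀ u ∈ Pt (cp H e), ∀ c ∈ Ax (cp H e), c x * a u = c y * b u := e0
  obtain ⟨-, s, hs, es⟩ := h.1.2.2
  obtain ⟨-, t, ht, et⟩ := k.1.2.2.neg
  have ay : a y = 0 := by
    obtain ⟨u, c, q, -, n⟩ := (cp_sys hp hO).ni h
    simpa [k.1.2.2.1, show c x ≠ 0 from n] using e1 y ⟨b, k⟩ c ⟨u, q⟩
  have eg : ∀ v, (s * t) v - v = a v • x - b v • y := fun v => by
    simp [es, et, ay]; abel
  have := unip hp hO (stab_W hp hO hgen) (stab_Z hp hO hgen) (mul_mem hs ht)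
    (fun v => eg v ▸ sub_mem (smul_mem _ _ (pt_mem h)) (smul_mem _ _ (pt_mem k)))
    (fun v hv z c q => by
      have := LinearMap.eqOn_span (f := c x • a) (g := c y • b) (fun u hu => e1 u hu c ⟨z, q⟩) hv
      rw [eg]; simpa [mul_comm, sub_eq_zero] using this)
    fun v hv => by rw [← sub_eq_zero, eg, show a v = 0 from hv _ _ h, show b v = 0 from hv _ _ k]; simp
  have := congrArg c (eg u ▸ show (s * t) u - u = 0 by simp [this])
  simpa [mul_comm, sub_eq_zero] using this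

theorem cp_rad {r : V} (hr : r ∈ span (ZMod p) (Pt (cp H e))) (hz : r ∈ Z (Dual.eval (ZMod p) V) (cp H e)) : r = 0 :=
  (cp_sys hp hO).rad (Sys.conn_cpt e) (cp_fa hp hO hgen) (fun x h => (forall_dual_apply_eq_zero_iff _ x).1 h) hr hz

theorem cp_sep : (∀ x : span (ZMod p) (Pt (cp H e)), (∀ y : span (ZMod p) (Ax (cp H e)), y.1 x = 0) → x = 0) ∧
    ∀ y : span (ZMod p) (Ax (cp H e)), (∀ x : span (ZMod p) (Pt (cp H e)), y.1 x = 0) → y = 0 :=
  ⟨fun x h => Subtype.ext (cp_rad hp hO hgen x.2 fun y b k => h ⟨b, subset_span ⟨y, k⟩⟩), fun y h => Subtype.ext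
    ((cp_sys hp hO).dual.rad (Sys.conn_cpt e).dual (cp_fa hp hO hgen).dual (fun _ h => LinearMap.ext h) y.2
      fun a x k => h ⟨x, subset_span ⟨a, k⟩⟩)⟩

theorem cp_dec (v : V) : ∃ w ∈ span (ZMod p) (Pt (cp H e)), v - w ∈ Z (Dual.eval (ZMod p) V) (cp H e) := by
  obtain ⟨w, hw, k⟩ := (surj2 (cp_sep hp hO hgen (e := e)).1 (cp_sep hp hO hgen).2).1 v
  exact ⟨w, hw, fun y b q => by simpa [sub_eq_zero] using (k b (subset_span ⟨y, q⟩)).symm⟩

theorem cp_pt (hx : x ∈ span (ZMod p) (Pt (cp H e))) (n : x ≠ 0) : x ∈ Pt (cp H e) :=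
  (cp_sys hp hO).span_pt (Sys.conn_cpt e) hx fun k => n (cp_rad hp hO hgen hx k)

theorem cp_range : ((res _ _ ((ts_le (e := e)).trans (stab_W hp hO hgen (e := e)))).range : Set _) =
      {f : span (ZMod p) (Pt (cp H e)) ≃ₗ[ZMod p] span (ZMod p) (Pt (cp H e)) | LinearMap.det f.toLinearMap = 1} ∨
    ∃ B : LinearMap.BilinForm (ZMod p) (span (ZMod p) (Pt (cp H e))), B.IsAlt ∧ B.Nondegenerate ∧
      ((res _ _ ((ts_le (e := e)).trans (stab_W hp hO hgen (e := e)))).range : Set _) =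
        {f : span (ZMod p) (Pt (cp H e)) ≃ₗ[ZMod p] span (ZMod p) (Pt (cp H e)) | ∀ x y, B (f x) (f y) = B x y} := by
  have S := cp_sys hp hO (e := e)
  have key : ∀ (u : span (ZMod p) (Pt (cp H e))) (a : Dual (ZMod p) V), cp H e u a →
      HasT (res _ _ ((ts_le (e := e)).trans (stab_W hp hO hgen (e := e)))).range u (a.domRestrict _) := fun u a h =>
    ⟨S.z h, _, ⟨⟨tv u.1 a (S.z h), Subgroup.subset_closure ⟨_, _, h, fun _ => rfl⟩⟩, rfl⟩, fun _ => rfl⟩
  by_cases hL : ∃ x a y b, cp H e x a ∧ cp H e y b ∧ a y ≠ 0 ∧ b x = 0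
  · refine Or.inl (Set.Subset.antisymm (fun f hf => ?_) fun f hf => sl_le (fun u φ hu hφ z => ?_) hf)
    · have := res_range_le (S := LinearEquiv.det.ker) _ (fun g hg f hf => by
        obtain ⟨w, ψ, h, e⟩ := hg
        rw [show f = tv ⟨w, pt_mem h⟩ (ψ.domRestrict _) h.1.2.2.1 from LinearEquiv.ext fun v =>
          Subtype.ext ((hf v).trans (e v))]
        exact det_tv _) hf
      rw [Set.mem_ofPred_eq, ← LinearEquiv.coe_det, this]; rfl
    · obtain ⟨a, ha, ea⟩ := (surj2 (cp_sep hp hO hgen (e := e)).1 (cp_sep hp hO hgen).2).2 φ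
      obtain rfl : a.domRestrict _ = φ := LinearMap.ext ea
      obtain ⟨w, k⟩ := S.dual.span_pt (Sys.conn_cpt e).dual ha fun k => hφ (LinearMap.ext fun v => Z_span k v.2)
      exact key u a (S.lin (Sys.conn_cpt e) hL (cp_pt hp hO hgen u.2 (by simpa using hu)) k z)
  push Not at hL
  obtain ⟨Θ, t1, t2⟩ := S.sympl (Sys.conn_cpt e) hL
  let B : LinearMap.BilinForm (ZMod p) (span (ZMod p) (Pt (cp H e))) :=
    ((Dual.eval (ZMod p) V).compl₂ Θ).domRestrict₁₂ _ _
  have hA : B.IsAlt := fun x => by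
    have : B x x = -B x x := t1 x x.2 x x.2
    simpa [S.two] using show 2 * B x x = 0 by linear_combination this
  have t3 : ∀ x : span (ZMod p) (Pt (cp H e)), x ≠ 0 → ∃ a, cp H e x a ∧ ∀ y, B y x = a y := fun x n => by
    obtain ⟨a, h⟩ := cp_pt hp hO hgen x.2 (by simpa using n)
    obtain ⟨c, hc⟩ := t2 _ _ h
    obtain ⟨y, b, k, n1, -⟩ := S.ni h
    have c0 : c ≠ 0 := fun e => n1 (by rw [hc y (subset_span ⟨b, k⟩), e, zero_mul])
    exact ⟨_, S.smul' h (inv_ne_zero c0), fun y => ((inv_mul_eq_iff_eq_mul₀ c0).2 (hc y y.2)).symm⟩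
  have hN : (Form.ofAlt B hA).Nondeg := fun x h => by_contra fun n => by
    obtain ⟨a, k, e⟩ := t3 x n
    obtain ⟨y, b, k', n1, -⟩ := S.ni k
    exact n1 ((e ⟨y, subset_span ⟨b, k'⟩⟩).symm.trans (h _))
  refine Or.inr ⟨B, hA, ⟨fun x h => hN.left h, hN⟩, Set.Subset.antisymm (fun f hf => ?_) fun f hf => ?_⟩
  · refine Form.mem_Isom_symp.1 (res_range_le (S := (Form.ofAlt B hA).Isom) _ (fun g hg f hf => ?_) hf)
    obtain ⟨w, ψ, h, e⟩ := hg
    obtain ⟨c, hc⟩ := t2 _ _ h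
    rw [show f = (Form.ofAlt B hA).qrefl ⟨w, pt_mem h⟩ c (by simp) from LinearEquiv.ext fun v =>
      Subtype.ext ((hf v).trans ((e v).trans (by rw [Form.qrefl_apply, show ψ v = _ from hc v v.2]; rfl)))]
    exact Form.qrefl_mem _ _ _ _
  · have := Form.mem_Isom_symp (Φ := Form.ofAlt B hA).2 hf
    rw [← Form.symp_closure_transvSet hN] at this
    refine (Subgroup.closure_le _).2 ?_ this
    rintro _ ⟨d, c, h, -, rfl⟩
    by_cases m : d = 0 ∨ c = 0
    · rw [show (Form.ofAlt B hA).qrefl d c h = 1 from LinearEquiv.ext fun v => by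
        rcases m with rfl | rfl <;> simp [Form.qrefl_apply]]
      exact one_mem _
    push Not at m
    obtain ⟨a, k, e⟩ := t3 d m.1
    obtain ⟨-, g, hg, eg⟩ := key d _ (S.smul' k m.2)
    rwa [show (Form.ofAlt B hA).qrefl d c h = g from LinearEquiv.ext fun v => by rw [eg, Form.qrefl_apply, Form.ofAlt_B, e]; rfl]

omit hgen in
theorem cp_comm (n : cp H e ≠ cp H e') : ∀ a ∈ Subgroup.closure (TS (cp H e)), ∀ b ∈ Subgroup.closure (TS (cp H e')),
    a * b = b * a := by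
  have : Subgroup.closure (TS (cp H e)) ≤ Subgroup.centralizer (Subgroup.closure (TS (cp H e'))) := by
    rw [Subgroup.closure_le, Subgroup.centralizer_closure]
    rintro s ⟨v, φ, h, es⟩ t ⟨w, ψ, k, et⟩
    have a : ψ v = 0 := cp_orth hp hO n (pt_mem h) _ _ k
    have b : φ w = 0 := cp_orth hp hO n.symm (pt_mem k) _ _ h
    ext x; simp [es, et, a, b]; abel
  exact fun a ha b hb => (this ha b hb).symm

theorem cp_normal : ((Subgroup.closure (TS (cp H e))).subgroupOf H).Normal := by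
  rw [Subgroup.normal_subgroupOf_iff_le_normalizer ts_le]
  refine hgen.trans ((Subgroup.closure_le _).2 fun t ⟨w, ψ, h, et⟩ => ?_)
  have m : t ∈ Subgroup.closure (TS (cp H (w, ψ))) := Subgroup.subset_closure ⟨w, ψ, ⟨h, .refl⟩, et⟩
  by_cases n : cp H (w, ψ) = cp H e
  · exact Subgroup.le_normalizer (n ▸ m)
  · exact Subgroup.centralizer_le_normalizer _ fun b hb => (cp_comm hp hO n t m b hb).symm

end Cfsg.Agent.Root.Mc
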