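import Mathlib
import Cfsg.Prelude.Def_RootSubgroups

set_option autoImplicit false
set_option linter.unusedSectionVars false
set_option linter.style.haveILetI false

/-! Rank one groups: the basic theory. -/

namespace Cfsg.Agent.Root

open Cfsg

variable {G : Type*} [Group G]

/-- conjugation of subgroups as an action -/
scoped instance conjAction : MulAction G (Subgroup G) where
  smul g A := conjBy A g
  one_smul A := by
    change A.map _ = A
    ext x; simp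
  mul_smul g h A := by
    change A.map _ = (A.map _).map _
    rw [Subgroup.map_map]; congr 1; ext x; simp [mul_assoc]

theorem conjBy_eq (A : Subgroup G) (g : G) : conjBy A g = g • A := rfl

theorem mem_smul {A : Subgroup G} {g x : G} : x ∈ g • A ↔ g⁻¹ * x * g ∈ A := by
  change x ∈ A.map _ ↔ _
  constructor
  · rintro ⟨y, hy, rfl⟩; simpa [mul_assoc] using hy
  · intro h; exact ⟨_, h, by simp [mul_assoc]⟩

theorem conj_mem {A : Subgroup G} {x : G} (h : x ∈ A) (g : G) : g * x * g⁻¹ ∈ g • A := by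
  rw [mem_smul]; simpa [mul_assoc] using h

theorem conj_mem' {A : Subgroup G} {x : G} (h : x ∈ A) (g : G) : g⁻¹ * x * g ∈ g⁻¹ • A := by
  simpa using conj_mem h g⁻¹

theorem exists_of_mem_smul {A : Subgroup G} {g x : G} (h : x ∈ g • A) : ∃ y ∈ A, x = g * y * g⁻¹ :=
  ⟨_, mem_smul.1 h, by group⟩

theorem smul_eq_iff {A : Subgroup G} {g : G} : g • A = A ↔ g ∈ Subgroup.normalizer (A : Set G) := by
  rw [← Subgroup.inv_mem_iff, Subgroup.mem_normalizer_iff]
  constructor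
  · intro h x; rw [inv_inv, ← mem_smul, h]
  · intro h; ext x; rw [mem_smul, h x, inv_inv]

theorem smul_of_mem {A : Subgroup G} {g : G} (h : g ∈ A) : g • A = A := smul_eq_iff.2 (Subgroup.le_normalizer h)

theorem smul_sup (g : G) (A B : Subgroup G) : g • (A ⊔ B) = g • A ⊔ g • B := Subgroup.map_sup _ _ _

theorem smul_inf (g : G) (A B : Subgroup G) : g • (A ⊓ B) = g • A ⊓ g • B := by
  ext x; simp [mem_smul]

theorem smul_cmt (g : G) (A B : Subgroup G) : g • ⁅A, B⁆ = ⁅g • A, g • B⁆ := Subgroup.map_commutator _ _ _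

@[simp] theorem smul_bot (g : G) : g • (⊥ : Subgroup G) = ⊥ := Subgroup.map_bot _

theorem smul_eq_bot {g : G} {A : Subgroup G} : g • A = ⊥ ↔ A = ⊥ := by
  rw [← smul_bot g, smul_left_cancel_iff, smul_bot]

theorem smul_mono {A B : Subgroup G} (h : A ≤ B) (g : G) : g • A ≤ g • B := Subgroup.map_mono h

theorem smul_le {A H : Subgroup G} {g : G} (h : A ≤ H) (hg : g ∈ H) : g • A ≤ H :=
  (smul_mono h g).trans (smul_of_mem hg).le

theorem smul_eq_of_le {A : Subgroup G} {g : G} (h1 : ∀ x ∈ A, g * x * g⁻¹ ∈ A) (h2 : ∀ x ∈ A, g⁻¹ * x * g ∈ A) :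
    g • A = A := by
  ext x; rw [mem_smul]
  exact ⟨fun h => by simpa [mul_assoc] using h1 _ h, h2 x⟩

theorem smul_eq_of_comm {A : Subgroup G} {g : G} (h : ∀ x ∈ A, g * x = x * g) : g • A = A :=
  smul_eq_of_le (fun x hx => by rw [h x hx]; simpa using hx) (fun x hx => by rw [mul_assoc, ← h x hx]; simpa using hx)

theorem map_smul {H : Type*} [Group H] (f : G →* H) (g : G) (A : Subgroup G) : (g • A).map f = f g • A.map f := by
  change (A.map _).map f = (A.map f).map _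
  rw [Subgroup.map_map, Subgroup.map_map]; congr 1; ext x; simp

/-- elementwise commuting subgroups -/
def Cm (A B : Subgroup G) : Prop := ∀ a ∈ A, ∀ b ∈ B, a * b = b * a

theorem cm_iff {A B : Subgroup G} : ⁅A, B⁆ = ⊥ ↔ Cm A B := by
  rw [Subgroup.commutator_eq_bot_iff_le_centralizer]
  exact ⟨fun h a ha b hb => (h ha b hb).symm, fun h a ha b hb => (h a ha b hb).symm⟩

theorem Cm.symm {A B : Subgroup G} (h : Cm A B) : Cm B A := fun b hb a ha => (h a ha b hb).symm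

theorem Cm.mono {A B C D : Subgroup G} (h : Cm A B) (h1 : C ≤ A) (h2 : D ≤ B) : Cm C D :=
  fun a ha b hb => h a (h1 ha) b (h2 hb)

theorem Cm.smul {A B : Subgroup G} (h : Cm A B) (g : G) : Cm (g • A) (g • B) := by
  rw [← cm_iff, ← smul_cmt, cm_iff.2 h, smul_bot]

theorem cm_smul {A B : Subgroup G} (g : G) : Cm (g • A) (g • B) ↔ Cm A B :=
  ⟨fun h => by simpa using h.smul g⁻¹, fun h => h.smul g⟩

theorem cm_iff_le {A B : Subgroup G} : Cm A B ↔ A ≤ Subgroup.centralizer (B : Set G) :=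
  ⟨fun h a ha b hb => (h a ha b hb).symm, fun h a ha b hb => (h ha b hb).symm⟩

theorem Cm.sup {A B C : Subgroup G} (h1 : Cm A C) (h2 : Cm B C) : Cm (A ⊔ B) C := by
  rw [cm_iff_le] at *; exact sup_le h1 h2

theorem Cm.sup' {A B C : Subgroup G} (h1 : Cm A B) (h2 : Cm A C) : Cm A (B ⊔ C) := (h1.symm.sup h2.symm).symm

theorem Cm.smul_eq {A B : Subgroup G} (h : Cm A B) {a : G} (ha : a ∈ A) : a • B = B := smul_eq_of_comm (h a ha)

theorem cm_self {A : Subgroup G} : IsMulCommutative A ↔ Cm A A :=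
  ⟨fun h a ha b hb => congrArg Subtype.val (h.1.1 ⟨a, ha⟩ ⟨b, hb⟩), fun h => ⟨⟨fun a b => Subtype.ext (h a a.2 b b.2)⟩⟩⟩

theorem comm_of_sup {A B : Subgroup G} {z : G} (h1 : ∀ a ∈ A, z * a = a * z) (h2 : ∀ a ∈ B, z * a = a * z) :
    ∀ a ∈ A ⊔ B, z * a = a * z := by
  intro a ha
  have : A ⊔ B ≤ Subgroup.centralizer {z} := sup_le (fun a ha => by simpa [Subgroup.mem_centralizer_iff] using h1 a ha)
    (fun a ha => by simpa [Subgroup.mem_centralizer_iff] using h2 a ha)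
  simpa [Subgroup.mem_centralizer_iff] using this ha

theorem smul_of_sup {A B C : Subgroup G} (h1 : ∀ a ∈ A, a • C = C) (h2 : ∀ a ∈ B, a • C = C) :
    ∀ a ∈ A ⊔ B, a • C = C := fun a ha =>
  smul_eq_iff.2 ((sup_le (fun a ha => smul_eq_iff.1 (h1 a ha)) (fun a ha => smul_eq_iff.1 (h2 a ha)) :
    A ⊔ B ≤ Subgroup.normalizer (C : Set G)) ha)

theorem nilpotent_map {H : Type*} [Group H] (f : G →* H) {A : Subgroup G} (h : Group.IsNilpotent A) :
    Group.IsNilpotent (A.map f) := Group.nilpotent_of_surjective (f.subgroupMap A) (f.subgroupMap_surjective A)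

/-- induction over the join of two subgroups -/
theorem sup_ind {A B : Subgroup G} {p : G → Prop} (h1 : ∀ a ∈ A, p a) (h2 : ∀ a ∈ B, p a)
    (h3 : ∀ x ∈ A ⊔ B, ∀ y ∈ A ⊔ B, p x → p y → p (x * y)) : ∀ x ∈ A ⊔ B, p x := by
  intro x hx
  rw [Subgroup.sup_eq_closure] at hx h3
  induction hx using Subgroup.closure_induction'' with
  | one => exact h1 1 A.one_mem
  | mem x hx => exact hx.elim (h1 x) (h2 x)
  | inv_mem x hx => exact hx.elim (fun h => h1 _ (A.inv_mem h)) (fun h => h2 _ (B.inv_mem h))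
  | mul x y hx hy a b => exact h3 x hx y hy a b

/-- rank one pairs -/
abbrev R1 (A B : Subgroup G) : Prop := IsRankOnePair A B

/-- the unipotent subgroups -/
abbrev Om (A B : Subgroup G) : Set (Subgroup G) := unipotentSubgroups A B

theorem mem_Om' {A B C : Subgroup G} : C ∈ Om A B ↔ ∃ x ∈ A ⊔ B, C = x • A := Iff.rfl

namespace R1
variable {A B : Subgroup G} (h : R1 A B)
include h

theorem symm : R1 B A := RankOnePair_symm h

theorem ex {a : G} (ha : a ∈ A) (h1 : a ≠ 1) : ∃ b ∈ B, b ≠ 1 ∧ b • A = a • B := by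
  obtain ⟨b, hb, hb1, e⟩ := h.cond_left a⁻¹ (A.inv_mem ha) (by simpa using h1)
  exact ⟨b⁻¹, B.inv_mem hb, by simpa using hb1, by simpa [conjBy_eq] using e⟩

theorem ex' {b : G} (hb : b ∈ B) (h1 : b ≠ 1) : ∃ a ∈ A, a ≠ 1 ∧ a • B = b • A := h.symm.ex hb h1

theorem eq_one {a : G} (ha : a ∈ A) (e : a • B = B) : a = 1 := by
  by_contra h1
  obtain ⟨b, hb, -, e'⟩ := h.ex ha h1
  rw [e, ← smul_of_mem hb, smul_left_cancel_iff] at e'
  exact h.ne e'

theorem inj {a a' : G} (ha : a ∈ A) (ha' : a' ∈ A) (e : a • B = a' • B) : a = a' := by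
  have := h.eq_one (A.mul_mem (A.inv_mem ha') ha) (by rw [mul_smul, e, inv_smul_smul])
  rw [inv_mul_eq_one] at this; exact this.symm

theorem smul_ne {a : G} (ha : a ∈ A) : a • B ≠ A := fun e =>
  h.ne (by rw [← smul_left_cancel_iff a, e, smul_of_mem ha])

theorem exists_ne : ∃ a ∈ A, a ≠ 1 := by
  by_contra hc
  push Not at hc
  by_cases hB : ∃ b ∈ B, b ≠ 1
  · obtain ⟨b, hb, h1⟩ := hB
    obtain ⟨a, ha, ha1, -⟩ := h.ex' hb h1
    exact ha1 (hc a ha)
  · push Not at hB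
    exact h.ne (le_antisymm (fun a ha => hc a ha ▸ B.one_mem) (fun a ha => hB a ha ▸ A.one_mem))

theorem not_cm : ¬ Cm A B := fun c => by
  obtain ⟨a, ha, h1⟩ := h.exists_ne
  exact h1 (h.eq_one ha (c.smul_eq ha))

theorem inf_eq {a : G} (ha : a ∈ A) (hb : a ∈ B) : a = 1 := h.eq_one ha (smul_of_mem hb)

theorem map {H : Type*} [Group H] (f : G →* H) (hne : A.map f ≠ B.map f) : R1 (A.map f) (B.map f) := by
  have key : ∀ {A B : Subgroup G}, R1 A B → A.map f ≠ B.map f → RankOneCondition (A.map f) (B.map f) := by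
    rintro A B h hne _ ⟨a, ha, rfl⟩ h1
    obtain ⟨b, hb, -, e⟩ := h.cond_left a ha (fun e => h1 (by simp [e]))
    have e' : (f b)⁻¹ • A.map f = (f a)⁻¹ • B.map f := by
      rw [← map_inv, ← map_inv, ← map_smul, ← map_smul]; exact congrArg _ e
    refine ⟨f b, ⟨b, hb, rfl⟩, fun e1 => hne ?_, e'⟩
    rw [e1, inv_one, one_smul, eq_inv_smul_iff, smul_of_mem (Subgroup.mem_map_of_mem f ha)] at e'
    exact e'
  exact ⟨hne, nilpotent_map f h.nilpotent_left, nilpotent_map f h.nilpotent_right, key h hne, key h.symm hne.symm⟩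

theorem smul (g : G) : R1 (g • A) (g • B) := h.map _ fun e => h.ne ((smul_left_cancel_iff g).1 e)

theorem smul_mem_or {x : G} (hx : x ∈ A ⊔ B) : ∀ C, (C = A ∨ ∃ a ∈ A, C = a • B) → (x • C = A ∨ ∃ a ∈ A, x • C = a • B) := by
  refine sup_ind (p := fun x => ∀ C, (C = A ∨ ∃ a ∈ A, C = a • B) → (x • C = A ∨ ∃ a ∈ A, x • C = a • B)) ?_ ?_ ?_ x hx
  · rintro x hx C (rfl | ⟨a, ha, rfl⟩)
    · exact Or.inl (smul_of_mem hx)
    · exact Or.inr ⟨x * a, A.mul_mem hx ha, (mul_smul _ _ _).symm⟩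
  · have k : ∀ x ∈ B, x • A = A ∨ ∃ a ∈ A, x • A = a • B := by
      intro x hx
      by_cases h1 : x = 1
      · exact Or.inl (by rw [h1, one_smul])
      · obtain ⟨a, ha, -, e⟩ := h.ex' hx h1
        exact Or.inr ⟨a, ha, e.symm⟩
    rintro x hx C (e | ⟨a, ha, rfl⟩)
    · rw [e]; exact k x hx
    · by_cases h1 : a = 1
      · exact Or.inr ⟨1, A.one_mem, by rw [h1, one_smul, smul_of_mem hx]⟩
      · obtain ⟨b, hb, -, e⟩ := h.ex ha h1
        rw [← e, ← mul_smul]; exact k _ (B.mul_mem hx hb)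
  · intro x _ y _ hx hy C hC
    rw [mul_smul]; exact hx _ (hy C hC)

theorem exists_smul_eq : ∃ x ∈ A ⊔ B, x • A = B := by
  obtain ⟨a, ha, h1⟩ := h.exists_ne
  obtain ⟨b, hb, -, e⟩ := h.ex ha h1
  exact ⟨a⁻¹ * b, Subgroup.mul_mem_sup (A.inv_mem ha) hb, by rw [mul_smul, e, inv_smul_smul]⟩

theorem mem_Om {C : Subgroup G} : C ∈ Om A B ↔ C = A ∨ ∃ a ∈ A, C = a • B := by
  constructor
  · rintro ⟨x, hx, rfl⟩
    exact h.smul_mem_or hx A (Or.inl rfl)
  · rintro (rfl | ⟨a, ha, rfl⟩)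
    · exact ⟨1, one_mem _, (one_smul G C).symm⟩
    · obtain ⟨x, hx, e⟩ := h.exists_smul_eq
      exact ⟨a * x, Subgroup.mul_mem _ (Subgroup.mem_sup_left ha) hx, by rw [conjBy_eq, mul_smul, e]⟩

theorem left_mem : A ∈ Om A B := h.mem_Om.2 (Or.inl rfl)
theorem right_mem : B ∈ Om A B := h.mem_Om.2 (Or.inr ⟨1, A.one_mem, (one_smul _ _).symm⟩)

omit h in
theorem smul_mem {C : Subgroup G} (hC : C ∈ Om A B) {x : G} (hx : x ∈ A ⊔ B) : x • C ∈ Om A B := by
  obtain ⟨y, hy, rfl⟩ := hC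
  exact ⟨x * y, Subgroup.mul_mem _ hx hy, (mul_smul _ _ _).symm⟩

omit h in
theorem le_of_mem {C : Subgroup G} (hC : C ∈ Om A B) : C ≤ A ⊔ B := by
  obtain ⟨y, hy, rfl⟩ := hC
  exact smul_le le_sup_left hy

theorem Om_symm : Om B A = Om A B := by
  obtain ⟨x, hx, e⟩ := h.exists_smul_eq
  ext C
  constructor
  · rintro ⟨y, hy, rfl⟩
    exact smul_mem h.right_mem (sup_comm A B ▸ hy)
  · rintro ⟨y, hy, rfl⟩
    exact smul_mem h.symm.right_mem (sup_comm A B ▸ hy)

theorem two_trans {C D : Subgroup G} (hC : C ∈ Om A B) (hD : D ∈ Om A B) (hne : C ≠ D) :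
    ∃ x ∈ A ⊔ B, x • A = C ∧ x • B = D := by
  obtain ⟨y, hy, rfl⟩ := hC
  rcases h.mem_Om.1 (smul_mem hD (Subgroup.inv_mem _ hy)) with e | ⟨a, ha, e⟩
  · exact absurd (by rw [conjBy_eq, ← e, smul_inv_smul]) hne
  · refine ⟨y * a, Subgroup.mul_mem _ hy (Subgroup.mem_sup_left ha), ?_, ?_⟩
    · rw [mul_smul, smul_of_mem ha]; rfl
    · rw [mul_smul, ← e, smul_inv_smul]

theorem of_mem {C D : Subgroup G} (hC : C ∈ Om A B) (hD : D ∈ Om A B) (hne : C ≠ D) : R1 C D := by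
  obtain ⟨x, -, rfl, rfl⟩ := h.two_trans hC hD hne
  exact h.smul x

theorem sup_of_mem {C D : Subgroup G} (hC : C ∈ Om A B) (hD : D ∈ Om A B) (hne : C ≠ D) : C ⊔ D = A ⊔ B := by
  obtain ⟨x, hx, rfl, rfl⟩ := h.two_trans hC hD hne
  rw [← smul_sup, smul_of_mem hx]

theorem Om_of_mem {C D : Subgroup G} (hC : C ∈ Om A B) (hD : D ∈ Om A B) (hne : C ≠ D) : Om C D = Om A B := by
  ext E
  rw [mem_Om', h.sup_of_mem hC hD hne]
  constructor
  · rintro ⟨x, hx, rfl⟩; exact smul_mem hC hx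
  · rintro ⟨x, hx, rfl⟩
    obtain ⟨y, hy, rfl⟩ := hC
    exact ⟨x * y⁻¹, Subgroup.mul_mem _ hx (Subgroup.inv_mem _ hy), by rw [conjBy_eq, conjBy_eq, mul_smul, inv_smul_smul]⟩

theorem eq_of_mem {C D : Subgroup G} (hC : C ∈ Om A B) (hD : D ∈ Om A B) {x : G} (h1 : x ≠ 1) (hx : x ∈ C)
    (hy : x • D = D) : C = D := by
  by_contra hne
  exact h1 ((h.of_mem hC hD hne).eq_one hx hy)

theorem eq_of_cm {C D : Subgroup G} (hC : C ∈ Om A B) (hD : D ∈ Om A B) (c : Cm C D) : C = D := by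
  by_contra hne
  exact (h.of_mem hC hD hne).not_cm c

/-- `(B, a • B)` is a rank one pair -/
theorem r1_smul {a : G} (ha : a ∈ A) (h1 : a ≠ 1) : R1 B (a • B) :=
  h.of_mem h.right_mem (smul_mem h.right_mem (Subgroup.mem_sup_left ha)) fun e => h1 (h.eq_one ha e.symm)

/-- an element centralizing `A` and normalizing `B` centralizes `B` -/
theorem comm_of_comm {z : G} (hA : ∀ a ∈ A, z * a = a * z) (hB : z • B = B) : ∀ b ∈ B, z * b = b * z := by
  intro b hb
  by_cases h1 : b = 1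
  · simp [h1]
  obtain ⟨a, ha, -, e⟩ := h.ex' hb h1
  have : (z * b * z⁻¹) • A = b • A := by
    rw [mul_smul, mul_smul, (inv_smul_eq_iff.2 (smul_eq_of_comm hA).symm : z⁻¹ • A = A), ← e, ← mul_smul, hA a ha,
      mul_smul, hB]
  have := h.symm.inj (hB ▸ conj_mem hb z) hb this
  exact mul_inv_eq_iff_eq_mul.1 this

/-- an element fixing all unipotent subgroups centralizes the group -/
theorem comm_of_fix {z : G} (hz : ∀ C ∈ Om A B, z • C = C) : ∀ x ∈ A ⊔ B, z * x = x * z := by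
  have key : ∀ {A B : Subgroup G}, R1 A B → (∀ C ∈ Om A B, z • C = C) → ∀ a ∈ A, z * a = a * z := by
    intro A B h hz a ha
    have : (z * a * z⁻¹) • B = a • B := by
      rw [mul_smul, mul_smul, (inv_smul_eq_iff.2 (hz B h.right_mem).symm : z⁻¹ • B = B),
        hz _ (smul_mem h.right_mem (Subgroup.mem_sup_left ha))]
    have := h.inj (hz A h.left_mem ▸ conj_mem ha z) ha this
    exact mul_inv_eq_iff_eq_mul.1 this
  exact comm_of_sup (key h hz) (key h.symm (h.Om_symm ▸ hz))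

/-- a normal subgroup is central or supplements `A` -/
theorem normal_or {N : Subgroup G} (hN : ∀ x ∈ A ⊔ B, x • N = N) (hle : N ≤ A ⊔ B) :
    B ≤ N ⊔ A ∨ Cm N (A ⊔ B) := by
  by_cases hc : ∀ n ∈ N, n • A = A
  · right
    intro n hn
    refine h.comm_of_fix ?_
    rintro C ⟨x, hx, rfl⟩
    have : x⁻¹ * n * x ∈ N := by rw [← mem_smul, hN x hx]; exact hn
    rw [conjBy_eq, ← mul_smul, show n * x = x * (x⁻¹ * n * x) by group, mul_smul, hc _ this]
  · left
    push Not at hc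
    obtain ⟨n, hn, hne⟩ := hc
    rcases h.mem_Om.1 (smul_mem h.left_mem (hle hn)) with e | ⟨a, ha, e⟩
    · exact absurd e hne
    · rw [(eq_inv_smul_iff.2 e.symm : B = a⁻¹ • n • A), ← mul_smul]
      exact smul_le le_sup_right (Subgroup.mul_mem _ (Subgroup.mem_sup_right (A.inv_mem ha)) (Subgroup.mem_sup_left hn))

/-- second centre equals centre -/
theorem comm_of_comm2 {z : G} (hz : z ∈ A ⊔ B)
    (hc : ∀ x ∈ A ⊔ B, ∀ y ∈ A ⊔ B, (z * x * z⁻¹ * x⁻¹) * y = y * (z * x * z⁻¹ * x⁻¹)) : ∀ x ∈ A ⊔ B, z * x = x * z := by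
  refine h.comm_of_fix fun C hC => ?_
  by_contra hne
  have r := h.of_mem (smul_mem hC hz) hC hne
  obtain ⟨c, hc0, h1⟩ := r.symm.exists_ne
  refine h1 ?_
  have e := r.eq_one (conj_mem hc0 z) (by
    rw [show z * c * z⁻¹ = (z * c * z⁻¹ * c⁻¹) * c by group, mul_smul, smul_of_mem hc0]
    exact smul_eq_of_comm fun y hy => hc c (le_of_mem hC hc0) y (le_of_mem hC hy))
  simpa using e

theorem not_nilpotent : ¬ Group.IsNilpotent ↥(A ⊔ B) := by
  intro hn
  obtain ⟨n, e⟩ := hn.nilpotent'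
  have key : ∀ k, ∀ z ∈ Subgroup.upperCentralSeries ↥(A ⊔ B) k, ∀ x ∈ A ⊔ B, (z : G) * x = x * z := by
    intro k
    induction k with
    | zero => intro z hz x _; simp at hz; simp [hz]
    | succ k ih =>
      intro z hz
      exact h.comm_of_comm2 z.2 fun x hx y hy => ih _ ((Subgroup.mem_upperCentralSeries_succ_iff.1 hz) ⟨x, hx⟩) y hy
  exact h.not_cm fun a ha b hb => key n ⟨a, Subgroup.mem_sup_left ha⟩ (e ▸ Subgroup.mem_top _) b (Subgroup.mem_sup_right hb)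

theorem not_le_nilpotent {K : Subgroup G} (hK : Group.IsNilpotent K) (hA : A ≤ K) (hB : B ≤ K) : False :=
  h.not_nilpotent (Group.nilpotent_of_mulEquiv (Subgroup.subgroupOfEquivOfLe (sup_le hA hB)))

end R1

theorem r1_smul_iff {A B : Subgroup G} (g : G) : R1 (g • A) (g • B) ↔ R1 A B :=
  ⟨fun h => by simpa using h.smul g⁻¹, fun h => h.smul g⟩

end Cfsg.Agent.Root
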