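import Mathlib
import Cfsg.Agent.Lib.Root.R1

/-! Unipotent subgroups of the unit group of a finite dimensional algebra. -/

set_option autoImplicit false

namespace Cfsg.Agent.Root
open Cfsg

section Alg
variable (k : Type*) [Field k] {E : Type*} [Ring E] [Algebra k E]

/-- the span of the elements `g - 1` -/
def Aug (H : Subgroup Eˣ) : Submodule k E := Submodule.span k ((fun g : Eˣ => (g : E) - 1) '' H)

/-- unipotent subgroups -/
def Un (H : Subgroup Eˣ) : Prop := IsNilpotent (Aug k H)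

variable {k}

theorem mem_Aug {H : Subgroup Eˣ} {g : Eˣ} (h : g ∈ H) : (g : E) - 1 ∈ Aug k H := Submodule.subset_span ⟨g, h, rfl⟩

theorem Aug_le {H : Subgroup Eˣ} {N : Submodule k E} : Aug k H ≤ N ↔ ∀ g ∈ H, (g : E) - 1 ∈ N := by
  rw [Aug, Submodule.span_le]
  exact ⟨fun h g hg => h ⟨g, hg, rfl⟩, by rintro h _ ⟨g, hg, rfl⟩; exact h g hg⟩

theorem Aug_mono {H K : Subgroup Eˣ} (h : H ≤ K) : Aug k H ≤ Aug k K := Aug_le.2 fun _ hg => mem_Aug (h hg)

theorem Aug_mul (H : Subgroup Eˣ) : Aug k H * Aug k H ≤ Aug k H := by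
  rw [Aug, Submodule.span_mul_span, Submodule.span_le]
  rintro _ ⟨_, ⟨g, hg, rfl⟩, _, ⟨h, hh, rfl⟩, rfl⟩
  have : ((g : E) - 1) * (h - 1) = (((g * h : Eˣ) : E) - 1) - ((g : E) - 1) - ((h : E) - 1) := by
    rw [Units.val_mul]; noncomm_ring
  change ((g : E) - 1) * (h - 1) ∈ Aug k H
  rw [this]
  exact sub_mem (sub_mem (mem_Aug (H.mul_mem hg hh)) (mem_Aug hg)) (mem_Aug hh)

theorem nil_of_le {N N' : Submodule k E} (h : N ≤ N') (h' : IsNilpotent N') : IsNilpotent N := by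
  obtain ⟨n, hn⟩ := h'
  exact ⟨n, le_antisymm (hn ▸ pow_le_pow_left' h n) bot_le⟩

theorem Un.mono {H K : Subgroup Eˣ} (h : Un k K) (hle : H ≤ K) : Un k H := nil_of_le (Aug_mono hle) h

theorem pow_succ_le {N : Submodule k E} (h : N * N ≤ N) (n : ℕ) : N ^ (n + 1) ≤ N := by
  induction n with
  | zero => simp
  | succ n ih => rw [pow_succ]; exact (mul_le_mul_left ih _).trans h

/-- the group `1 + N` -/
def oneAdd [FiniteDimensional k E] (N : Submodule k E) (h : N * N ≤ N) : Subgroup Eˣ where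
  carrier := {g | (g : E) - 1 ∈ N}
  one_mem' := by simp
  mul_mem' := fun {a b} ha hb => by
    have : ((a * b : Eˣ) : E) - 1 = ((a : E) - 1) * (b - 1) + ((a : E) - 1) + ((b : E) - 1) := by
      rw [Units.val_mul]; noncomm_ring
    change _ ∈ N
    rw [this]; exact add_mem (add_mem (h (Submodule.mul_mem_mul ha hb)) ha) hb
  inv_mem' := fun {a} ha => by
    have hm : ∀ x ∈ N, LinearMap.mulLeft k (a : E) x ∈ N := fun x hx => by
      have : (a : E) * x = (a - 1) * x + x := by noncomm_ring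
      rw [LinearMap.mulLeft_apply, this]; exact add_mem (h (Submodule.mul_mem_mul ha hx)) hx
    have hi : Function.Injective ((LinearMap.mulLeft k (a : E)).restrict hm) := fun x y e =>
      Subtype.ext ((Units.mul_right_inj a).1 (congrArg Subtype.val e))
    obtain ⟨z, hz⟩ := LinearMap.surjective_of_injective hi ⟨_, N.neg_mem ha⟩
    have hz : (a : E) * z = -(a - 1) := congrArg Subtype.val hz
    have : ((a⁻¹ : Eˣ) : E) - 1 = z := by
      rw [← Units.mul_right_inj a, hz, mul_sub]; simp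
    change _ ∈ N
    rw [this]; exact z.2

theorem mem_oneAdd [FiniteDimensional k E] {N : Submodule k E} {h : N * N ≤ N} {g : Eˣ} :
    g ∈ oneAdd N h ↔ (g : E) - 1 ∈ N := Iff.rfl

theorem le_oneAdd [FiniteDimensional k E] {N : Submodule k E} {h : N * N ≤ N} {H : Subgroup Eˣ} :
    H ≤ oneAdd N h ↔ Aug k H ≤ N := Aug_le.symm

theorem Aug_sSup_le [FiniteDimensional k E] {N : Submodule k E} (h : N * N ≤ N) {S : Set (Subgroup Eˣ)}
    (hS : ∀ A ∈ S, Aug k A ≤ N) : Aug k (sSup S) ≤ N :=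
  (le_oneAdd (h := h)).1 (sSup_le fun A hA => le_oneAdd.2 (hS A hA))

theorem Aug_sup_le [FiniteDimensional k E] {N : Submodule k E} (h : N * N ≤ N) {A B : Subgroup Eˣ}
    (hA : Aug k A ≤ N) (hB : Aug k B ≤ N) : Aug k (A ⊔ B) ≤ N :=
  (le_oneAdd (h := h)).1 (sup_le (le_oneAdd.2 hA) (le_oneAdd.2 hB))

theorem Un.sup_of_norm [FiniteDimensional k E] {U D : Subgroup Eˣ} (hU : Un k U) (hD : Un k D)
    (h : ∀ u ∈ U, u • D = D) : Un k (U ⊔ D) := by
  let T : Submodule k E := Submodule.span k ((fun g : Eˣ => (g : E)) '' U)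
  have T1 : ∀ u ∈ U, (u : E) ∈ T := fun u hu => Submodule.subset_span ⟨u, hu, rfl⟩
  have T2 : T * T ≤ T := by
    rw [Submodule.span_mul_span, Submodule.span_le]
    rintro _ ⟨_, ⟨g, hg, rfl⟩, _, ⟨g', hg', rfl⟩, rfl⟩
    exact T1 _ (U.mul_mem hg hg')
  have T3 : Aug k U ≤ T := Aug_le.2 fun g hg => sub_mem (T1 g hg) (T1 1 U.one_mem)
  have T4 : 1 ≤ T := Submodule.one_le.2 (T1 1 U.one_mem)
  have c : Commute (Aug k D) T := by
    apply le_antisymm <;> rw [Aug, Submodule.span_mul_span, Submodule.span_le]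
    · rintro _ ⟨_, ⟨d, hd, rfl⟩, _, ⟨u, hu, rfl⟩, rfl⟩
      have : ((d : E) - 1) * u = u * (((u⁻¹ * d * u : Eˣ) : E) - 1) := by simp [mul_sub, sub_mul, ← mul_assoc]
      change ((d : E) - 1) * u ∈ T * Aug k D
      rw [this]
      exact Submodule.mul_mem_mul (T1 u hu) (mem_Aug (mem_smul.1 ((h u hu).symm ▸ hd)))
    · rintro _ ⟨_, ⟨u, hu, rfl⟩, _, ⟨d, hd, rfl⟩, rfl⟩
      have : (u : E) * ((d : E) - 1) = (((u * d * u⁻¹ : Eˣ) : E) - 1) * u := by simp [mul_sub, sub_mul, mul_assoc]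
      change (u : E) * ((d : E) - 1) ∈ Aug k D * T
      rw [this]
      exact Submodule.mul_mem_mul (mem_Aug (h u hu ▸ conj_mem hd u)) (T1 u hu)
  have hI : IsNilpotent (Aug k D * T) := c.isNilpotent_mul_right hD
  have i1 : T * (Aug k D * T) ≤ Aug k D * T := by
    rw [← mul_assoc, ← c.eq, mul_assoc]; exact mul_le_mul_right T2 _
  have i2 : (Aug k D * T) * T ≤ Aug k D * T := by rw [mul_assoc]; exact mul_le_mul_right T2 _
  have i3 : (Aug k D * T) * (Aug k D * T) ≤ Aug k D * T := by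
    rw [mul_assoc]
    refine (mul_le_mul_right i1 _).trans ?_
    rw [← mul_assoc]; exact mul_le_mul_left (Aug_mul D) _
  have p1 : ∀ m, Aug k U ^ m ≤ T := fun m => by
    rcases m with _ | m
    · simpa using T4
    · exact (pow_succ_le (Aug_mul U) m).trans T3
  have p2 : ∀ m, (Aug k U ⊔ Aug k D * T) ^ m ≤ Aug k U ^ m ⊔ Aug k D * T := fun m => by
    induction m with
    | zero => simp
    | succ m ih =>
      rw [pow_succ]
      refine (mul_le_mul_left ih _).trans ?_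
      rw [Submodule.sup_mul, Submodule.mul_sup, Submodule.mul_sup, ← pow_succ]
      exact sup_le (sup_le le_sup_left (((mul_le_mul_left (p1 m) _).trans i1).trans le_sup_right))
        ((sup_le ((mul_le_mul_right T3 _).trans i2) i3).trans le_sup_right)
  have p3 : (Aug k U ⊔ Aug k D * T) * (Aug k U ⊔ Aug k D * T) ≤ Aug k U ⊔ Aug k D * T := by
    have := p2 2
    rw [pow_two, pow_two] at this
    exact this.trans (sup_le_sup_right (Aug_mul U) _)
  refine nil_of_le (Aug_sup_le p3 le_sup_left (le_sup_of_le_right ?_)) ?_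
  · simpa using mul_le_mul_right T4 (Aug k D)
  · obtain ⟨m, hm⟩ := hU
    refine IsNilpotent.of_pow (m := m) (nil_of_le ((p2 m).trans ?_) hI)
    rw [hm]; simp

theorem smul_sSup_le {G : Type*} [Group G] {S : Set (Subgroup G)} {g : G} (h : ∀ A ∈ S, g • A ∈ S) :
    g • sSup S ≤ sSup S := by
  rw [← conjBy_eq, Subgroup.map_le_iff_le_comap]
  exact sSup_le fun A hA => Subgroup.map_le_iff_le_comap.1 (le_sSup (h A hA))

theorem smul_sSup_eq {G : Type*} [Group G] {S : Set (Subgroup G)} {g : G} (h : ∀ A ∈ S, g • A ∈ S)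
    (h' : ∀ A ∈ S, g⁻¹ • A ∈ S) : g • sSup S = sSup S :=
  le_antisymm (smul_sSup_le h) (by simpa using smul_mono (smul_sSup_le h') g)

theorem un_sSup [FiniteDimensional k E] {W : Set (Subgroup Eˣ)} (h1 : ∀ A ∈ W, ∀ B ∈ W, Un k (A ⊔ B))
    (h2 : ∀ A ∈ W, ∀ B ∈ W, ∀ a ∈ A, a • B ∈ W) : Un k (sSup W) := by
  let Mx : Set (Subgroup Eˣ) → Prop := fun P => P ⊆ W ∧ Un k (sSup P) ∧ ∀ T ⊆ W, P ⊆ T → Un k (sSup T) → T ⊆ P
  have sat : ∀ P, Mx P → ∀ A ∈ W, Aug k A ≤ Aug k (sSup P) → A ∈ P := fun P hP A hA hle =>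
    hP.2.2 (insert A P) (Set.insert_subset hA hP.1) (Set.subset_insert _ _) (nil_of_le (Aug_sSup_le (Aug_mul _) (by
      rintro B (rfl | hB)
      exacts [hle, Aug_mono (le_sSup hB)])) hP.2.1) (Set.mem_insert _ _)
  have ex : ∀ S ⊆ W, Un k (sSup S) → ∃ P, Mx P ∧ S ⊆ P := fun S hS hu => by
    obtain ⟨_, ⟨T, ⟨a1, a2, a3⟩, rfl⟩, hm⟩ := (wellFounded_gt (α := Submodule k E)).has_min
      ((fun T => Aug k (sSup T)) '' {T | T ⊆ W ∧ S ⊆ T ∧ Un k (sSup T)}) ⟨_, S, ⟨hS, le_rfl, hu⟩, rfl⟩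
    have b : T ⊆ {A | A ∈ W ∧ Aug k A ≤ Aug k (sSup T)} := fun A hA => ⟨a1 hA, Aug_mono (le_sSup hA)⟩
    refine ⟨{A | A ∈ W ∧ Aug k A ≤ Aug k (sSup T)}, ⟨fun A hA => hA.1,
      nil_of_le (Aug_sSup_le (Aug_mul _) fun A hA => hA.2) a3, fun T' c1 c2 c3 A hA => ⟨c1 hA, ?_⟩⟩, a2.trans b⟩
    have := hm _ ⟨T', ⟨c1, a2.trans (b.trans c2), c3⟩, rfl⟩
    rw [(Aug_mono (sSup_le_sSup (b.trans c2))).eq_of_not_lt this]
    exact Aug_mono (le_sSup hA)
  have grow : ∀ P D, Mx P → D ⊆ P → (∀ A ∈ W, Aug k A ≤ Aug k (sSup D) → A ∈ D) → ¬ P ⊆ D →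
      ∃ A ∈ P, A ∉ D ∧ ∀ a ∈ A, a • sSup D = sSup D := fun P D hP hD hs hne => by
    have dp : Aug k (sSup D) ≤ Aug k (sSup P) := Aug_mono (sSup_le_sSup hD)
    obtain ⟨j, ⟨A, hA, hle, hn⟩, hj⟩ : ∃ j, (∃ A ∈ W, Aug k A ≤ Aug k (sSup D) ⊔ Aug k (sSup P) ^ (j + 1) ∧ A ∉ D) ∧
        ¬ ∃ A ∈ W, Aug k A ≤ Aug k (sSup D) ⊔ Aug k (sSup P) ^ (j + 1 + 1) ∧ A ∉ D := by
      by_contra hc
      push Not at hc
      have : ∀ j, ∃ A ∈ W, Aug k A ≤ Aug k (sSup D) ⊔ Aug k (sSup P) ^ (j + 1) ∧ A ∉ D := fun j => by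
        induction j with
        | zero =>
          obtain ⟨A, hA, hn⟩ := Set.not_subset.1 hne
          exact ⟨A, hP.1 hA, le_sup_of_le_right (by simpa using Aug_mono (le_sSup hA)), hn⟩
        | succ j ih => exact hc j ih
      obtain ⟨n, hn⟩ := hP.2.1
      obtain ⟨A, hA, hle, hn'⟩ := this n
      rw [pow_succ, hn] at hle
      exact hn' (hs A hA (by simpa using hle))
    have key : ∀ a ∈ A, ∀ B ∈ D, a • B ∈ D := fun a ha B hB => by
      by_contra hc
      refine hj ⟨_, h2 A hA B (hP.1 (hD hB)) a ha, Aug_le.2 fun g hg => ?_, hc⟩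
      obtain ⟨b, hb, rfl⟩ := exists_of_mem_smul hg
      obtain ⟨x, hx, z, hz, e⟩ := Submodule.mem_sup.1 (hle (mem_Aug ha))
      obtain ⟨x', hx', z', hz', e'⟩ := Submodule.mem_sup.1 (hle (mem_Aug (A.inv_mem ha)))
      have hy : (b : E) - 1 ∈ Aug k (sSup D) := mem_Aug (le_sSup hB hb)
      have m := fun {u v : E} (hu : u ∈ Aug k (sSup D)) (hv : v ∈ Aug k (sSup D)) =>
        Aug_mul (sSup D) (Submodule.mul_mem_mul hu hv)
      have m' := fun {u v : E} (hu : u ∈ Aug k (sSup P)) (hv : v ∈ Aug k (sSup P)) =>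
        Aug_mul (sSup P) (Submodule.mul_mem_mul hu hv)
      have : ((a * b * a⁻¹ : Eˣ) : E) - 1 = (a : E) * ((b : E) - 1) * (a⁻¹ : Eˣ) := by simp [mul_sub, sub_mul]
      rw [this, ← sub_add_cancel (a : E) 1, ← sub_add_cancel ((a⁻¹ : Eˣ) : E) 1, ← e, ← e']
      set y := (b : E) - 1
      have : (x + z + 1) * y * (x' + z' + 1) = ((x * y + y) * x' + (x * y + y)) +
          (z * (y * (x' + z') + y) + (x * y + y) * z') := by noncomm_ring
      rw [this]
      have a1 : x * y + y ∈ Aug k (sSup D) := add_mem (m hx hy) hy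
      refine Submodule.add_mem_sup (add_mem (m a1 hx') a1) (add_mem ?_ ?_)
      · rw [pow_succ]
        exact Submodule.mul_mem_mul hz (add_mem (m' (dp hy) (add_mem (dp hx') (pow_succ_le (Aug_mul _) _ hz'))) (dp hy))
      · rw [pow_succ']
        exact Submodule.mul_mem_mul (dp a1) hz'
    exact ⟨A, sat P hP A hA (hle.trans (sup_le dp (pow_succ_le (Aug_mul _) _))), hn,
      fun a ha => smul_sSup_eq (key a ha) (key _ (A.inv_mem ha))⟩
  have uq : ∀ N : Submodule k E, ∀ P P', Mx P → Mx P' → Aug k (sSup (P ∩ P')) = N → P = P' := fun N => by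
    induction N using (wellFounded_gt (α := Submodule k E)).induction with
    | h N ih =>
    intro P P' hP hP' e
    by_contra hne
    have hs : ∀ A ∈ W, Aug k A ≤ Aug k (sSup (P ∩ P')) → A ∈ P ∩ P' := fun A hA hle =>
      ⟨sat P hP A hA (hle.trans (Aug_mono (sSup_le_sSup Set.inter_subset_left))),
        sat P' hP' A hA (hle.trans (Aug_mono (sSup_le_sSup Set.inter_subset_right)))⟩
    obtain ⟨A, a1, a2, a3⟩ := grow P _ hP Set.inter_subset_left hs fun h =>
      hne (le_antisymm (h.trans Set.inter_subset_right) (hP.2.2 _ hP'.1 (h.trans Set.inter_subset_right) hP'.2.1))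
    obtain ⟨B, b1, b2, b3⟩ := grow P' _ hP' Set.inter_subset_right hs fun h =>
      hne (le_antisymm (hP'.2.2 _ hP.1 (h.trans Set.inter_subset_left) hP.2.1) (h.trans Set.inter_subset_left))
    obtain ⟨P'', c1, c2⟩ := ex (insert A (insert B (P ∩ P')))
      (Set.insert_subset (hP.1 a1) (Set.insert_subset (hP'.1 b1) (Set.inter_subset_left.trans hP.1))) (by
        rw [sSup_insert, sSup_insert, ← sup_assoc]
        exact (h1 A (hP.1 a1) B (hP'.1 b1)).sup_of_norm (hP.2.1.mono (sSup_le_sSup Set.inter_subset_left))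
          (smul_of_sup a3 b3))
    have c3 : P ∩ P' ⊆ P'' := fun C hC => c2 (Or.inr (Or.inr hC))
    have k : ∀ Q C, Mx Q → P ∩ P' ⊆ Q → C ∈ Q → C ∈ P'' → C ∉ P ∩ P' → Q = P'' := fun Q C hQ q1 q2 q3 q4 =>
      ih _ (e ▸ lt_of_le_of_ne (Aug_mono (sSup_le_sSup (Set.subset_inter q1 c3))) fun e' =>
        q4 (hs C (hQ.1 q2) (e' ▸ Aug_mono (le_sSup ⟨q2, q3⟩)))) Q P'' hQ c1 rfl
    exact hne ((k P A hP Set.inter_subset_left a1 (c2 (Or.inl rfl)) a2).trans
      (k P' B hP' Set.inter_subset_right b1 (c2 (Or.inr (Or.inl rfl))) b2).symm)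
  obtain ⟨P, hP, -⟩ := ex ∅ (Set.empty_subset _) ⟨1, by simp [Aug]⟩
  refine hP.2.1.mono (sSup_le_sSup fun A hA => ?_)
  obtain ⟨P', hP', h⟩ := ex {A} (Set.singleton_subset_iff.2 hA) (by simpa using h1 A hA A hA)
  rw [uq _ P P' hP hP' rfl]; exact h rfl

end Alg

section Lin
variable {k : Type*} [Field k] {M : Type*} [AddCommGroup M] [Module k M]

theorem unip_iff' {H : Subgroup (LinearMap.GeneralLinearGroup k M)} : IsUnipotentOn H ↔
    ∃ n : ℕ, ∀ l : List (LinearMap.GeneralLinearGroup k M), (∀ g ∈ l, g ∈ H) → l.length = n →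
      (List.map (fun g : LinearMap.GeneralLinearGroup k M => (g : M →ₗ[k] M) - 1) l).prod = 0 := by
  refine exists_congr fun n => forall_congr' fun l => forall_congr' fun _ => forall_congr' fun _ => ?_
  have : ∀ l : List (LinearMap.GeneralLinearGroup k M),
      (l >>= fun a => (pure (a : M →ₗ[k] M) : List (M →ₗ[k] M))) = l.map Units.val := fun l => by
    induction l <;> simp_all
  simp only [bind_pure_comp, List.map_eq_map, List.map_map]
  rfl

theorem unip_iff {H : Subgroup (LinearMap.GeneralLinearGroup k M)} : IsUnipotentOn H ↔ Un k H := by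
  rw [unip_iff']
  refine exists_congr fun n => ?_
  rw [Aug, Submodule.span_pow, Submodule.zero_eq_bot, Submodule.span_eq_bot]
  constructor
  · intro h x hx
    obtain ⟨f, rfl⟩ := Set.mem_pow.1 hx
    choose g hg e using fun i => (f i).2
    have := h (List.ofFn g) (by simpa [List.mem_ofFn] using hg) (by simp)
    rw [List.map_ofFn] at this
    rw [← this]; congr 2; ext1 i; exact (e i).symm
  · rintro h l hl rfl
    refine h _ (Set.mem_pow.2 ⟨fun i => ⟨_, l.get i, hl _ (l.get_mem i), rfl⟩, ?_⟩)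
    conv_rhs => rw [← List.ofFn_get l, List.map_ofFn]
    rfl

theorem Un.eq_bot_of_irr {G N : Subgroup (LinearMap.GeneralLinearGroup k M)} (h : IsIrreducibleFor G) (hN : Un k N)
    (hn : ∀ g ∈ G, g • N = N) : N = ⊥ := by
  have h1 : ∃ m : M, m ≠ 0 ∧ ∀ x ∈ Aug k N, x m = 0 := by
    by_contra hc
    push Not at hc
    obtain ⟨m, hm⟩ := h.1
    have : ∀ n, ∃ x ∈ Aug k N ^ n, x m ≠ 0 := fun n => by
      induction n with
      | zero => exact ⟨1, by simp [Submodule.one_le.1], hm⟩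
      | succ n ih =>
        obtain ⟨x, hx, h0⟩ := ih
        obtain ⟨y, hy, h1⟩ := hc _ h0
        exact ⟨y * x, by rw [pow_succ']; exact Submodule.mul_mem_mul hy hx, h1⟩
    obtain ⟨n, hn⟩ := hN
    obtain ⟨x, hx, h0⟩ := this n
    rw [hn, Submodule.zero_eq_bot, Submodule.mem_bot] at hx
    exact h0 (by simp [hx])
  obtain ⟨m, hm, h1⟩ := h1
  rcases h.2 (fixedSubmodule N) (fun g hg w hw => by
    simp only [fixedSubmodule, Submodule.mem_iInf, LinearMap.mem_ker] at hw ⊢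
    intro x hx
    have := hw _ (mem_smul.1 ((hn g hg).symm ▸ hx))
    have e : ((x : M →ₗ[k] M) - 1) * g = g * (((g⁻¹ * x * g : LinearMap.GeneralLinearGroup k M) : M →ₗ[k] M) - 1) := by
      simp [mul_sub, sub_mul, ← mul_assoc]
    rw [← Module.End.mul_apply, e, Module.End.mul_apply, this, map_zero]) with e | e
  · refine absurd ((Submodule.mem_bot k).1 (e ▸ ?_)) hm
    simp only [fixedSubmodule, Submodule.mem_iInf, LinearMap.mem_ker]
    exact fun x hx => h1 _ (mem_Aug hx)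
  · refine eq_bot_iff.2 fun x hx => Subgroup.mem_bot.2 (Units.ext (sub_eq_zero.1 (LinearMap.ext fun w => ?_)))
    have : w ∈ fixedSubmodule N := e ▸ Submodule.mem_top
    simp only [fixedSubmodule, Submodule.mem_iInf, LinearMap.mem_ker] at this
    exact this x hx

end Lin

end Cfsg.Agent.Root
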