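import Mathlib
import Cfsg.Agent.Lib.Root.Unip
import Cfsg.Agent.Lib.Root.Dick

/-! Quadratic elements of linear groups: basic calculus. -/

set_option autoImplicit false

namespace Cfsg.Agent.Root
open Cfsg Module

section Alg
variable (k : Type*) [Field k] {E : Type*} [Ring E] [Algebra k E]

/-- square zero elements whose line exponentiates into `G` -/
def QE (G : Subgroup Eˣ) (x : E) : Prop := x * x = 0 ∧ ∀ c : k, ∃ g ∈ G, (g : E) = 1 + c • x

variable {k} {G : Subgroup Eˣ}

/-- the unit `1 + x` -/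
def un1 (x : E) (h : x * x = 0) : Eˣ :=
  ⟨1 + x, 1 - x, by rw [add_mul, mul_sub, mul_sub, h]; simp, by rw [sub_mul, mul_add, mul_add, h]; simp⟩

@[simp] theorem un1_val (x : E) (h : x * x = 0) : (un1 x h : E) = 1 + x := rfl
@[simp] theorem un1_inv (x : E) (h : x * x = 0) : (((un1 x h)⁻¹ : Eˣ) : E) = 1 - x := rfl

/-- conjugation by a unit -/
abbrev cj (g : Eˣ) (x : E) : E := (g : E) * x * ((g⁻¹ : Eˣ) : E)

theorem QE.zero : QE k G 0 := ⟨by simp, fun c => ⟨1, G.one_mem, by simp⟩⟩

namespace QE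
variable {x y : E}

theorem smul (h : QE k G x) (c : k) : QE k G (c • x) :=
  ⟨by simp [h.1], fun c' => by simpa [smul_smul] using h.2 (c' * c)⟩

theorem neg (h : QE k G x) : QE k G (-x) := by simpa using h.smul (-1)

theorem un1_mem (h : QE k G x) : un1 x h.1 ∈ G := by
  obtain ⟨g, hg, e⟩ := h.2 1
  rwa [show un1 x h.1 = g from Units.ext (by simp [e])]

theorem conj (h : QE k G x) {g : Eˣ} (hg : g ∈ G) : QE k G (cj g x) := by
  refine ⟨by simp [mul_assoc, ← mul_assoc x, h.1], fun c => ?_⟩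
  obtain ⟨u, hu, e⟩ := h.2 c
  exact ⟨g * u * g⁻¹, G.mul_mem (G.mul_mem hg hu) (G.inv_mem hg), by simp [e, mul_add, add_mul]⟩

theorem conj1 (h : QE k G x) (hy : QE k G y) : QE k G ((1 + y) * x * (1 - y)) := h.conj hy.un1_mem

theorem add (h : QE k G x) (hy : QE k G y) (h1 : x * y = 0) (h2 : y * x = 0) : QE k G (x + y) := by
  refine ⟨by simp [mul_add, add_mul, h.1, hy.1, h1, h2], fun c => ?_⟩
  obtain ⟨u, hu, e⟩ := h.2 c
  obtain ⟨v, hv, e'⟩ := hy.2 c
  exact ⟨u * v, G.mul_mem hu hv, by simp [e, e', mul_add, add_mul, h1]; abel⟩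

theorem sub (h : QE k G x) (hy : QE k G y) (h1 : x * y = 0) (h2 : y * x = 0) : QE k G (x - y) := by
  rw [sub_eq_add_neg]; exact h.add hy.neg (by simp [h1]) (by simp [h2])

end QE

theorem mz2 {x y : E} (h : x * y = 0) (z : E) : x * (y * z) = 0 := by rw [← mul_assoc, h, zero_mul]
theorem mz3 {x y w : E} (h : x * y * w = 0) : x * (y * w) = 0 := by rwa [← mul_assoc]
theorem mz3' {x y w : E} (h : x * y * w = 0) (z : E) : x * (y * (w * z)) = 0 := by
  rw [← mul_assoc, ← mul_assoc, h, zero_mul]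

theorem cmt_un1 {x y : E} (hx : x * x = 0) (hy : y * y = 0) (h1 : x * y * x = 0) (h2 : y * x * y = 0) :
    (1 + x) * (1 + y) * (1 - x) * (1 - y) = 1 + (x * y - y * x) := by
  simp only [mul_add, add_mul, mul_sub, sub_mul, mul_assoc, mul_one, one_mul, hx, hy, mz2 hx, mz2 hy, mz3 h1, mz3 h2,
    mz3' h1, mz3' h2, mul_zero, zero_mul]
  abel

theorem gam_conj {x y : E} (hx : x * x = 0) (hy : y * y = 0) :
    x * ((1 + y) * x * (1 - y)) + ((1 + y) * x * (1 - y)) * x = -(x * y + y * x) ^ 2 := by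
  simp only [pow_two, mul_add, add_mul, mul_sub, sub_mul, mul_assoc, mul_one, one_mul, hx, hy, mz2 hx, mz2 hy, mul_zero,
    zero_mul]
  abel

theorem QE.comm {x y : E} (h : QE k G x) (hy : QE k G y) (h1 : x * y * x = 0) (h2 : y * x * y = 0) :
    QE k G (x * y - y * x) := by
  refine ⟨by simp [mul_sub, sub_mul, mul_assoc, mz2 h.1, mz2 hy.1, mz3' h1, mz3' h2], fun c => ?_⟩
  have hc := h.smul c
  refine ⟨_, G.mul_mem (G.mul_mem (G.mul_mem hc.un1_mem hy.un1_mem) (G.inv_mem hc.un1_mem)) (G.inv_mem hy.un1_mem), ?_⟩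
  simp only [Units.val_mul, un1_val, un1_inv]
  rw [cmt_un1 hc.1 hy.1 (by simp [h1]) (by simp [h2])]
  simp [smul_sub]

end Alg

section Lin
variable {k : Type*} [Field k] {M : Type*} [AddCommGroup M] [Module k M] [FiniteDimensional k M]

/-- the rank -/
noncomputable def rk (x : End k M) : ℕ := finrank k (LinearMap.range x)

/-- `x` is injective on the image of `y` -/
def J (x y : End k M) : Prop := ∀ m, x (y m) = 0 → y m = 0

theorem rk_add_inf (x y : End k M) :
    rk (x * y) + finrank k ↥(LinearMap.range y ⊓ LinearMap.ker x) = rk y := by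
  have := LinearMap.finrank_range_add_finrank_ker (x.domRestrict (LinearMap.range y))
  rw [LinearMap.range_domRestrict, LinearMap.ker_domRestrict,
    ← Submodule.finrank_map_subtype_eq, Submodule.map_comap_subtype, ← LinearMap.range_comp] at this
  exact this

theorem rk_ker (x : End k M) : rk x + finrank k (LinearMap.ker x) = finrank k M :=
  LinearMap.finrank_range_add_finrank_ker x

theorem rk_mul_le (x y : End k M) : rk (x * y) ≤ rk y := by have := rk_add_inf x y; omega

theorem rk_mul_le' (x y : End k M) : rk (x * y) ≤ rk x := Submodule.finrank_mono (LinearMap.range_comp_le_range _ _)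

omit [FiniteDimensional k M] in
theorem J_iff {x y : End k M} : J x y ↔ LinearMap.range y ⊓ LinearMap.ker x = ⊥ := by
  rw [Submodule.eq_bot_iff]
  exact ⟨by rintro h _ ⟨⟨m, rfl⟩, hm⟩; exact h m hm, fun h m hm => h _ ⟨⟨m, rfl⟩, hm⟩⟩

theorem rk_lt {x y : End k M} (h : ¬ J x y) : rk (x * y) < rk y := by
  have := rk_add_inf x y
  have h2 := mt Submodule.finrank_eq_zero.1 (mt J_iff.2 h)
  omega

theorem J.rk_eq {x y : End k M} (h : J x y) : rk (x * y) = rk y := by
  have := rk_add_inf x y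
  rw [J_iff.1 h, finrank_bot] at this
  exact this

theorem rk_conj (g : (End k M)ˣ) (x : End k M) : rk (cj g x) = rk x := by
  refine le_antisymm ((rk_mul_le' _ _).trans (rk_mul_le _ _)) ?_
  have : x = cj g⁻¹ (cj g x) := by simp [mul_assoc]
  conv_lhs => rw [this]
  exact (rk_mul_le' _ _).trans (rk_mul_le _ _)

theorem rk_smul_le (c : k) (x : End k M) : rk (c • x) ≤ rk x := by
  rw [Algebra.smul_def]; exact rk_mul_le _ _

theorem rk_neg_le (x : End k M) : rk (-x) ≤ rk x := by simpa using rk_smul_le (-1) x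

omit [FiniteDimensional k M] in
theorem J.eq_zero {x y z : End k M} (h : J x y) (e : x * y * z = 0) : y * z = 0 :=
  LinearMap.ext fun m => h (z m) (LinearMap.congr_fun e m)

theorem J.range_eq {x y : End k M} (h : J x y) (hle : rk x ≤ rk y) : LinearMap.range (x * y) = LinearMap.range x :=
  Submodule.eq_of_le_of_finrank_le (LinearMap.range_comp_le_range _ _) (hle.trans h.rk_eq.ge)

theorem J.symm {x y : End k M} (hx : x * x = 0) (hy : y * y = 0) (hle : rk x ≤ rk y) (h : J (x * y + y * x) y) :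
    J (x * y + y * x) x := by
  have h1 : J x y := fun m hm => h m (by
    rw [LinearMap.add_apply, Module.End.mul_apply, Module.End.mul_apply, hm, ← Module.End.mul_apply y, hy]; simp)
  intro m hm
  obtain ⟨m', e⟩ : x m ∈ LinearMap.range (x * y) := h1.range_eq hle ▸ ⟨m, rfl⟩
  have e1 : (x * y + y * x) * (x * y) = x * (y * (x * y)) := by simp [add_mul, mul_assoc, mz2 hx]
  have e2 : (x * y + y * x) * y = y * (x * y) := by simp [add_mul, mul_assoc, hy]
  rw [← e, ← Module.End.mul_apply, e1] at hm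
  have := h m' ((LinearMap.congr_fun e2 m').trans (h1 _ hm))
  rw [← e, Module.End.mul_apply, this, map_zero]

variable {G : Subgroup (End k M)ˣ}

/-- quadratic elements of minimal rank -/
def Qd (G : Subgroup (End k M)ˣ) (x : End k M) : Prop := QE k G x ∧ x ≠ 0 ∧ ∀ y, QE k G y → y ≠ 0 → rk x ≤ rk y

namespace Qd
variable {x y : End k M} (h : Qd G x)
include h

omit [FiniteDimensional k M] in
theorem small (hy : QE k G y) (hlt : rk y < rk x) : y = 0 := by
  by_contra h0; exact absurd (h.2.2 y hy h0) (not_le.2 hlt)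

omit [FiniteDimensional k M] in
theorem of_le (hy : QE k G y) (h0 : y ≠ 0) (hle : rk y ≤ rk x) : Qd G y :=
  ⟨hy, h0, fun z hz hz0 => hle.trans (h.2.2 z hz hz0)⟩

omit [FiniteDimensional k M] in
theorem rk_eq (hy : Qd G y) : rk x = rk y := le_antisymm (h.2.2 y hy.1 hy.2.1) (hy.2.2 x h.1 h.2.1)

theorem conj {g : (End k M)ˣ} (hg : g ∈ G) : Qd G (cj g x) :=
  h.of_le (h.1.conj hg) (fun e => h.2.1 (by simpa using e)) (rk_conj g x).le

theorem conj1 (hy : QE k G y) : Qd G ((1 + y) * x * (1 - y)) := h.conj hy.un1_mem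

theorem neg : Qd G (-x) := h.of_le h.1.neg (neg_ne_zero.2 h.2.1) (rk_neg_le x)

theorem zero_or {t : End k M} (hy : QE k G (t * x)) : t * x = 0 ∨ J t x :=
  (em _).symm.imp_left fun hn => h.small hy (rk_lt hn)

theorem nil_two (h2 : (2 : k) ≠ 0) (hy : QE k G y) (h5 : x * y * x * y * x = 0) (h3 : x * ((1 + y) * x * (1 - y)) * x = 0)
    (h3' : x * ((1 + -y) * x * (1 - -y)) * x = 0) : x * y * x = 0 := by
  have hx := h.1.1
  have hy' := hy.1
  have w5 : x * (y * (x * (y * x))) = 0 := by simpa [mul_assoc] using h5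
  have w5' : ∀ z, x * (y * (x * (y * (x * z)))) = 0 := fun z => by
    simpa [mul_assoc] using congrArg (· * z) h5
  have a1 := h.1.comm (h.1.conj1 hy) h3 (by
    simp [mul_add, add_mul, mul_sub, sub_mul, mul_assoc, hx, hy', mz2 hx, mz2 hy', w5, w5'])
  have a2 := (h.1.comm (h.1.conj1 hy.neg) h3' (by
    simp [mul_add, add_mul, mul_sub, sub_mul, mul_assoc, hx, hy', mz2 hx, mz2 hy', w5, w5'])).neg
  have a3 := (a1.add a2
    (by simp [mul_add, add_mul, mul_sub, sub_mul, mul_assoc, hx, hy', mz2 hx, mz2 hy', w5, w5'])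
    (by simp [mul_add, add_mul, mul_sub, sub_mul, mul_assoc, hx, hy', mz2 hx, mz2 hy', w5, w5'])).smul ((2 : k)⁻¹ * 2⁻¹)
  have e : (x * y + y * x) * x = x * y * x := by simp [add_mul, mul_assoc, hx]
  have a4 : QE k G ((x * y + y * x) * x) := by
    convert a3 using 1
    simp only [mul_add, add_mul, mul_sub, sub_mul, mul_assoc, mul_one, one_mul, hx, hy', mz2 hx, mz2 hy', w5, w5',
      mul_neg, neg_mul, mul_zero, sub_neg_eq_add]
    match_scalars <;> field_simp <;> ring
  rcases h.zero_or a4 with h0 | h0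
  · rwa [e] at h0
  · refine LinearMap.ext fun m => ?_
    have := h0 (y (x m)) (by
      have : (x * y + y * x) * (x * y * x) = 0 := by simp [add_mul, mul_assoc, mz2 hx, w5]
      exact LinearMap.congr_fun this m)
    exact this

theorem nil (h2 : (2 : k) ≠ 0) (n : ℕ) : ∀ y, QE k G y → (x * y + y * x) ^ n * x = 0 → x * y * x = 0 := by
  have hx := h.1.1
  induction n with
  | zero => intro y _ e; simp [show x = 0 by simpa using e]
  | succ n ih =>
    rcases n with _ | n
    · intro y _ e; simpa [add_mul, mul_assoc, hx] using e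
    have key : ∀ y, QE k G y → (x * y + y * x) ^ (n + 1 + 1) * x = 0 → x * ((1 + y) * x * (1 - y)) * x = 0 :=
      fun y hy e => ih _ (h.1.conj1 hy) (by
        rw [gam_conj hx hy.1, neg_pow, ← pow_mul, show 2 * (n + 1) = n + (n + 1 + 1) by ring, pow_add (x * y + y * x) n, mul_assoc,
          mul_assoc, e, mul_zero, mul_zero])
    intro y hy e
    refine h.nil_two h2 hy ?_ (key y hy e) (key _ hy.neg ?_)
    · simpa [mul_add, add_mul, mul_sub, sub_mul, mul_assoc, hx, mz2 hx] using key y hy e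
    · rw [mul_neg, neg_mul, ← neg_add, neg_pow, mul_assoc, e, mul_zero]

end Qd

end Lin

end Cfsg.Agent.Root
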