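import Mathlib
import Cfsg.Agent.Lib.Root.QP1

/-! Pairs of quadratic elements: the field attached to a non-nilpotent pair. -/

set_option autoImplicit false
set_option linter.unusedSectionVars false

namespace Cfsg.Agent.Root
open Cfsg Module Polynomial

section Col
variable {k : Type*} [Field k]

/-- first columns of the group generated by the two unipotent lines over `k[X]` -/
inductive Col : k[X] → k[X] → Prop
  | one : Col 1 0
  | up {P c : k[X]} (s : k) : Col P c → Col (P + C s * X * c) c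
  | dn {P c : k[X]} (s : k) : Col P c → Col P (c + C s * P)

theorem Col.neg {P c : k[X]} (h : Col P c) : Col P (-c) := by
  induction h with
  | one => simpa using Col.one
  | up s _ ih => convert ih.up (-s) using 1; rw [map_neg]; ring
  | dn s _ ih => convert ih.dn (-s) using 1; rw [map_neg]; ring

theorem Col.dvd {P c : k[X]} (h : Col P c) : X ∣ P - 1 := by
  induction h with
  | one => simp
  | @up P c s _ ih => convert dvd_add ih (Dvd.intro (C s * c) rfl) using 1; ring
  | dn s _ ih => exact ih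

theorem Col.cop {P c : k[X]} (h : Col P c) : IsCoprime P (X * c) := by
  induction h with
  | one => exact isCoprime_one_left
  | @up P c s _ ih => rw [mul_assoc]; exact ih.add_mul_right_left (C s)
  | @dn P c s _ ih => rw [mul_add, ← mul_assoc X]; exact ih.add_mul_right_right (X * C s)

theorem exists_col (h2 : (2 : k) ≠ 0) (h3 : Nat.card k ≠ 3) {f : k[X]} (hf : Irreducible f) (hX : ¬ f ∣ X) {s : k[X]}
    (hs : ¬ f ∣ s) : ∃ P c, Col P c ∧ f ∣ P - s ∧ f ∣ c := by
  haveI := Fact.mk hf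
  haveI := (AdjoinRoot.powerBasis hf.ne_zero).finite
  have h0 : AdjoinRoot.root f ≠ 0 := by rwa [← AdjoinRoot.mk_X, Ne, AdjoinRoot.mk_eq_zero]
  have h1 : AdjoinRoot.mk f s ≠ 0 := by rwa [Ne, AdjoinRoot.mk_eq_zero]
  have hC : ∀ c : k, algebraMap k (AdjoinRoot f) c = AdjoinRoot.mk f (C c) := fun _ => rfl
  have key : ∀ g : Matrix.SpecialLinearGroup (Fin 2) (AdjoinRoot f), ∃ P c, Col P c ∧
      (g : Matrix (Fin 2) (Fin 2) (AdjoinRoot f)) 0 0 = AdjoinRoot.mk f P ∧
      (g : Matrix (Fin 2) (Fin 2) (AdjoinRoot f)) 1 0 = AdjoinRoot.root f * AdjoinRoot.mk f c := fun g => by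
    have hg : g ∈ Subgroup.closure (Set.range (fun c : k => xU (algebraMap k (AdjoinRoot f) c)) ∪
        Set.range fun c : k => xL (algebraMap k (AdjoinRoot f) c * AdjoinRoot.root f)) :=
      (sl2_gen h2 h3 h0 (IsIntegral.of_finite k _) (fun x => by
        obtain ⟨p, rfl⟩ := AdjoinRoot.mk_surjective x; exact ⟨p, AdjoinRoot.aeval_eq p⟩)
        (fun c => Subgroup.subset_closure (Or.inl ⟨c, rfl⟩)) fun c => Subgroup.subset_closure (Or.inr ⟨c, rfl⟩)).ge
        (Subgroup.mem_top g)
    have st : ∀ x ∈ Set.range (fun c : k => xU (algebraMap k (AdjoinRoot f) c)) ∪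
        Set.range fun c : k => xL (algebraMap k (AdjoinRoot f) c * AdjoinRoot.root f),
        ∀ y : Matrix.SpecialLinearGroup (Fin 2) (AdjoinRoot f), (∃ P c, Col P c ∧
          (y : Matrix (Fin 2) (Fin 2) (AdjoinRoot f)) 0 0 = AdjoinRoot.mk f P ∧
          (y : Matrix (Fin 2) (Fin 2) (AdjoinRoot f)) 1 0 = AdjoinRoot.root f * AdjoinRoot.mk f c) → ∃ P c, Col P c ∧
          ((x * y : Matrix.SpecialLinearGroup (Fin 2) (AdjoinRoot f)) : Matrix (Fin 2) (Fin 2) (AdjoinRoot f)) 0 0 =
            AdjoinRoot.mk f P ∧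
          ((x * y : Matrix.SpecialLinearGroup (Fin 2) (AdjoinRoot f)) : Matrix (Fin 2) (Fin 2) (AdjoinRoot f)) 1 0 =
            AdjoinRoot.root f * AdjoinRoot.mk f c := by
      rintro _ (⟨a, rfl⟩ | ⟨a, rfl⟩) y ⟨P, c, hc, e1, e2⟩
      · exact ⟨_, _, hc.up a, by simp [Matrix.mul_apply, Matrix.vecMul, dotProduct, e1, e2, hC, mul_assoc],
          by simp [Matrix.mul_apply, Matrix.vecMul, dotProduct, e2]⟩
      · exact ⟨_, _, hc.dn a, by simp [Matrix.mul_apply, Matrix.vecMul, dotProduct, e1],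
          by simp [Matrix.mul_apply, Matrix.vecMul, dotProduct, e1, e2, hC]; ring⟩
    induction hg using Subgroup.closure_induction_left with
    | one => exact ⟨1, 0, Col.one, by simp, by simp⟩
    | mul_left x hx y _ ih => exact st x hx y ih
    | inv_mul_cancel x hx y _ ih =>
      refine st _ ?_ y ih
      rcases hx with ⟨a, rfl⟩ | ⟨a, rfl⟩
      · exact Or.inl ⟨-a, by simp [xU_inv]⟩
      · exact Or.inr ⟨-a, by simp [xL_inv]⟩
  obtain ⟨P, c, hc, e1, e2⟩ := key ⟨!![AdjoinRoot.mk f s, 0; 0, (AdjoinRoot.mk f s)⁻¹], by simp [h1]⟩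
  refine ⟨P, c, hc, AdjoinRoot.mk_eq_mk.1 (by simpa using e1.symm), AdjoinRoot.mk_eq_zero.1 ?_⟩
  simpa [h0] using e2

theorem exists_sq_ne (h2 : (2 : k) ≠ 0) (h3 : Nat.card k ≠ 3) : ∃ s : k, s ≠ 0 ∧ s ^ 2 ≠ 1 := by
  by_contra hc
  push Not at hc
  have h1 : (1 : k) ≠ -1 := fun e => h2 (by linear_combination e)
  refine h3 ?_
  have : (Set.univ : Set k) = {0, 1, -1} := by
    ext s
    rcases eq_or_ne s 0 with h | h
    · simp [h]
    · simpa [h] using hc s h
  rw [← Set.ncard_univ, this, Set.ncard_eq_three]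
  exact ⟨0, 1, -1, zero_ne_one, by simp, h1, rfl⟩

end Col

section Frame
variable {k : Type*} [Field k] {M : Type*} [AddCommGroup M] [Module k M] [FiniteDimensional k M]
  {G : Subgroup (End k M)ˣ} {A : Type*} [Ring A] [Algebra k A] [Algebra k[X] A] [IsScalarTower k k[X] A]

/-- a pair of square zero elements in a `k[X]`-algebra represented on `M` -/
structure Fr (ι : A →ₐ[k] End k M) (a b : A) : Prop where
  inj : Function.Injective ι
  aa : a * a = 0
  bb : b * b = 0
  ab : b * a = (X : k[X]) • (1 : A) - a * b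

/-- the conjugates of `a` -/
noncomputable def cA (a b : A) (P c : k[X]) : A := P ^ 2 • a - (P * c) • (a * b - b * a) - (X * c ^ 2) • b

/-- conjugacy inside the frame -/
def Cj (G : Subgroup (End k M)ˣ) (ι : A →ₐ[k] End k M) (x y : A) : Prop :=
  ∃ u : Aˣ, Units.map ι.toMonoidHom u ∈ G ∧ y = cj u x

/-- the action of a polynomial -/
abbrev pT (ι : A →ₐ[k] End k M) (p : k[X]) : End k M := ι (p • 1)

variable {ι : A →ₐ[k] End k M} {a b x y z : A}

theorem map_psmul (p : k[X]) (x : A) : ι (p • x) = pT ι p * ι x := by rw [← map_mul, smul_mul_assoc, one_mul]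

theorem map_psmul' (p : k[X]) (x : A) : ι (p • x) = ι x * pT ι p := by rw [← map_mul, mul_smul_comm, mul_one]

theorem Cj.refl : Cj G ι x x := ⟨1, by rw [map_one]; exact G.one_mem, by simp [cj]⟩

theorem Cj.trans (h : Cj G ι x y) (h' : Cj G ι y z) : Cj G ι x z := by
  obtain ⟨u, hu, rfl⟩ := h
  obtain ⟨v, hv, rfl⟩ := h'
  exact ⟨v * u, by rw [map_mul]; exact G.mul_mem hv hu, by simp [mul_assoc]⟩

theorem Cj.symm (h : Cj G ι x y) : Cj G ι y x := by
  obtain ⟨u, hu, rfl⟩ := h
  exact ⟨u⁻¹, by rw [map_inv]; exact G.inv_mem hu, by simp [mul_assoc]⟩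

theorem Cj.psmul (h : Cj G ι x y) (p : k[X]) : Cj G ι (p • x) (p • y) := by
  obtain ⟨u, hu, rfl⟩ := h
  exact ⟨u, hu, by simp [cj]⟩

theorem Cj.eq_zero (h : Cj G ι x y) (e : x = 0) : y = 0 := by
  obtain ⟨u, hu, rfl⟩ := h
  simp [e]

theorem map_cj (u : Aˣ) (x : A) : ι (cj u x) = cj (Units.map ι.toMonoidHom u) (ι x) := by
  simp only [cj, map_mul, ← map_inv]; rfl

theorem Cj.qe (h : Cj G ι x y) (hx : QE k G (ι x)) : QE k G (ι y) := by
  obtain ⟨u, hu, rfl⟩ := h
  rw [map_cj]; exact hx.conj hu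

theorem Cj.of_qe (hi : Function.Injective ι) (hz : QE k G (ι z)) (x : A) : Cj G ι x ((1 + z) * x * (1 - z)) :=
  ⟨un1 z (hi (by simpa using hz.1)), by convert hz.un1_mem using 1; exact Units.ext (by simp), rfl⟩

theorem J.pmul {p q : k[X]} (hp : J (pT ι p) (ι x)) (hq : J (pT ι q) (ι x)) : J (pT ι (p * q)) (ι x) := fun m hm => by
  rw [← Module.End.mul_apply, ← map_psmul, mul_smul, map_psmul, map_psmul' q] at hm
  have := hp _ hm
  rw [← Module.End.mul_apply, ← map_psmul', map_psmul] at this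
  exact hq _ this

theorem J.of_dvd {p q : k[X]} (hp : J (pT ι p) (ι x)) (h : q ∣ p) : J (pT ι q) (ι x) := fun m hm => hp m (by
  obtain ⟨r, rfl⟩ := h
  rw [mul_comm, pT, mul_smul, map_psmul, Module.End.mul_apply, hm, map_zero])

theorem J.of_cop {p q : k[X]} (h : IsCoprime p q) (e : p • x = 0) : J (pT ι q) (ι x) := fun m hm => by
  obtain ⟨u, v, huv⟩ := h
  have : x = v • q • x := by linear_combination (norm := module) u • e - huv • x
  rw [this, map_psmul, map_psmul, Module.End.mul_apply, Module.End.mul_apply, hm, map_zero]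

theorem J.pcancel (hi : Function.Injective ι) {p q : k[X]} (hp : J (pT ι p) (ι x)) (e : (p * q) • x = 0) :
    q • x = 0 := hi (by
  rw [map_psmul', map_zero]
  refine hp.eq_zero ?_
  rw [mul_assoc, ← map_psmul', ← map_psmul, smul_smul, e, map_zero])

theorem Cj.j (h : Cj G ι x y) {p : k[X]} (hp : J (pT ι p) (ι x)) : J (pT ι p) (ι y) := by
  obtain ⟨u, hu, rfl⟩ := h
  intro m hm
  have e : p • cj u x = u * (p • x) * (u⁻¹ : Aˣ) := by simp
  rw [← Module.End.mul_apply, ← map_psmul, e, map_mul, map_mul, map_psmul] at hm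
  have hi : ∀ w, ι u w = 0 → w = 0 := fun w hw => by
    have := congrArg (ι (u⁻¹ : Aˣ)) hw
    rwa [← Module.End.mul_apply, ← map_mul, Units.inv_mul, map_one, map_zero] at this
  have := hp _ (hi _ hm)
  rw [map_mul, map_mul, Module.End.mul_apply, Module.End.mul_apply, this, map_zero]

namespace Fr
variable (F : Fr ι a b)
include F

theorem gam : ι a * ι b + ι b * ι a = pT ι X := by rw [← map_mul, ← map_mul, ← map_add, F.ab]; simp

theorem ab' (z : A) : b * (a * z) = (X : k[X]) • z - a * (b * z) := by rw [← mul_assoc, F.ab]; simp [sub_mul, mul_assoc]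

theorem kill {p : k[X]} (h : p • a = 0) (z : A) : (p * X) • z = 0 := by
  have : (X : k[X]) • z = a * (b * z) + b * (a * z) := by rw [F.ab']; simp
  rw [mul_smul, this, smul_add, ← smul_mul_assoc, ← mul_smul_comm p b, ← smul_mul_assoc, h]; simp

end Fr

/-- normalisation in a frame -/
macro "frs " F:term : tactic => `(tactic|
  simp only [cA, mul_add, add_mul, mul_sub, sub_mul, mul_assoc, mul_one, one_mul, smul_mul_assoc, mul_smul_comm, Fr.aa $F,
    Fr.bb $F, mz2 (Fr.aa $F), mz2 (Fr.bb $F), Fr.ab $F, Fr.ab' $F, mul_zero, zero_mul, smul_zero, mul_neg, neg_mul])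

namespace Fr
variable (F : Fr ι a b)
include F

theorem up (s P c : k[X]) : (1 + s • a) * cA a b P c * (1 - s • a) = cA a b (P + s * X * c) c := by
  frs F; module

theorem dn (s P c : k[X]) : (1 + s • b) * cA a b P c * (1 - s • b) = cA a b P (c + s * P) := by
  frs F; module

theorem gam_a (P c : k[X]) : ι a * ι (cA a b P c) + ι (cA a b P c) * ι a = pT ι (-(X * c) ^ 2) := by
  rw [← map_mul, ← map_mul, ← map_add]; congr 1; frs F; module

theorem gam_b (P c : k[X]) : ι (cA a b P c) * ι b + ι b * ι (cA a b P c) = pT ι (P ^ 2 * X) := by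
  rw [← map_mul, ← map_mul, ← map_add]; congr 1; frs F; module

theorem csmul (s : k) (x : A) : ι ((C s : k[X]) • x) = s • ι x := by
  rw [← _root_.map_smul, ← algebraMap_smul k[X] s x]; rfl

theorem cj_col (ha : QE k G (ι a)) (hb : QE k G (ι b)) {P c : k[X]} (h : Col P c) : Cj G ι a (cA a b P c) := by
  induction h with
  | one => simpa [cA] using Cj.refl
  | up s _ ih => rw [← F.up]; exact ih.trans (Cj.of_qe F.inj (by rw [F.csmul]; exact ha.smul s) _)
  | dn s _ ih => rw [← F.dn]; exact ih.trans (Cj.of_qe F.inj (by rw [F.csmul]; exact hb.smul s) _)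

theorem qe_two (h2 : (2 : k) ≠ 0) (h : QE k G (ι (x + x))) : QE k G (ι x) := by
  have := h.smul 2⁻¹
  rwa [map_add, ← two_smul k, smul_smul, inv_mul_cancel₀ h2, one_smul] at this

theorem qe_add (hx : QE k G (ι x)) (hy : QE k G (ι y)) (h1 : x * y = 0) (h2 : y * x = 0) : QE k G (ι (x + y)) := by
  rw [map_add]; exact hx.add hy (by rw [← map_mul, h1, map_zero]) (by rw [← map_mul, h2, map_zero])

theorem qe_sub (hx : QE k G (ι x)) (hy : QE k G (ι y)) (h1 : x * y = 0) (h2 : y * x = 0) : QE k G (ι (x - y)) := by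
  rw [map_sub]; exact hx.sub hy (by rw [← map_mul, h1, map_zero]) (by rw [← map_mul, h2, map_zero])

theorem qe_comm (hx : QE k G (ι x)) (hy : QE k G (ι y)) (h1 : x * y * x = 0) (h2 : y * x * y = 0) :
    QE k G (ι (x * y - y * x)) := by
  rw [map_sub, map_mul, map_mul]
  exact hx.comm hy (by rw [← map_mul, ← map_mul, h1, map_zero]) (by rw [← map_mul, ← map_mul, h2, map_zero])

theorem zero_or (ha : Qd G (ι a)) {p : k[X]} (h : QE k G (ι (p • a))) : p • a = 0 ∨ J (pT ι p) (ι a) := by
  rw [map_psmul] at h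
  exact (ha.zero_or h).imp_left fun e => F.inj (by rw [map_psmul, e, map_zero])

theorem qd_cj (h : Cj G ι x y) (hx : Qd G (ι x)) : Qd G (ι y) := by
  obtain ⟨u, hu, rfl⟩ := h
  rw [map_cj]; exact hx.conj hu

theorem exists_irr (hx : x ≠ 0) : ∃ f : k[X], Irreducible f ∧ ¬ J (pT ι f) (ι x) := by
  by_contra hc
  push Not at hc
  have key : ∀ p : k[X], p ≠ 0 → J (pT ι p) (ι x) := fun p => by
    induction p using WfDvdMonoid.induction_on_irreducible with
    | zero => exact fun h => absurd rfl h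
    | unit u hu => exact fun _ => J.of_cop ((isCoprime_zero_left).2 hu) (zero_smul _ _)
    | mul p f hp hf ih => exact fun _ => (hc f hf).pmul (ih hp)
  haveI : Module.Finite k A := Module.Finite.of_injective ι.toLinearMap F.inj
  have h1 : minpoly k (algebraMap k[X] A X) • x = 0 := by
    have := minpoly.aeval k (algebraMap k[X] A X)
    rw [aeval_algebraMap_apply, aeval_X_left_apply] at this
    rw [Algebra.smul_def, this, zero_mul]
  exact hx (by simpa using (key _ (minpoly.ne_zero (IsIntegral.of_finite k _))).pcancel F.inj (q := 1) (by simpa using h1))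

theorem fr1 (h2 : (2 : k) ≠ 0) (ha : Qd G (ι a)) (hb : QE k G (ι b)) {P c : k[X]} (h : Col P c)
    (e : (X * c) ^ 2 • a = 0) : (X * c) • a = 0 := by
  have kl := F.kill e
  have key : ∀ c, Col P c → (X * c) ^ 2 • a = 0 →
      QE k G (ι ((2 * P * (X * c)) • a - (X * c ^ 2) • (a * b - b * a))) := fun c h e => by
    have c1 := F.cj_col ha.1 hb h
    have e' := (c1.psmul _).eq_zero e
    have := F.qe_comm ha.1 (c1.qe ha.1) (by frs F; linear_combination (norm := module) -e) (by
      have : cA a b P c * a * cA a b P c = -((X * c) ^ 2 • cA a b P c) := by frs F; module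
      rw [this, e', neg_zero])
    convert this using 2
    frs F; module
  have e1 : (X * c) ^ 2 • (a * b) = 0 := by rw [← smul_mul_assoc, e, zero_mul]
  have a1 := F.qe_sub (key c h e) (key _ h.neg (by rw [mul_neg, neg_sq, e]))
    (by frs F; linear_combination (norm := module) (4 * P * c * X : k[X]) • e + (c ^ 2 * X : k[X]) • kl 1)
    (by frs F; linear_combination (norm := module) (-4 * P * c * X : k[X]) • e + (c ^ 2 * X : k[X]) • kl 1)
  have a2 : QE k G (ι ((P * (X * c)) • a)) := F.qe_two h2 (F.qe_two h2 (by convert a1 using 2; module))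
  obtain ⟨u, v, huv⟩ := h.cop
  rcases F.zero_or ha a2 with h0 | h0
  · linear_combination (norm := module) u • h0 + v • e - (X * c : k[X]) • huv • a
  · exact (h0.of_dvd (Dvd.intro_left _ rfl)).pcancel F.inj (by rwa [← pow_two])

theorem fr2 (h2 : (2 : k) ≠ 0) (ha : Qd G (ι a)) (hb : Qd G (ι b)) (hn : ¬ J (pT ι X) (ι a)) {P c : k[X]} (h : Col P c)
    (e : (X * c) • a = 0) : (X * (P ^ 2 - 1)) • a = 0 := by
  have kl := F.kill e
  have e1 : (X * c) • (a * b) = 0 := by rw [← smul_mul_assoc, e, zero_mul]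
  have q1 := (F.cj_col ha.1 hb.1 h).qe ha.1
  have q2 := (F.cj_col ha.1 hb.1 h.neg).qe ha.1
  have a1 := F.qe_add q1 q2
    (by frs F; linear_combination (norm := module) (-2 * P ^ 3) • e + (-2 * P ^ 2 * c) • kl 1 + (-2 * P * c ^ 2) • kl b)
    (by frs F; linear_combination (norm := module) (2 * P ^ 3) • e + (-2 * P ^ 2 * c) • kl 1 + (2 * P * c ^ 2) • kl b)
  have a2 : QE k G (ι (P ^ 2 • a - (X * c ^ 2) • b)) := F.qe_two h2 (by convert a1 using 2; simp only [cA]; module)
  have a3 : QE k G (ι ((P ^ 2 - 1) • a - (X * c ^ 2) • b)) := by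
    convert F.qe_sub a2 ha.1 (by frs F; linear_combination (norm := module) c • e1 - c • kl 1)
      (by frs F; linear_combination (norm := module) -c • e1) using 2
    module
  obtain ⟨u, hu⟩ : (X : k[X]) ∣ P ^ 2 - 1 := h.dvd.trans ⟨P + 1, by ring⟩
  have a4 : (P ^ 2 - 1) • a - (X * c ^ 2) • b = 0 := F.inj (by
    rw [map_zero]
    by_cases hc : X ∣ c
    · obtain ⟨d, rfl⟩ := hc
      refine ha.small a3 (lt_of_le_of_lt ?_ (rk_lt hn))
      have : (P ^ 2 - 1) • a - (X * (X * d) ^ 2) • b = u • (X : k[X]) • a := by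
        linear_combination (norm := module) hu • a - d • kl b
      rw [this, map_psmul, map_psmul]; exact rk_mul_le _ _
    · obtain ⟨r, s, hrs⟩ : IsCoprime (X * X) c :=
        (irreducible_X.coprime_iff_not_dvd.2 hc).mul_left (irreducible_X.coprime_iff_not_dvd.2 hc)
      have hn' : ¬ J (pT ι X) (ι b) := fun hj => hn (by
        rw [← F.gam, add_comm] at hj
        rw [← F.gam]
        exact J.symm ha.1.1 hb.1.1 (ha.rk_eq hb).le (by rwa [add_comm]))
      refine hb.small a3 (lt_of_le_of_lt ?_ (rk_lt hn'))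
      have : (P ^ 2 - 1) • a - (X * c ^ 2) • b =
          ((r * X * u) • a - (s * c * c ^ 2) • 1) * ((X : k[X]) • b) * ((r * X ^ 2) • a + (s * c) • 1) := by
        frs F
        linear_combination (norm := module) hu • a - (u * X * (1 + r * X ^ 2) : k[X]) • hrs • a +
          (s * u * (1 + r * X ^ 2) : k[X]) • e + (X * c ^ 2 * (1 + s * c) : k[X]) • hrs • b -
          (r * c * X * (1 + s * c) : k[X]) • kl b -
          (r * s * X * u + r * s * c ^ 2 * X ^ 2 : k[X]) • e1 + (r * s * c ^ 2 * X ^ 2 : k[X]) • kl 1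
      rw [this, map_mul, map_mul, map_psmul X]
      exact (rk_mul_le' _ _).trans (rk_mul_le _ _))
  linear_combination (norm := module) (X : k[X]) • a4 + c • kl b

end Fr

end Frame

section Cz
universe v
variable {k : Type*} [Field k] {M : Type v} [AddCommGroup M] [Module k M]

/-- the centralizer algebra of an endomorphism -/
def Cz (γ : End k M) : Type _ := Subalgebra.centralizer k ({γ} : Set (End k M))

noncomputable instance Cz.ring (γ : End k M) : Ring (Cz γ) := inferInstanceAs (Ring (Subalgebra.centralizer k {γ}))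
noncomputable instance Cz.alg (γ : End k M) : Algebra k (Cz γ) := inferInstanceAs (Algebra k (Subalgebra.centralizer k {γ}))

/-- the inclusion -/
def Cz.val (γ : End k M) : Cz γ →ₐ[k] End k M := (Subalgebra.centralizer k {γ}).val

/-- elements of the centralizer -/
def Cz.mk (γ x : End k M) (h : γ * x = x * γ) : Cz γ := ⟨x, by rintro _ rfl; exact h⟩

theorem Cz.comm (γ : End k M) (x : Cz γ) : Commute (Cz.mk γ γ rfl) x := Subtype.ext (x.2 γ rfl)

noncomputable instance Cz.palg (γ : End k M) : Algebra k[X] (Cz γ) :=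
  RingHom.toAlgebra' (aeval (Cz.mk γ γ rfl)).toRingHom fun p x => by
    change aeval _ p * x = x * aeval _ p
    induction p using Polynomial.induction_on' with
    | add p q hp hq => rw [map_add, add_mul, mul_add, hp, hq]
    | monomial n a => rw [aeval_monomial, mul_assoc, ((Cz.comm γ x).pow_left n).eq, ← mul_assoc, Algebra.commutes, mul_assoc]

instance Cz.tower (γ : End k M) : IsScalarTower k k[X] (Cz γ) :=
  IsScalarTower.of_algebraMap_eq fun c => (aeval_C (Cz.mk γ γ rfl) c).symm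

theorem exists_fr {x y : End k M} (hx : x * x = 0) (hy : y * y = 0) :
    ∃ (A : Type v) (_ : Ring A) (_ : Algebra k A) (_ : Algebra k[X] A) (_ : IsScalarTower k k[X] A)
      (ι : A →ₐ[k] End k M) (a b : A), Fr ι a b ∧ ι a = x ∧ ι b = y :=
  ⟨Cz (x * y + y * x), _, _, _, inferInstance, Cz.val _, Cz.mk _ x (by simp [add_mul, mul_add, mul_assoc, hx, mz2 hx]), Cz.mk _ y (by simp [add_mul, mul_add, mul_assoc, hy, mz2 hy]),
    ⟨Subtype.val_injective, Subtype.ext hx, Subtype.ext hy, by
      rw [eq_sub_iff_add_eq, Algebra.smul_def, mul_one]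
      exact Eq.trans (Subtype.ext (add_comm _ _)) (aeval_X (R := k) (Cz.mk _ _ rfl)).symm⟩, rfl, rfl⟩

end Cz

section Main
variable {k : Type*} [Field k] {M : Type*} [AddCommGroup M] [Module k M] [FiniteDimensional k M]
  {G : Subgroup (End k M)ˣ} {A : Type*} [Ring A] [Algebra k A] [Algebra k[X] A] [IsScalarTower k k[X] A]
  {ι : A →ₐ[k] End k M} {a b : A}

theorem pT_pow (p : k[X]) (n : ℕ) : pT ι p ^ n = pT ι (p ^ n) := by rw [← map_pow, _root_.smul_pow, one_pow]

theorem lemI_aux (h2 : (2 : k) ≠ 0) (h3 : Nat.card k ≠ 3) (r : ℕ) : ∀ x y : End k M, Qd G x → Qd G y →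
    ∀ n, rk ((x * y + y * x) ^ n * x) < r → ¬ J (x * y + y * x) x → x * y * x = 0 := by
  induction r with
  | zero => intro _ _ _ _ _ h; omega
  | succ r ih =>
  intro x y hx hy n hr hn
  obtain ⟨A, _, _, _, _, ι, a, b, F, rfl, rfl⟩ := exists_fr hx.1.1 hy.1.1
  by_cases h0 : (X : k[X]) ^ n • a = 0
  · exact hx.nil h2 n _ hy.1 (by rw [F.gam, pT_pow, ← map_psmul, h0, map_zero])
  obtain ⟨f, hf, hj⟩ := F.exists_irr h0
  have hlt : ∀ p : k[X], f * X ^ n ∣ p → rk (pT ι p * ι a) < r := by
    rintro _ ⟨q, rfl⟩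
    have := rk_lt hj
    rw [F.gam, pT_pow, ← map_psmul] at hr
    rw [← map_psmul, mul_comm _ q, mul_smul, mul_smul, map_psmul, map_psmul f]
    exact lt_of_le_of_lt (rk_mul_le _ _) (by omega)
  by_cases hX : f ∣ X
  · exact ih _ _ hx hy (n + 1) (by rw [F.gam, pT_pow, pow_succ']; exact hlt _ (mul_dvd_mul_right hX _)) hn
  obtain ⟨s, s0, s1⟩ := exists_sq_ne h2 h3
  obtain ⟨P, c, hc, d1, d2⟩ := exists_col h2 h3 hf hX (s := C s) fun h =>
    hf.not_isUnit (isUnit_of_dvd_unit h (isUnit_C.2 s0.isUnit))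
  rw [F.gam] at hn
  have e1 := ih _ _ hx (F.qd_cj (F.cj_col hx.1 hy.1 hc) hx) (n + 1) (by
    rw [F.gam_a, pT_pow]
    refine hlt _ ?_
    rw [pow_succ']
    exact mul_dvd_mul ((d2.mul_left X).trans (dvd_pow_self _ two_ne_zero)).neg_right
      (pow_dvd_pow_of_dvd ⟨-(X * c ^ 2), by ring⟩ n))
    (by rw [F.gam_a]; exact fun h => hn (h.of_dvd ⟨-(X * c ^ 2), by ring⟩))
  have e2 : (X * c) ^ 2 • a = 0 := by
    rw [← map_mul, ← map_mul, ← map_zero ι] at e1
    have := F.inj e1
    revert this; frs F; intro this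
    linear_combination (norm := module) -this
  have e3 := F.fr2 h2 hx hy hn hc (F.fr1 h2 hx hy.1 hc e2)
  refine absurd (J.of_cop (p := X * (P ^ 2 - 1)) ?_ (by rw [smul_comm, e3, smul_zero])) hj
  refine (hf.coprime_iff_not_dvd.2 fun h => ?_).symm
  rcases hf.prime.dvd_or_dvd h with h | h
  · exact hX h
  · refine hf.not_isUnit (isUnit_of_dvd_unit (y := C (s ^ 2 - 1)) ?_ (isUnit_C.2 (sub_ne_zero.2 s1).isUnit))
    convert dvd_sub h (d1.mul_right (P + C s)) using 1
    simp only [map_sub, map_pow, map_one]; ring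

theorem Qd.dich (h2 : (2 : k) ≠ 0) (h3 : Nat.card k ≠ 3) {x y : End k M} (hx : Qd G x) (hy : QE k G y) :
    x * y * x = 0 ∨ J (x * y + y * x) x := by
  by_cases h : J (x * y + y * x) x
  · exact Or.inr h
  have := lemI_aux h2 h3 _ _ _ hx (hx.conj1 hy) 0 (Nat.lt_succ_self _) fun h' => h fun m hm => h' m (by
    rw [gam_conj hx.1.1 hy.1, pow_two, LinearMap.neg_apply, Module.End.mul_apply, hm, map_zero, neg_zero])
  refine Or.inl (hx.nil h2 2 _ hy ?_)
  rw [← neg_eq_zero, ← neg_mul, ← gam_conj hx.1.1 hy.1, add_mul, this, mul_assoc _ x, hx.1.1]; simp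

namespace Fr
variable (F : Fr ι a b) (h2 : (2 : k) ≠ 0) (h3 : Nat.card k ≠ 3) (ha : Qd G (ι a)) (hb : QE k G (ι b))
include F h2 h3 ha hb

theorem dich {x y : A} (hx : Cj G ι a x) (hy : QE k G (ι y)) {p f : k[X]} (e : ι x * ι y + ι y * ι x = pT ι p)
    (hf : ¬ J (pT ι f) (ι a)) (hd : f ∣ p) : p • a = 0 := by
  rcases (F.qd_cj hx ha).dich h2 h3 hy with h | h
  · refine (hx.symm.psmul p).eq_zero (F.inj ?_)
    rw [map_psmul, ← e, add_mul, h, mul_assoc, (hx.qe ha.1).1]; simp
  · rw [e] at h; exact absurd ((hx.symm.j h).of_dvd hd) hf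

theorem field (hj : J (pT ι X) (ι a)) :
    ∃ f : k[X], Irreducible f ∧ ¬ f ∣ X ∧ f • a = 0 ∧ ∀ p : k[X], QE k G (ι (p • a)) := by
  obtain ⟨f, hf, hn⟩ := F.exists_irr (x := a) fun e => ha.2.1 (by rw [e, map_zero])
  have hX : ¬ f ∣ X := fun h => hn (hj.of_dvd h)
  have z : ∀ p, QE k G (ι (p • a)) → f ∣ p → p • a = 0 := fun p hp hd =>
    (F.zero_or ha hp).resolve_right fun h => hn (h.of_dvd hd)
  let S : Subalgebra k k[X] :=
    { carrier := {p | ∀ q, QE k G (ι (q • a)) → QE k G (ι ((p * q) • a))}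
      mul_mem' := fun hp hq r hr => by rw [mul_assoc]; exact hp _ (hq r hr)
      add_mem' := fun hp hq r hr => by
        rw [add_mul, add_smul]; exact F.qe_add (hp r hr) (hq r hr) (by frs F) (by frs F)
      algebraMap_mem' := fun c r hr => by rw [mul_smul]; exact (F.csmul c _).symm ▸ hr.smul c }
  have S1 : ∀ p ∈ S, QE k G (ι (p • a)) := fun p hp => by simpa using hp 1 (by simpa using ha.1)
  have sq : ∀ r, ∃ s ∈ S, f ∣ r ^ 2 - s := fun r => by
    by_cases hr : f ∣ r
    · exact ⟨0, zero_mem _, by simpa using hr.trans (dvd_pow_self r two_ne_zero)⟩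
    obtain ⟨P, c, hc, d1, d2⟩ := exists_col h2 h3 hf hX hr
    have c1 := F.cj_col ha.1 hb hc
    have e1 := F.dich h2 h3 ha hb .refl (c1.qe ha.1) (F.gam_a P c) hn
      ((d2.mul_left X).trans (dvd_pow_self _ two_ne_zero)).neg_right
    have e2 : c • a = 0 := hj.pcancel F.inj (F.fr1 h2 ha hb hc (by rwa [neg_smul, neg_eq_zero] at e1))
    have e3 : c • (a * b) = 0 := by rw [← smul_mul_assoc, e2, zero_mul]
    have e4 : cA a b P c = P ^ 2 • a := by
      frs F; linear_combination (norm := module) (-2 * P) • e3 + P • F.kill e2 1 - c • F.kill e2 b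
    refine ⟨P ^ 2, fun q hq => ?_, by convert (d1.mul_right (P + r)).neg_right using 1; ring⟩
    rw [mul_comm, mul_smul, ← e4]; exact (c1.psmul q).qe hq
  have ap : ∀ r, ∃ s ∈ S, f ∣ r - s := fun r => by
    obtain ⟨s, hs, d⟩ := sq (r + 1)
    obtain ⟨s', hs', d'⟩ := sq (r - 1)
    refine ⟨C (2⁻¹ * 2⁻¹) * (s - s'), mul_mem (S.algebraMap_mem _) (sub_mem hs hs'), ?_⟩
    convert (dvd_sub d d').mul_left (C (2⁻¹ * 2⁻¹)) using 1
    have : (C 2⁻¹ : k[X]) * 2 = 1 := by rw [← map_ofNat C, ← map_mul, inv_mul_cancel₀ h2, map_one]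
    rw [map_mul]
    linear_combination (-r * (C 2⁻¹ * 2 + 1)) * this
  obtain ⟨u, v, huv⟩ := hf.coprime_iff_not_dvd.2 hX
  obtain ⟨l, hl, dl⟩ := ap (-v)
  have d1 : f ∣ 1 + l * X := by
    convert dvd_sub (Dvd.intro u rfl) (dl.mul_right X) using 1
    linear_combination -huv
  have c1 : Cj G ι a (cA a b (1 + l * X) 1) := by
    have := (Cj.of_qe F.inj hb a).trans (Cj.of_qe F.inj (S1 l hl) _)
    convert this using 1
    frs F; module
  set P := 1 + l * X with hP
  have e1 := F.dich h2 h3 ha hb c1 hb (F.gam_b P 1) hn ((d1.trans (dvd_pow_self _ two_ne_zero)).mul_right _)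
  have e2 : P ^ 2 • a = 0 := hj.pcancel F.inj (by rwa [mul_comm])
  have e3 : P ^ 2 • (a * b) = 0 := by rw [← smul_mul_assoc, e2, zero_mul]
  have q1 : QE k G (ι ((P * X) • b)) := F.qe_two h2 (by
    convert F.qe_comm (c1.qe ha.1) hb (by
      have : cA a b P 1 * b * cA a b P 1 = (P ^ 2 * X) • cA a b P 1 := by frs F; module
      rw [this, F.kill e2]) (by frs F; linear_combination (norm := module) F.kill e2 b) using 2
    frs F; linear_combination (norm := module) (-2 : k[X]) • e3 + F.kill e2 1)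
  have e4 : (P * X) • b = 0 := F.inj (by
    rw [map_zero]
    refine ha.small q1 (lt_of_le_of_lt ?_ (rk_lt fun h => hn (h.of_dvd d1)))
    have : (P * X) • b = b * (P • a) * b := by frs F; module
    rw [this, map_mul, map_mul, map_psmul]
    exact (rk_mul_le' _ _).trans (rk_mul_le _ _))
  have e5 : P • a = 0 := (hj.pmul hj).pcancel F.inj (by
    have : (X * X * P) • a = a * ((P * X) • b) * a := by frs F; module
    rw [this, e4]; simp)
  obtain ⟨s, hs, ds⟩ := ap X
  have e6 := z _ (S1 _ (add_mem (one_mem S) (mul_mem hl hs))) (by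
    convert dvd_sub d1 (ds.mul_left l) using 1; rw [hP]; ring)
  have e7 : (X - s) • a = 0 := ((F.zero_or ha (S1 l hl)).resolve_left fun h => ha.2.1 (by
    have : a = 0 := by rw [hP] at e5; linear_combination (norm := module) e5 - (X : k[X]) • h
    rw [this, map_zero])).pcancel F.inj (by rw [hP] at e5; linear_combination (norm := module) e5 - e6)
  have hXS : X ∈ S := fun q hq => by
    convert hs q hq using 2
    linear_combination (norm := module) q • e7
  have all : ∀ p, p ∈ S := fun p => by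
    induction p using Polynomial.induction_on' with
    | add p q hp hq => exact add_mem hp hq
    | monomial n c => rw [← C_mul_X_pow_eq_monomial]; exact mul_mem (S.algebraMap_mem c) (pow_mem hXS n)
  exact ⟨f, hf, hX, z f (S1 f (all f)) dvd_rfl, fun p => S1 p (all p)⟩

end Fr

end Main

end Cfsg.Agent.Root
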