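import Cfsg.Agent.Lib.Root.R1
import Cfsg.Prelude.Def_Transfer

set_option autoImplicit false
set_option linter.unusedSectionVars false
set_option linter.style.haveILetI false

/-! Rank one groups: quasi-simplicity, quadratic modules, special pairs. -/

namespace Cfsg.Agent.Root

open Cfsg

variable {G : Type*} [Group G]

theorem quasi_of (hp : Group.IsPerfect G) (hne : Subgroup.center G ≠ ⊤)
    (hN : ∀ N : Subgroup G, N.Normal → N = ⊤ ∨ N ≤ Subgroup.center G) : IsQuasisimple G := by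
  refine ⟨hp, ?_⟩
  haveI : Nontrivial (G ⧸ Subgroup.center G) := QuotientGroup.nontrivial_iff.2 hne
  refine ⟨fun N hn => ?_⟩
  rcases hN (N.comap (QuotientGroup.mk' _)) inferInstance with e | e
  · right
    rw [← Subgroup.map_comap_eq_self_of_surjective (QuotientGroup.mk'_surjective _) N, e]
    exact Subgroup.map_top_of_surjective _ (QuotientGroup.mk'_surjective _)
  · left
    rw [← Subgroup.map_comap_eq_self_of_surjective (QuotientGroup.mk'_surjective _) N, Subgroup.map_eq_bot_iff,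
      QuotientGroup.ker_mk']
    exact e

theorem eq_top_of_perfect (hp : Group.IsPerfect G) {N A : Subgroup G} [N.Normal] (hA : Group.IsNilpotent A)
    (h : N ⊔ A = ⊤) : N = ⊤ := by
  by_contra hne
  haveI : Nontrivial (G ⧸ N) := QuotientGroup.nontrivial_iff.2 hne
  refine Group.IsPerfect.not_isNilpotent (G := G ⧸ N) ?_
  have e : A.map (QuotientGroup.mk' N) = ⊤ := by
    have := congrArg (Subgroup.map (QuotientGroup.mk' N)) h
    rwa [Subgroup.map_sup, (Subgroup.map_eq_bot_iff _).2 (QuotientGroup.ker_mk' N).ge, bot_sup_eq,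
      Subgroup.map_top_of_surjective _ (QuotientGroup.mk'_surjective _)] at this
  have := nilpotent_map (QuotientGroup.mk' N) hA
  rw [e] at this
  exact Group.nilpotent_of_mulEquiv Subgroup.topEquiv

theorem normal_smul {N : Subgroup G} (hN : N.Normal) (g : G) : g • N = N :=
  smul_eq_iff.2 (by rw [Subgroup.normalizer_eq_top]; trivial)

namespace R1
variable {A B : Subgroup G} (h : R1 A B)
include h

theorem normal_or_top (e : A ⊔ B = ⊤) (N : Subgroup G) (hN : N.Normal) : N ⊔ A = ⊤ ∨ N ≤ Subgroup.center G := by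
  rcases h.normal_or (N := N) (fun x _ => normal_smul hN x) (e ▸ le_top) with h1 | h1
  · exact Or.inl (eq_top_iff.2 (e ▸ sup_le le_sup_right h1))
  · exact Or.inr fun n hn => Subgroup.mem_center_iff.2 fun g => (h1 n hn g (e ▸ Subgroup.mem_top g)).symm

theorem quasi (e : A ⊔ B = ⊤) (hp : Group.IsPerfect G) : IsQuasisimple G :=
  quasi_of hp (fun e' => h.not_cm fun a _ b _ => Subgroup.mem_center_iff.1 (e' ▸ Subgroup.mem_top b) a)
    fun N hN => (h.normal_or_top e N hN).imp_left (eq_top_of_perfect hp h.nilpotent_left)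

section Module
variable {V : Type*} [AddCommGroup V] [DistribMulAction G V]

theorem quad_of_mem (hq : ∀ a ∈ A, ∀ a' ∈ A, ∀ n : V, a' • (a • n - n) = a • n - n) {C : Subgroup G} (hC : C ∈ Om A B) :
    ∀ a ∈ C, ∀ a' ∈ C, ∀ n : V, a' • (a • n - n) = a • n - n := by
  obtain ⟨x, -, rfl⟩ := hC
  intro a ha a' ha' n
  obtain ⟨c, hc, rfl⟩ := exists_of_mem_smul ha
  obtain ⟨c', hc', rfl⟩ := exists_of_mem_smul ha'
  have := hq c hc c' hc' (x⁻¹ • n)
  have e : (x * c * x⁻¹) • n - n = x • (c • x⁻¹ • n - x⁻¹ • n) := by simp [smul_sub, mul_smul]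
  rw [e, mul_smul, mul_smul, inv_smul_smul, this]

/-- the key identity of a quadratic module -/
theorem quad_key (hqA : ∀ a ∈ A, ∀ a' ∈ A, ∀ n : V, a' • (a • n - n) = a • n - n)
    (hqB : ∀ a ∈ B, ∀ a' ∈ B, ∀ n : V, a' • (a • n - n) = a • n - n) {a b : G} (ha : a ∈ A) (hb : b ∈ B)
    (e : b⁻¹ • A = a⁻¹ • B) {w : V} (hw : ∀ x ∈ B, x • w = w) :
    ∀ x ∈ A ⊔ B, x • (b • (a • w - w) - (a • w - w) - w) = b • (a • w - w) - (a • w - w) - w := by
  set u := b • a⁻¹ • w with hu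
  have hA : ∀ x ∈ A, x • u = u := by
    intro x hx
    have : a * (b⁻¹ * x * b) * a⁻¹ ∈ B := by
      have := conj_mem' hx b
      rw [e, mem_smul, inv_inv] at this; exact this
    have := hw _ this
    rw [mul_smul, mul_smul, smul_eq_iff_eq_inv_smul, mul_smul, mul_smul, inv_smul_eq_iff] at this
    exact this
  have e1 : a⁻¹ • w = w - (a • w - w) := by
    rw [inv_smul_eq_iff, smul_sub, hqA a ha a ha]; abel
  have e2 : u = w - b • (a • w - w) := by rw [hu, e1, smul_sub, hw b hb]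
  have e3 : b • (a • w - w) - (a • w - w) - w = -(u + (a • w - w)) := by rw [e2]; abel
  intro x hx
  refine (sup_le (fun y hy => ?_) (fun y hy => ?_) : A ⊔ B ≤ MulAction.stabilizer G _) hx
  · rw [MulAction.mem_stabilizer_iff, e3, smul_neg, smul_add, hA y hy, hqA a ha y hy]
  · rw [MulAction.mem_stabilizer_iff, smul_sub, hw y hy, hqB b hb y hy]

/-- an element of a unipotent subgroup acting trivially modulo fixed points -/
theorem quad_triv (hq : ∀ a ∈ A, ∀ a' ∈ A, ∀ n : V, a' • (a • n - n) = a • n - n) {C : Subgroup G} (hC : C ∈ Om A B)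
    {c : G} (hc : c ∈ C) (h1 : c ≠ 1) (ht : ∀ v : V, ∀ x ∈ A ⊔ B, x • (c • v - v) = c • v - v) :
    ∀ y ∈ A ⊔ B, ∀ v : V, ∀ x ∈ A ⊔ B, x • (y • v - v) = y • v - v := by
  have key : ∀ D ∈ Om A B, D ≠ C → ∀ w : V, (∀ x ∈ D, x • w = w) → ∀ x ∈ A ⊔ B, x • w = w := by
    intro D hD hne w hw x hx
    have r := h.of_mem hC hD hne.symm
    obtain ⟨d, hd, -, e⟩ := r.cond_left c hc h1
    have es := h.sup_of_mem hC hD hne.symm
    have := r.quad_key (h.quad_of_mem hq hC) (h.quad_of_mem hq hD) hc hd e hw x (es ▸ hx)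
    rw [ht w d (le_of_mem hD hd), sub_self, zero_sub, smul_neg, neg_inj] at this
    exact this
  have key2 : ∀ D ∈ Om A B, ∀ w : V, (∀ x ∈ D, x • w = w) → ∀ x ∈ A ⊔ B, x • w = w := by
    intro D hD w hw x hx
    obtain ⟨E, hE, hne⟩ : ∃ E ∈ Om A B, E ≠ C := by
      by_cases e : A = C
      · exact ⟨B, h.right_mem, e ▸ h.ne.symm⟩
      · exact ⟨A, h.left_mem, e⟩
    obtain ⟨y, hy, rfl⟩ := hD
    obtain ⟨z, hz, rfl⟩ := hE
    have := key _ ⟨z, hz, rfl⟩ hne ((z * y⁻¹) • w) (fun t ht => by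
      obtain ⟨s, hs, rfl⟩ := exists_of_mem_smul ht
      have := hw _ (conj_mem hs y)
      rw [← mul_smul, show z * s * z⁻¹ * (z * y⁻¹) = z * y⁻¹ * (y * s * y⁻¹) by group, mul_smul, this])
      (z * y⁻¹ * x * (z * y⁻¹)⁻¹) (by
        have := Subgroup.mul_mem _ hz (Subgroup.inv_mem _ hy)
        exact Subgroup.mul_mem _ (Subgroup.mul_mem _ this hx) (Subgroup.inv_mem _ this))
    rwa [mul_smul, inv_smul_smul, mul_smul, smul_left_cancel_iff] at this
  refine sup_ind (fun y hy v => key2 A h.left_mem _ fun x hx => hq y hy x hx v)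
    (fun y hy v => key2 B h.right_mem _ fun x hx => h.quad_of_mem hq h.right_mem y hy x hx v) ?_
  intro y hy z hz h1 h2 v x hx
  rw [show (y * z) • v - v = (y • (z • v) - z • v) + (z • v - v) by rw [mul_smul]; abel, smul_add, h1 _ x hx, h2 _ x hx]

theorem special_of_quad (hq : ∀ a ∈ A, ∀ a' ∈ A, ∀ n : V, a' • (a • n - n) = a • n - n)
    (hX : ∃ x ∈ A ⊔ B, ∃ y ∈ A ⊔ B, ∃ n : V, y • (x • n - n) ≠ x • n - n) : IsSpecialRankOnePair A B := by
  refine ⟨h, fun a ha h1 b hb hb1 e => ?_⟩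
  have e : b⁻¹ • A = a⁻¹ • B := e
  have hqB := h.quad_of_mem hq h.right_mem
  have hC : b⁻¹ • A ∈ Om A B := smul_mem h.left_mem (Subgroup.mem_sup_right (B.inv_mem hb))
  by_contra hne
  obtain ⟨x, hx, y, hy, n, hn⟩ := hX
  have m1 : b⁻¹ * a * b ∈ b⁻¹ • A := conj_mem' ha b
  have m2 : a⁻¹ * b⁻¹ * a ∈ b⁻¹ • A := e ▸ conj_mem' (B.inv_mem hb) a
  refine hn (h.quad_triv hq hC (Subgroup.mul_mem _ (Subgroup.inv_mem _ m1) m2) (fun e' => hne (inv_mul_eq_one.1 e')) ?_
    x hx n y hy)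
  intro v z hz
  have ia : ∀ w : V, a⁻¹ • w = w - (a • w - w) := fun w => by rw [inv_smul_eq_iff, smul_sub, hq a ha a ha]; abel
  have ib : ∀ w : V, b⁻¹ • w = w - (b • w - w) := fun w => by rw [inv_smul_eq_iff, smul_sub, hqB b hb b hb]; abel
  have aa : ∀ w : V, a • a • w = a • w + a • w - w := fun w => by
    have := hq a ha a ha w; rw [smul_sub, sub_eq_iff_eq_add] at this; rw [this]; abel
  have bb : ∀ w : V, b • b • w = b • w + b • w - w := fun w => by
    have := hqB b hb b hb w; rw [smul_sub, sub_eq_iff_eq_add] at this; rw [this]; abel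
  have k1 := h.quad_key hq hqB ha hb e (w := b • v - v) (fun x hx => hqB b hb x hx v)
  have k2 := h.symm.quad_key hqB hq hb ha e.symm (w := a • v - v) (fun x hx => hq a ha x hx v)
  rw [sup_comm] at k2
  have e1 : (a⁻¹ * b⁻¹ * a) • v - (b⁻¹ * a * b) • v =
      (b • (a • (b • v - v) - (b • v - v)) - (a • (b • v - v) - (b • v - v)) - (b • v - v)) +
      (a • (b • (a • v - v) - (a • v - v)) - (b • (a • v - v) - (a • v - v)) - (a • v - v)) := by
    simp only [mul_smul, ia, ib, smul_sub, smul_add, aa, bb]; abel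
  have e2 : ∀ t ∈ A ⊔ B, t • ((a⁻¹ * b⁻¹ * a) • v - (b⁻¹ * a * b) • v) = (a⁻¹ * b⁻¹ * a) • v - (b⁻¹ * a * b) • v :=
    fun t ht => by rw [e1, smul_add, k1 t ht, k2 t ht]
  have e3 : ((b⁻¹ * a * b)⁻¹ * (a⁻¹ * b⁻¹ * a)) • v - v = (a⁻¹ * b⁻¹ * a) • v - (b⁻¹ * a * b) • v := by
    rw [← e2 _ (Subgroup.inv_mem _ (le_of_mem hC m1)), smul_sub, inv_smul_smul, mul_smul]
  rw [e3, e2 z hz]

theorem elab_of_quad (e : A ⊔ B = ⊤) (hf : ∀ x : G, (∀ v : V, x • v = v) → x = 1)
    (hq : ∀ a ∈ A, ∀ a' ∈ A, ∀ n : V, a' • (a • n - n) = a • n - n) :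
    (∀ a ∈ A, a ≠ 1 → ¬ IsOfFinOrder a) ∨ ∃ p : ℕ, p.Prime ∧ IsElementaryAbelian p A := by
  have hm : ∀ a ∈ A, ∀ a' ∈ A, ∀ v : V, (a * a') • v - v = (a • v - v) + (a' • v - v) := fun a ha a' ha' v => by
    have := hq a' ha' a ha v
    rw [smul_sub, sub_eq_iff_eq_add] at this
    rw [mul_smul, this]; abel
  have hp : ∀ a ∈ A, ∀ k : ℕ, ∀ v : V, (a ^ k) • v - v = k • (a • v - v) := fun a ha k v => by
    induction k with
    | zero => simp
    | succ k ih => rw [pow_succ, hm _ (A.pow_mem ha k) a ha, ih, succ_nsmul]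
  rw [or_iff_not_imp_left]
  intro hc
  push Not at hc
  obtain ⟨a₀, ha₀, h1, hfin⟩ := hc
  have ho : orderOf a₀ ≠ 1 := by simpa using h1
  obtain ⟨p, hpp, k, hk⟩ := Nat.exists_prime_and_dvd ho
  have hk0 : 0 < k := Nat.pos_of_ne_zero (by rintro rfl; exact hfin.orderOf_pos.ne' (by simpa using hk))
  set a := a₀ ^ k with hadef
  have ha : a ∈ A := A.pow_mem ha₀ k
  have hap : a ^ p = 1 := by rw [hadef, ← pow_mul, mul_comm, ← hk, pow_orderOf_eq_one]
  have ha1 : a ≠ 1 := pow_ne_one_of_lt_orderOf hk0.ne' (by rw [hk]; exact lt_mul_left hk0 hpp.one_lt)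
  refine ⟨p, hpp, cm_self.2 fun x hx y hy => ?_, fun c hc => ?_⟩
  · rw [← mul_inv_eq_one]
    refine hf _ fun v => ?_
    rw [mul_smul, ← sub_left_inj (a := (y * x)⁻¹ • v), hm x hx y hy, add_comm, ← hm y hy x hx, smul_inv_smul]
  · by_contra hne
    have hqB := h.quad_of_mem hq h.right_mem
    obtain ⟨b, hb, -, e'⟩ := h.cond_left a ha ha1
    have k1 : ∀ w : V, (∀ x ∈ B, x • w = w) → ∀ x ∈ A ⊔ B, x • (p • w) = p • w := fun w hw x hx => by
      have := h.quad_key hq hqB ha hb e' hw x hx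
      have z : p • (a • w - w) = 0 := by rw [← hp a ha, hap, one_smul, sub_self]
      have this : p • x • _ = p • _ := congrArg (p • ·) this
      rw [← smul_comm x p, nsmul_sub, nsmul_sub, ← smul_comm b p, z] at this
      simpa using this
    obtain ⟨n, hn, en⟩ := h.exists_smul_eq
    have k2 := h.quad_triv hq h.left_mem (A.pow_mem hc p) hne (fun v x hx => by
      rw [hp c hc]
      have := k1 (n • (c • v - v)) (fun y hy => by
        rw [← en] at hy
        obtain ⟨s, hs, rfl⟩ := exists_of_mem_smul hy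
        rw [mul_smul, inv_smul_smul, mul_smul, hq c hc s hs]) (n * x * n⁻¹) (e ▸ Subgroup.mem_top _)
      rwa [← smul_comm n p, mul_smul, inv_smul_smul, mul_smul, smul_left_cancel_iff] at this)
    refine h.not_cm fun x _ y _ => ?_
    have hm' : ∀ x y : G, ∀ v : V, (x * y) • v - v = (x • v - v) + (y • v - v) := fun x y v => by
      have := k2 y (e ▸ Subgroup.mem_top _) v x (e ▸ Subgroup.mem_top _)
      rw [smul_sub, sub_eq_iff_eq_add] at this
      rw [mul_smul, this]; abel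
    rw [← mul_inv_eq_one]
    refine hf _ fun v => ?_
    rw [mul_smul, ← sub_left_inj (a := (y * x)⁻¹ • v), hm' x y, add_comm, ← hm' y x, smul_inv_smul]

end Module

theorem special_of_inv (hi : ∀ a ∈ A, a ≠ 1 → ∀ y ∈ B, y • A = a⁻¹ • B → y⁻¹ • A = a • B) : IsSpecialRankOnePair A B := by
  refine ⟨h, fun a ha h1 b hb hb1 e => ?_⟩
  have e : b⁻¹ • A = a⁻¹ • B := e
  have e' := hi a ha h1 _ (B.inv_mem hb) e
  rw [inv_inv] at e'
  have r : R1 (a⁻¹ • B) B := (h.r1_smul (A.inv_mem ha) (by simpa using h1)).symm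
  refine r.inj (e ▸ conj_mem' ha b) (conj_mem' (B.inv_mem hb) a) ?_
  rw [mul_smul, mul_smul, smul_of_mem hb, ← e', inv_smul_smul, mul_smul, mul_smul, ← e', inv_smul_smul,
    smul_of_mem (A.inv_mem ha)]

end R1

/-- special rank one pairs -/
abbrev Sp (A B : Subgroup G) : Prop := IsSpecialRankOnePair A B

namespace Sp
variable {A B : Subgroup G} (h : Sp A B)
include h

theorem r1 : R1 A B := h.1

theorem braid {a y : G} (ha : a ∈ A) (h1 : a ≠ 1) (hy : y ∈ B) (e : y • A = a⁻¹ • B) : a * y * a = y * a * y := by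
  have := h.2 a ha h1 y⁻¹ (B.inv_mem hy) (fun e' => by
    rw [inv_eq_one.1 e', one_smul] at e; exact h.r1.smul_ne (A.inv_mem ha) e.symm) (by simpa [conjBy_eq] using e)
  rw [inv_inv] at this
  calc a * y * a = a * (y * a * y⁻¹) * y := by group
    _ = y * a * y := by rw [this]; group

theorem inv {a y : G} (ha : a ∈ A) (h1 : a ≠ 1) (hy : y ∈ B) (e : y • A = a⁻¹ • B) : y⁻¹ • A = a • B := by
  have br := h.braid ha h1 hy e
  have m : y * a * y ∈ A ⊔ B :=
    Subgroup.mul_mem _ (Subgroup.mul_mem _ (Subgroup.mem_sup_right hy) (Subgroup.mem_sup_left ha)) (Subgroup.mem_sup_right hy)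
  have : A = (y * a * y) • B := h.r1.eq_of_mem h.r1.left_mem (R1.smul_mem h.r1.right_mem m) h1 ha (smul_of_mem (by
    have := conj_mem hy (y * a * y)
    rwa [show y * a * y * y * (y * a * y)⁻¹ = a by
      rw [mul_inv_eq_iff_eq_mul, ← br, mul_assoc a y a, mul_assoc, mul_assoc, ← mul_assoc y a y, ← br]
      group] at this))
  rw [inv_smul_eq_iff, ← mul_smul]
  conv_lhs => rw [this, mul_smul, smul_of_mem hy]

theorem symm : Sp B A := h.r1.symm.special_of_inv fun b hb h1 y hy e => by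
  have := h.inv (A.inv_mem hy) (fun e' => by
    rw [inv_eq_one.1 e', one_smul] at e; exact h.r1.symm.smul_ne (B.inv_mem hb) e.symm) (B.inv_mem hb) (by simpa using e.symm)
  simpa using this.symm

theorem map {H : Type*} [Group H] (f : G →* H) (hne : A.map f ≠ B.map f) : Sp (A.map f) (B.map f) := by
  have r := h.r1.map f hne
  refine r.special_of_inv ?_
  rintro _ ⟨a, ha, rfl⟩ h1 y hy e
  have ha1 : a ≠ 1 := fun e => h1 (by simp [e])
  obtain ⟨b, hb, -, e'⟩ := h.r1.ex (A.inv_mem ha) (by simpa using ha1)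
  have e1 : f b • A.map f = (f a)⁻¹ • B.map f := by rw [← map_inv, ← map_smul, ← map_smul, e']
  rw [r.symm.inj hy ⟨b, hb, rfl⟩ (e.trans e1.symm), ← map_inv, ← map_smul, ← map_smul, h.inv ha ha1 hb e']

theorem smul (g : G) : Sp (g • A) (g • B) := h.map _ fun e => h.r1.ne ((smul_left_cancel_iff g).1 e)

theorem of_mem {C D : Subgroup G} (hC : C ∈ Om A B) (hD : D ∈ Om A B) (hne : C ≠ D) : Sp C D := by
  obtain ⟨x, -, rfl, rfl⟩ := h.r1.two_trans hC hD hne
  exact h.smul x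

end Sp

end Cfsg.Agent.Root
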