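import Mathlib
import Cfsg.Agent.Lib.Root.QP2
import Cfsg.Agent.Lib.Root.Quad

/-! The groups `E(σ)` of a quadratic pair and the opposite pairs. -/

set_option autoImplicit false
set_option linter.unusedSectionVars false

namespace Cfsg.Agent.Root
open Cfsg Module Polynomial

section Psi
variable {R A : Type*} [CommRing R] [Ring A] [Algebra R A]

/-- the matrix representation attached to a pair of matrix units -/
def psi (a b : A) (m : Matrix (Fin 2) (Fin 2) R) : A :=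
  1 - (a * b + b * a) + m 0 0 • (a * b) + m 0 1 • a + m 1 0 • b + m 1 1 • (b * a)

/-- matrix unit relations -/
structure MU (a b : A) : Prop where
  aa : a * a = 0
  bb : b * b = 0
  aba : a * (b * a) = a
  bab : b * (a * b) = b

theorem MU.symm {a b : A} (h : MU a b) : MU b a := ⟨h.bb, h.aa, h.bab, h.aba⟩
theorem MU.aba' {a b : A} (h : MU a b) (z : A) : a * (b * (a * z)) = a * z := by
  rw [← mul_assoc b, ← mul_assoc, h.aba]
theorem MU.bab' {a b : A} (h : MU a b) (z : A) : b * (a * (b * z)) = b * z := h.symm.aba' z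

/-- normalisation with matrix units -/
macro "mus " F:term : tactic => `(tactic|
  simp only [psi, mul_add, add_mul, mul_sub, sub_mul, mul_assoc, mul_one, one_mul, smul_mul_assoc, mul_smul_comm, MU.aa $F,
    MU.bb $F, mz2 (MU.aa $F), mz2 (MU.bb $F), MU.aba $F, MU.aba' $F, MU.bab $F, MU.bab' $F, mul_zero, zero_mul, smul_zero,
    mul_neg, neg_mul, pow_two])

theorem psi_mul {a b : A} (h : MU a b) (m n : Matrix (Fin 2) (Fin 2) R) : psi a b (m * n) = psi a b m * psi a b n := by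
  simp only [psi, Matrix.mul_apply, Fin.sum_univ_two]
  mus h; module

theorem psi_eq_one {a b : A} (h : MU a b) {m : Matrix (Fin 2) (Fin 2) R} (e : psi a b m = 1) :
    m 0 0 • a = (1 : R) • a ∧ m 0 1 • a = (0 : R) • a ∧ m 1 0 • a = (0 : R) • a ∧ m 1 1 • a = (1 : R) • a := by
  refine ⟨?_, ?_, ?_, ?_⟩
  · have := congrArg (fun y => a * b * y * a) e
    revert this; mus h; intro this; linear_combination (norm := module) this
  · have := congrArg (fun y => a * b * y * b * a) e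
    revert this; mus h; intro this; linear_combination (norm := module) this
  · have := congrArg (fun y => a * y * a) e
    revert this; mus h; intro this; linear_combination (norm := module) this
  · have := congrArg (fun y => a * y * b * a) e
    revert this; mus h; intro this; linear_combination (norm := module) this

end Psi

section E0
variable {k : Type*} [Field k] {M : Type*} [AddCommGroup M] [Module k M] [FiniteDimensional k M]

/-- the quadratic elements acting like `x` -/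
def E0 (G : Subgroup (End k M)ˣ) (x : End k M) : Submodule k (End k M) where
  carrier := {y | QE k G y ∧ LinearMap.range y ≤ LinearMap.range x ∧ LinearMap.ker x ≤ LinearMap.ker y ∧
    LinearMap.range x ≤ LinearMap.ker y}
  zero_mem' := ⟨QE.zero, by simp, by simp, by simp⟩
  add_mem' := fun {a b} ha hb => ⟨ha.1.add hb.1 (LinearMap.ext fun m => ha.2.2.2 (hb.2.1 ⟨m, rfl⟩))
      (LinearMap.ext fun m => hb.2.2.2 (ha.2.1 ⟨m, rfl⟩)),
    by rintro _ ⟨m, rfl⟩; exact add_mem (ha.2.1 ⟨m, rfl⟩) (hb.2.1 ⟨m, rfl⟩),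
    fun m hm => by simp [LinearMap.mem_ker.1 (ha.2.2.1 hm), LinearMap.mem_ker.1 (hb.2.2.1 hm)],
    fun m hm => by simp [LinearMap.mem_ker.1 (ha.2.2.2 hm), LinearMap.mem_ker.1 (hb.2.2.2 hm)]⟩
  smul_mem' := fun c a ha => ⟨ha.1.smul c, by rintro _ ⟨m, rfl⟩; exact Submodule.smul_mem _ c (ha.2.1 ⟨m, rfl⟩),
    fun m hm => by simp [LinearMap.mem_ker.1 (ha.2.2.1 hm)], fun m hm => by simp [LinearMap.mem_ker.1 (ha.2.2.2 hm)]⟩

variable {G : Subgroup (End k M)ˣ} {x y z : End k M}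

theorem E0_mul (hy : y ∈ E0 G x) (hz : z ∈ E0 G x) : y * z = 0 := LinearMap.ext fun m => hy.2.2.2 (hz.2.1 ⟨m, rfl⟩)

theorem mem_E0 (hx : x * x = 0) (hy : QE k G y) (h1 : LinearMap.range y ≤ LinearMap.range x)
    (h2 : LinearMap.ker x ≤ LinearMap.ker y) : y ∈ E0 G x :=
  ⟨hy, h1, h2, le_trans (by rintro _ ⟨m, rfl⟩; exact LinearMap.congr_fun hx m) h2⟩

theorem QE.mem_self (h : QE k G x) : x ∈ E0 G x := mem_E0 h.1 h le_rfl le_rfl

theorem E0_congr (h1 : LinearMap.range y = LinearMap.range x) (h2 : LinearMap.ker y = LinearMap.ker x) :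
    E0 G y = E0 G x := by
  ext z; change _ ∧ _ ↔ _ ∧ _; rw [h1, h2]

theorem E0_neg : E0 G (-x) = E0 G x := E0_congr (LinearMap.range_neg x) (LinearMap.ker_neg x)

theorem mul_eq_zero_of_le {w : End k M} (h : LinearMap.range y ≤ LinearMap.range x) (e : w * x = 0) : w * y = 0 :=
  LinearMap.ext fun m => by
    obtain ⟨m', e'⟩ := h ⟨m, rfl⟩
    rw [Module.End.mul_apply, ← e']; exact LinearMap.congr_fun e m'

theorem mul_eq_zero_of_ker {w : End k M} (h : LinearMap.ker x ≤ LinearMap.ker y) (e : x * w = 0) : y * w = 0 :=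
  LinearMap.ext fun m => h (LinearMap.congr_fun e m)

theorem Qd.of_mem (hx : Qd G x) (hy : y ∈ E0 G x) (h0 : y ≠ 0) :
    Qd G y ∧ LinearMap.range y = LinearMap.range x ∧ LinearMap.ker y = LinearMap.ker x := by
  have h1 := hx.of_le hy.1 h0 (Submodule.finrank_mono hy.2.1)
  have h2 := hx.rk_eq h1
  refine ⟨h1, Submodule.eq_of_le_of_finrank_le hy.2.1 h2.le, (Submodule.eq_of_le_of_finrank_le hy.2.2.1 ?_).symm⟩
  have := rk_ker x
  have := rk_ker y
  omega

theorem Qd.E0_eq (hx : Qd G x) (hy : y ∈ E0 G x) (h0 : y ≠ 0) : E0 G y = E0 G x :=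
  E0_congr (hx.of_mem hy h0).2.1 (hx.of_mem hy h0).2.2

theorem E0_cj {g : (End k M)ˣ} (hg : g ∈ G) (hy : y ∈ E0 G x) : cj g y ∈ E0 G (cj g x) := by
  refine ⟨hy.1.conj hg, ?_, fun m hm => ?_, ?_⟩
  · rintro _ ⟨m, rfl⟩
    obtain ⟨m', e⟩ := hy.2.1 ⟨(g⁻¹ : (End k M)ˣ).1 m, rfl⟩
    refine ⟨g.1 m', ?_⟩
    rw [← Module.End.mul_apply, cj, Units.inv_mul_cancel_right, Module.End.mul_apply, e]; rfl
  · have : x ((g⁻¹ : (End k M)ˣ).1 m) = 0 := by
      have := congrArg (g⁻¹ : (End k M)ˣ).1 (LinearMap.mem_ker.1 hm)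
      rwa [← Module.End.mul_apply, cj, mul_assoc, Units.inv_mul_cancel_left, map_zero] at this
    rw [LinearMap.mem_ker, cj, Module.End.mul_apply, Module.End.mul_apply, LinearMap.mem_ker.1 (hy.2.2.1 this), map_zero]
  · rintro _ ⟨m, rfl⟩
    have : y * x = 0 := LinearMap.ext fun m => hy.2.2.2 ⟨m, rfl⟩
    rw [LinearMap.mem_ker, ← Module.End.mul_apply]
    simp [cj, mul_assoc, mz2 this]

theorem cj_cj {E : Type*} [Ring E] (g : Eˣ) (x : E) : cj g⁻¹ (cj g x) = x := by simp [cj, mul_assoc]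

theorem finrank_E0_cj {g : (End k M)ˣ} (hg : g ∈ G) (x : End k M) : finrank k (E0 G (cj g x)) = finrank k (E0 G x) := by
  have key : ∀ g ∈ G, ∀ x, finrank k (E0 G x) ≤ finrank k (E0 G (cj g x)) := fun g hg x =>
    LinearMap.finrank_le_finrank_of_injective (f := ((LinearMap.mulRight k (g⁻¹ : (End k M)ˣ).1).comp
      (LinearMap.mulLeft k g.1)).restrict fun y hy => E0_cj hg hy) fun a b e => Subtype.ext (by
        have : cj g a.1 = cj g b.1 := congrArg Subtype.val e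
        rw [← cj_cj g a.1, this, cj_cj])
  exact le_antisymm (by have := key _ (G.inv_mem hg) (cj g x); rwa [cj_cj] at this) (key g hg x)

/-- the group `E(1 + x)` -/
def EG (G : Subgroup (End k M)ˣ) (x : End k M) : Subgroup (End k M)ˣ :=
  oneAdd (E0 G x) (Submodule.mul_le.2 fun _ ha _ hb => E0_mul ha hb ▸ zero_mem _)

theorem mem_EG {g : (End k M)ˣ} : g ∈ EG G x ↔ (g : End k M) - 1 ∈ E0 G x := Iff.rfl

theorem un1_mem_EG (hy : y ∈ E0 G x) : un1 y hy.1.1 ∈ EG G x := by simpa [mem_EG] using hy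

theorem exists_of_EG {g : (End k M)ˣ} (h : g ∈ EG G x) : ∃ y, ∃ hy : y ∈ E0 G x, g = un1 y hy.1.1 :=
  ⟨_, h, Units.ext (by simp)⟩

theorem un1_eq_one {E : Type*} [Ring E] {y : E} {h : y * y = 0} : un1 y h = 1 ↔ y = 0 := by
  rw [Units.ext_iff]; simp

theorem EG_le : EG G x ≤ G := fun g hg => by
  obtain ⟨y, hy, rfl⟩ := exists_of_EG hg; exact hy.1.un1_mem

theorem EG_congr (h : E0 G y = E0 G x) : EG G y = EG G x := by ext g; rw [mem_EG, mem_EG, h]

theorem EG_cm : Cm (EG G x) (EG G x) := fun a ha b hb => by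
  obtain ⟨y, hy, rfl⟩ := exists_of_EG ha
  obtain ⟨z, hz, rfl⟩ := exists_of_EG hb
  exact Units.ext (by simp [mul_add, add_mul, E0_mul hy hz, E0_mul hz hy]; abel)

theorem EG_cj {g : (End k M)ˣ} (hg : g ∈ G) (x : End k M) : g • EG G x = EG G (cj g x) := by
  ext u
  have e : (u : End k M) - 1 = cj g (((g⁻¹ * u * g : (End k M)ˣ) : End k M) - 1) := by
    simp [cj, mul_sub, sub_mul, mul_assoc]
  rw [mem_smul, mem_EG, mem_EG, e]
  exact ⟨E0_cj hg, fun h => by have := E0_cj (G.inv_mem hg) h; rwa [cj_cj, cj_cj] at this⟩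

theorem Aug_EG : Aug k (EG G x) ≤ E0 G x := Aug_le.2 fun _ h => h

theorem mem_quad {σ : (End k M)ˣ} : σ ∈ quadraticElements G ↔ QE k G ((σ : End k M) - 1) ∧ (σ : End k M) - 1 ≠ 0 := by
  constructor
  · rintro ⟨-, ⟨h1, h2⟩, h3⟩
    exact ⟨⟨h1, fun c => ⟨un1 (c • ((σ : End k M) - 1)) (by simp [h1]), h3 ⟨c, rfl⟩, rfl⟩⟩, h2⟩
  · rintro ⟨h1, h2⟩
    have : scalarFamily σ ⊆ G := by
      rintro τ ⟨c, hc⟩
      obtain ⟨g, hg, e⟩ := h1.2 c
      rwa [show τ = g from Units.ext (hc.trans e.symm)]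
    exact ⟨this ⟨1, by simp⟩, ⟨h1.1, h2⟩, this⟩

theorem mem_min {σ : (End k M)ˣ} : σ ∈ minimalQuadraticElements G ↔ Qd G ((σ : End k M) - 1) := by
  constructor
  · rintro ⟨h1, h2⟩
    refine ⟨(mem_quad.1 h1).1, (mem_quad.1 h1).2, fun y hy h0 => ?_⟩
    have := h2 (un1 y hy.1) (mem_quad.2 (by simpa using ⟨hy, h0⟩))
    rwa [commutatorRank, commutatorRank, un1_val, add_sub_cancel_left] at this
  · rintro ⟨h1, h2, h3⟩
    exact ⟨mem_quad.2 ⟨h1, h2⟩, fun τ hτ => h3 _ (mem_quad.1 hτ).1 (mem_quad.1 hτ).2⟩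

theorem same_class {σ : (End k M)ˣ} (h : Qd G ((σ : End k M) - 1)) :
    (EG G ((σ : End k M) - 1) : Set (End k M)ˣ) = sameActionClass G σ ∪ {1} := by
  ext g
  constructor
  · intro hg
    by_cases h0 : (g : End k M) - 1 = 0
    · exact Or.inr (Units.ext (sub_eq_zero.1 h0))
    · obtain ⟨a, b, c⟩ := h.of_mem hg h0
      exact Or.inl ⟨mem_min.2 a, c, b⟩
  · rintro (⟨a, b, c⟩ | rfl)
    · exact mem_E0 h.1.1 (mem_min.1 a).1 c.le b.ge
    · exact one_mem _

theorem same_eq {σ : (End k M)ˣ} (h : Qd G ((σ : End k M) - 1)) :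
    sameActionSubgroup G σ = EG G ((σ : End k M) - 1) := by
  refine le_antisymm ((Subgroup.closure_le _).2 (same_class h ▸ Set.subset_union_left)) fun g hg => ?_
  rcases (same_class h).le hg with h | rfl
  exacts [Subgroup.subset_closure h, one_mem _]

theorem mem_sig {A : Subgroup (End k M)ˣ} : A ∈ quadraticRootSubgroups G ↔ ∃ x, Qd G x ∧ A = EG G x := by
  constructor
  · rintro ⟨σ, h, rfl⟩; exact ⟨_, mem_min.1 h, same_eq (mem_min.1 h)⟩
  · rintro ⟨x, h, rfl⟩
    have : Qd G ((un1 x h.1.1 : End k M) - 1) := by simpa using h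
    exact ⟨_, mem_min.2 this, by rw [same_eq this]; simp⟩

end E0

section Frame
universe u
variable {k : Type u} [Field k] {M : Type*} [AddCommGroup M] [Module k M] [FiniteDimensional k M]
  {G : Subgroup (End k M)ˣ} {A : Type*} [Ring A] [Algebra k A] [Algebra k[X] A] [IsScalarTower k k[X] A]
  {ι : A →ₐ[k] End k M} {a b : A}

namespace Fr
variable (F : Fr ι a b) (h2 : (2 : k) ≠ 0) (h3 : Nat.card k ≠ 3) (ha : Qd G (ι a))
include F h2 h3 ha

theorem split (hb : QE k G (ι b)) (hj : J (pT ι X) (ι a)) :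
    ∃ f μ : k[X], Irreducible f ∧ f ∣ μ * X - 1 ∧ f • a = 0 ∧ (∀ p : k[X], QE k G (ι (p • a))) ∧
      (∀ p : k[X], QE k G (ι ((p * X) • b))) ∧ Qd G (ι ((μ * X) • b)) ∧ QE k G (ι (b - (μ * X) • b)) ∧
      rk (ι (b - (μ * X) • b)) < rk (ι b) := by
  obtain ⟨f, hf, hX, e, hq⟩ := F.field h2 h3 ha hb hj
  obtain ⟨u, μ, huv⟩ := hf.coprime_iff_not_dvd.2 hX
  have e1 : (1 - μ * X) • a = 0 := by linear_combination (norm := module) u • e - huv • a
  have e2 : (1 - μ * X) • (a * b) = 0 := by rw [← smul_mul_assoc, e1, zero_mul]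
  have kl := F.kill e1
  have c1 : Cj G ι a (-((X : k[X]) • b)) := by
    have := (Cj.of_qe F.inj hb a).trans (Cj.of_qe F.inj (hq (-μ)) _)
    convert this using 1
    frs F; linear_combination (norm := module) -(1 - μ * X : k[X]) • e1 + (2 : k[X]) • e2 - kl 1
  have q1 : ∀ p : k[X], QE k G (ι ((p * X) • b)) := fun p => by
    convert (c1.psmul (-p)).qe (hq (-p)) using 2; module
  have n1 : (μ * X) • b ≠ 0 := fun h => ha.2.1 (by
    have : a = a * ((μ * X) • b) * (μ • a) := by frs F; linear_combination (norm := module) (1 + μ * X : k[X]) • e1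
    rw [this, h]; simp)
  have n2 : ι ((μ * X) • b) ≠ 0 := fun h => n1 (F.inj (by rw [h, map_zero]))
  refine ⟨f, μ, hf, ⟨-u, by linear_combination huv⟩, e, hq, q1, ha.of_le (q1 μ) n2 ?_,
    F.qe_sub hb (q1 μ) (by frs F) (by frs F), ?_⟩
  · have : (μ * X) • b = b * a * (μ • b) := by frs F; module
    rw [this, map_mul, map_mul]
    exact (rk_mul_le' _ _).trans (rk_mul_le _ _)
  · have : b - (μ * X) • b = (1 - μ * X) • b := by module
    rw [this, map_psmul]
    refine rk_lt fun h => n1 (h.pcancel F.inj ?_)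
    linear_combination (norm := module) μ • kl b

theorem split' (hb : Qd G (ι b)) (hj : J (pT ι X) (ι a)) :
    ∃ f μ : k[X], Irreducible f ∧ f ∣ μ * X - 1 ∧ f • a = 0 ∧ f • b = 0 ∧ (∀ p : k[X], ι (p • a) ∈ E0 G (ι a)) ∧
      (∀ p : k[X], ι (p • b) ∈ E0 G (ι b)) ∧ MU a (μ • b) := by
  obtain ⟨f, μ, hf, d, e, q1, q2, -, q3, r⟩ := F.split h2 h3 ha hb.1 hj
  have e1 : b - (μ * X) • b = 0 := F.inj (by rw [map_zero]; exact hb.small q3 r)
  have m : ∀ (x : A) (p : k[X]), QE k G (ι x) → QE k G (ι (p • x)) → ι (p • x) ∈ E0 G (ι x) := fun x p hx hp =>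
    mem_E0 hx.1 hp (by rw [map_psmul']; exact LinearMap.range_comp_le_range _ _)
      (by rw [map_psmul]; exact LinearMap.ker_le_ker_comp _ _)
  obtain ⟨u, hu⟩ := d
  refine ⟨f, μ, hf, ⟨u, hu⟩, e, by linear_combination (norm := module) f • e1 + μ • F.kill e b,
    fun p => m a p ha.1 (q1 p), fun p => m b p hb.1 ?_, F.aa, by frs F, ?_, ?_⟩
  · convert q2 (p * μ) using 2
    linear_combination (norm := module) p • e1
  · frs F; linear_combination (norm := module) hu • a + u • e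
  · frs F; linear_combination (norm := module) -μ • e1

theorem hom (hb : Qd G (ι b)) (hj : J (pT ι X) (ι a)) :
    ∃ (K : Type u) (_ : Field K) (_ : Algebra k K) (lam : K) (φ : Matrix.SpecialLinearGroup (Fin 2) K →* (End k M)ˣ),
      lam ≠ 0 ∧ IsIntegral k lam ∧ (∀ z : K, ∃ p : k[X], aeval lam p = z) ∧ Function.Injective φ ∧
      (∀ c : k, (φ (xU (algebraMap k K c)) : End k M) = 1 + c • ι a) ∧
      (∀ c : k, (φ (xL (algebraMap k K c * lam)) : End k M) = 1 + c • ι b) ∧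
      (∀ s, φ (xU s) ∈ EG G (ι a)) ∧ ∀ s, φ (xL s) ∈ EG G (ι b) := by
  obtain ⟨f, μ, hf, d, e1, e2, q1, q2, mu⟩ := F.split' h2 h3 ha hb hj
  haveI := Fact.mk hf
  haveI := (AdjoinRoot.powerBasis hf.ne_zero).finite
  have w : ∀ (x : A) (p q : k[X]), f • x = 0 → AdjoinRoot.mk f p = AdjoinRoot.mk f q → p • x = q • x := fun x p q hx h => by
    obtain ⟨u, hu⟩ := AdjoinRoot.mk_eq_mk.1 h
    linear_combination (norm := module) hu • x + u • hx
  have e3 : f • μ • b = 0 := by rw [smul_comm, e2, smul_zero]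
  have wp : ∀ m n : Matrix (Fin 2) (Fin 2) k[X], m.map (AdjoinRoot.mk f) = n.map (AdjoinRoot.mk f) →
      psi a (μ • b) m = psi a (μ • b) n := fun m n h => by
    have h' : ∀ i j, AdjoinRoot.mk f (m i j) = AdjoinRoot.mk f (n i j) := fun i j => congrFun (congrFun h i) j
    rw [psi, psi, w _ _ _ (by rw [← smul_mul_assoc, e1, zero_mul]) (h' 0 0), w _ _ _ e1 (h' 0 1), w _ _ _ e3 (h' 1 0),
      w _ _ _ (by rw [← smul_mul_assoc, e3, zero_mul]) (h' 1 1)]
  obtain ⟨sec, hsec⟩ := (AdjoinRoot.mk_surjective (g := f)).hasRightInverse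
  have hs : ∀ m : Matrix (Fin 2) (Fin 2) (AdjoinRoot f), (m.map sec).map (AdjoinRoot.mk f) = m := fun m => by
    ext i j; exact hsec _
  let ψ : Matrix.SpecialLinearGroup (Fin 2) (AdjoinRoot f) →* End k M :=
    { toFun := fun g => ι (psi a (μ • b) (g.1.map sec))
      map_one' := by
        rw [wp _ 1 (by rw [hs]; simp), ← map_one ι]; congr 1; simp [psi]; abel
      map_mul' := fun g h => by
        rw [← map_mul, ← psi_mul mu, wp _ (g.1.map sec * h.1.map sec) (by rw [hs, Matrix.map_mul, hs, hs]; rfl)] }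
  have hψ : ∀ g (m : Matrix (Fin 2) (Fin 2) k[X]), m.map (AdjoinRoot.mk f) = g.1 →
      (ψ.toHomUnits g : End k M) = ι (psi a (μ • b) m) := fun g m h => congrArg ι (wp _ _ (by rw [hs, h]))
  have hU : ∀ p, (ψ.toHomUnits (xU (AdjoinRoot.mk f p)) : End k M) = 1 + ι (p • a) := fun p => by
    rw [hψ _ !![1, p; 0, 1] (by ext i j; fin_cases i <;> fin_cases j <;> simp), ← map_one ι, ← map_add]
    congr 1; simp [psi]; abel
  have hL : ∀ p, (ψ.toHomUnits (xL (AdjoinRoot.mk f p)) : End k M) = 1 + ι ((p * μ) • b) := fun p => by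
    rw [hψ _ !![1, 0; p, 1] (by ext i j; fin_cases i <;> fin_cases j <;> simp), ← map_one ι, ← map_add]
    congr 1; simp [psi, mul_smul]; abel
  refine ⟨AdjoinRoot f, inferInstance, inferInstance, AdjoinRoot.root f, ψ.toHomUnits, fun h => ?_,
    IsIntegral.of_finite k _, fun z => ⟨sec z, (AdjoinRoot.aeval_eq _).trans (hsec z)⟩,
    (injective_iff_map_eq_one _).2 fun g hg => ?_, fun c => ?_, fun c => ?_, fun s => ?_, fun s => ?_⟩
  · have := AdjoinRoot.mk_eq_zero.2 d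
    simp [h] at this
  · have h1 : psi a (μ • b) (g.1.map sec) = 1 := F.inj (by rw [map_one]; exact congrArg Units.val hg)
    have z : ∀ p q, p • a = q • a → AdjoinRoot.mk f p = AdjoinRoot.mk f q := fun p q h => by
      rw [AdjoinRoot.mk_eq_mk]
      by_contra hn
      obtain ⟨u, v, huv⟩ := hf.coprime_iff_not_dvd.2 hn
      have : a = 0 := by linear_combination (norm := module) u • e1 + v • h - huv • a
      exact ha.2.1 (by rw [this, map_zero])
    obtain ⟨y0, y1, y2, y3⟩ := psi_eq_one mu h1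
    have z0 := z (sec (g.1 0 0)) 1 y0
    have z1 := z (sec (g.1 0 1)) 0 y1
    have z2 := z (sec (g.1 1 0)) 0 y2
    have z3 := z (sec (g.1 1 1)) 1 y3
    rw [hsec] at z0 z1 z2 z3
    ext i j; fin_cases i <;> fin_cases j <;> simp [z0, z1, z2, z3]
  · rw [← F.csmul]; exact hU (C c)
  · rw [← F.csmul, w _ (C c) (C c * X * μ) e2 (by
      rw [eq_comm, AdjoinRoot.mk_eq_mk]; convert d.mul_left (C c) using 1; ring), ← hL]
    simp
  · rw [mem_EG, ← hsec s, hU]; simpa using q1 _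
  · rw [mem_EG, ← hsec s, hL]; simpa using q2 _

end Fr

namespace Qd
variable (h2 : (2 : k) ≠ 0) (h3 : Nat.card k ≠ 3) {x y : End k M} (hx : Qd G x)
include h2 h3 hx

theorem split (hy : QE k G y) (h : x * y * x ≠ 0) :
    ∃ z, Qd G z ∧ QE k G (y - z) ∧ z * y = 0 ∧ y * z = 0 ∧ rk (y - z) < rk y := by
  have hj := (hx.dich h2 h3 hy).resolve_left h
  obtain ⟨A, _, _, _, _, ι, a, b, F, rfl, rfl⟩ := exists_fr hx.1.1 hy.1
  obtain ⟨f, μ, -, -, -, -, -, q1, q2, r⟩ := F.split h2 h3 hx hy (F.gam ▸ hj)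
  rw [map_sub] at q2 r
  exact ⟨_, q1, q2, by rw [← map_mul, smul_mul_assoc, F.bb, smul_zero, map_zero],
    by rw [← map_mul, mul_smul_comm, F.bb, smul_zero, map_zero], r⟩

theorem partner (hy : Qd G y) (h : x * y * x ≠ 0) : ∃ z ∈ E0 G y, MU x z := by
  have hj := (hx.dich h2 h3 hy.1).resolve_left h
  obtain ⟨A, _, _, _, _, ι, a, b, F, rfl, rfl⟩ := exists_fr hx.1.1 hy.1.1
  obtain ⟨f, μ, -, -, -, -, -, q, mu⟩ := F.split' h2 h3 hx hy (F.gam ▸ hj)
  exact ⟨_, q μ, hx.1.1, (q μ).1.1, by rw [← map_mul, ← map_mul, mu.aba], by rw [← map_mul, ← map_mul, mu.bab]⟩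

theorem hom (hy : Qd G y) (h : x * y * x ≠ 0) :
    ∃ (K : Type u) (_ : Field K) (_ : Algebra k K) (lam : K) (φ : Matrix.SpecialLinearGroup (Fin 2) K →* (End k M)ˣ),
      lam ≠ 0 ∧ IsIntegral k lam ∧ (∀ z : K, ∃ p : k[X], aeval lam p = z) ∧ Function.Injective φ ∧
      (∀ c : k, (φ (xU (algebraMap k K c)) : End k M) = 1 + c • x) ∧
      (∀ c : k, (φ (xL (algebraMap k K c * lam)) : End k M) = 1 + c • y) ∧
      (∀ s, φ (xU s) ∈ EG G x) ∧ ∀ s, φ (xL s) ∈ EG G y := by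
  have hj := (hx.dich h2 h3 hy.1).resolve_left h
  obtain ⟨A, _, _, _, _, ι, a, b, F, rfl, rfl⟩ := exists_fr hx.1.1 hy.1.1
  exact F.hom h2 h3 hx hy (F.gam ▸ hj)

end Qd

end Frame

end Cfsg.Agent.Root
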