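import Mathlib
import Cfsg.Agent.Lib.Root.QP3
import Cfsg.Agent.Lib.Root.ARS4

/-! Pairs of groups `E(σ)`, `E(τ)` in a quadratic pair. -/

set_option autoImplicit false
set_option linter.unusedSectionVars false

namespace Cfsg.Agent.Root
open Cfsg Module

theorem un_of_cube {k E : Type*} [Field k] [Ring E] [Algebra k E] [FiniteDimensional k E] {S : Submodule k E}
    (h : S * S * S = ⊥) {A B : Subgroup Eˣ} (hA : Aug k A ≤ S) (hB : Aug k B ≤ S) : Un k (A ⊔ B) := by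
  have h1 : (S ⊔ S * S) * (S ⊔ S * S) ≤ S * S := by
    rw [Submodule.sup_mul, Submodule.mul_sup, Submodule.mul_sup, ← mul_assoc, ← mul_assoc, h]; simp
  refine nil_of_le (Aug_sup_le (h1.trans le_sup_right) (hA.trans le_sup_left) (hB.trans le_sup_left)) ⟨3, ?_⟩
  rw [pow_succ, pow_two, Submodule.zero_eq_bot, eq_bot_iff]
  refine (mul_le_mul_left h1 _).trans ?_
  rw [Submodule.mul_sup, ← mul_assoc, h]; simp

theorem cj_eq_zero {E : Type*} [Ring E] {g : Eˣ} {x : E} (h : cj g x = 0) : x = 0 := by simpa [cj] using h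

universe u
variable {k : Type u} [Field k] {M : Type*} [AddCommGroup M] [Module k M] [FiniteDimensional k M]
  {G : Subgroup (End k M)ˣ} {x y : End k M}

/-- opposite pairs -/
def Opp (x y : End k M) : Prop := J x y ∧ J y x

theorem Opp.symm (h : Opp x y) : Opp y x := ⟨h.2, h.1⟩

theorem Opp.ne (h : Opp x y) (h0 : x ≠ 0) : x * y * x ≠ 0 := fun e => h0 (by
  simpa using h.2.eq_zero (z := 1) (by simpa using h.1.eq_zero e))

theorem Opp.of_mem (h : Opp x y) (hx : Qd G x) (hy : Qd G y) {a b : End k M} (ha : a ∈ E0 G x) (a0 : a ≠ 0)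
    (hb : b ∈ E0 G y) (b0 : b ≠ 0) : Opp a b := by
  rw [Opp, J_iff, J_iff] at h ⊢
  rwa [(hx.of_mem ha a0).2.1, (hx.of_mem ha a0).2.2, (hy.of_mem hb b0).2.1, (hy.of_mem hb b0).2.2]

theorem MU.ne {E : Type*} [Ring E] {a b : E} (h : MU a b) (h0 : a ≠ 0) : b ≠ 0 := fun e => h0 (by
  rw [← h.aba, e]; simp)

theorem MU.cj1 {E : Type*} [Ring E] {a b : E} (h : MU a b) : cj (un1 b h.bb) a = -cj (un1 a h.aa) b := by
  simp only [cj, un1_val, un1_inv]; mus h; abel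

theorem MU.cj2 {E : Type*} [Ring E] {a b : E} (h : MU a b) : cj (un1 b h.bb)⁻¹ a = -cj (un1 a h.aa)⁻¹ b := by
  simp only [cj, un1_val, un1_inv, inv_inv]; mus h; abel

theorem MU.finrank_eq (h : MU x y) (hx : QE k G x) (hy : QE k G y) : finrank k (E0 G x) = finrank k (E0 G y) := by
  rw [← finrank_E0_cj hy.un1_mem x, ← finrank_E0_cj hx.un1_mem y, h.cj1, E0_neg]

theorem MU.not_un (h : MU x y) (h0 : x ≠ 0) {H : Subgroup (End k M)ˣ} (hx : un1 x h.aa ∈ H) (hy : un1 y h.bb ∈ H) :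
    ¬ Un k H := by
  rintro ⟨n, hn⟩
  have h1 : x * y ∈ Aug k H := Aug_mul H (Submodule.mul_mem_mul (by simpa using mem_Aug (k := k) hx)
    (by simpa using mem_Aug (k := k) hy))
  have h2 : ∀ n, (x * y) ^ n * x = x := fun n => by
    induction n with
    | zero => simp
    | succ n ih => rw [pow_succ, mul_assoc, mul_assoc, h.aba, ih]
  have := Submodule.pow_mem_pow _ h1 n
  rw [hn, Submodule.zero_eq_bot, Submodule.mem_bot] at this
  exact h0 (by rw [← h2 n, this, zero_mul])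

/-- the algebra of the group `U(D)` -/
def N3 (d : End k M) : Submodule k (End k M) where
  carrier := {w | d * w = 0 ∧ w * d = 0 ∧ ∀ m, d m = 0 → w m ∈ LinearMap.range d}
  zero_mem' := ⟨mul_zero _, zero_mul _, fun _ _ => zero_mem _⟩
  add_mem' := fun {a b} ha hb => ⟨by rw [mul_add, ha.1, hb.1, add_zero], by rw [add_mul, ha.2.1, hb.2.1, add_zero],
    fun m hm => add_mem (ha.2.2 m hm) (hb.2.2 m hm)⟩
  smul_mem' := fun c a ha => ⟨by rw [mul_smul_comm, ha.1, smul_zero], by rw [smul_mul_assoc, ha.2.1, smul_zero],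
    fun m hm => Submodule.smul_mem _ c (ha.2.2 m hm)⟩

theorem N3_mul (d : End k M) : N3 d * N3 d ≤ N3 d := Submodule.mul_le.2 fun a ha b hb =>
  ⟨by rw [← mul_assoc, ha.1, zero_mul], by rw [mul_assoc, hb.2.1, mul_zero], fun m hm => by
    obtain ⟨m', e⟩ := hb.2.2 m hm
    rw [Module.End.mul_apply, ← e, ← Module.End.mul_apply, ha.2.1]; exact zero_mem _⟩

theorem N3_neg (d : End k M) : N3 (-d) = N3 d := by
  ext w; change _ ∧ _ ↔ _ ∧ _; simp

/-- no normal unipotent subgroups -/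
def NU (G : Subgroup (End k M)ˣ) : Prop := ∀ N ≤ G, Un k N → (∀ g ∈ G, g • N = N) → N = ⊥

theorem nu_of_irr (h : IsIrreducibleFor G) : NU G := fun _ _ h1 h2 => h1.eq_bot_of_irr h h2

/-- nilpotent pairs -/
structure NP (G : Subgroup (End k M)ˣ) (x y : End k M) : Prop where
  hx : Qd G x
  hy : Qd G y
  aba : ∀ a ∈ E0 G x, ∀ b ∈ E0 G y, ∀ a' ∈ E0 G x, a * b * a' = 0
  bab : ∀ b ∈ E0 G y, ∀ a ∈ E0 G x, ∀ b' ∈ E0 G y, b * a * b' = 0

namespace NP
variable (h : NP G x y)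
include h

theorem symm : NP G y x := ⟨h.hy, h.hx, h.bab, h.aba⟩

theorem of_mem {a b : End k M} (ha : a ∈ E0 G x) (a0 : a ≠ 0) (hb : b ∈ E0 G y) (b0 : b ≠ 0) : NP G a b := by
  refine ⟨(h.hx.of_mem ha a0).1, (h.hy.of_mem hb b0).1, ?_, ?_⟩ <;> rw [h.hx.E0_eq ha a0, h.hy.E0_eq hb b0]
  exacts [h.aba, h.bab]

theorem un : Un k (EG G x ⊔ EG G y) := by
  refine un_of_cube (S := E0 G x ⊔ E0 G y) ?_ (Aug_EG.trans le_sup_left) (Aug_EG.trans le_sup_right)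
  have z : ∀ x, E0 G x * E0 G x = ⊥ := fun x => eq_bot_iff.2 (Submodule.mul_le.2 fun _ ha _ hb => E0_mul ha hb)
  have z' : ∀ {x y}, NP G x y → E0 G x * E0 G y * E0 G x = ⊥ := fun h => eq_bot_iff.2 (Submodule.mul_le.2 fun w hw c hc => by
    refine Submodule.mul_induction_on hw (fun a ha b hb => h.aba a ha b hb c hc) fun a b ha hb => ?_
    rw [add_mul]; exact add_mem ha hb)
  simp only [Submodule.sup_mul, Submodule.mul_sup, z, z' h, z' h.symm, mul_assoc (E0 G x) (E0 G y) (E0 G y),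
    mul_assoc (E0 G y) (E0 G x) (E0 G x)]
  simp

theorem qe {a b : End k M} (ha : a ∈ E0 G x) (hb : b ∈ E0 G y) : QE k G (a * b - b * a) :=
  ha.1.comm hb.1 (h.aba a ha b hb a ha) (h.bab b hb a ha b hb)

theorem range_le {a b : End k M} (ha : a ∈ E0 G x) (hb : b ∈ E0 G y) :
    LinearMap.range (a * b) ≤ LinearMap.range x ⊓ LinearMap.ker y := by
  rintro _ ⟨m, rfl⟩
  exact ⟨ha.2.1 ⟨_, rfl⟩, LinearMap.congr_fun (h.bab y h.hy.1.mem_self a ha b hb) m⟩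

theorem le_ker {a b : End k M} (ha : a ∈ E0 G x) (hb : b ∈ E0 G y) :
    LinearMap.range x ⊔ LinearMap.ker y ≤ LinearMap.ker (a * b) :=
  sup_le (by rintro _ ⟨m, rfl⟩; exact LinearMap.congr_fun (h.aba a ha b hb x h.hx.1.mem_self) m) fun m hm => by
    rw [LinearMap.mem_ker, Module.End.mul_apply, LinearMap.mem_ker.1 (hb.2.2.1 hm), map_zero]

theorem dims (h0 : x * y - y * x ≠ 0) :
    rk (x * y - y * x) ≤ rk x ∧ LinearMap.range (x * y - y * x) =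
      (LinearMap.range x ⊓ LinearMap.ker y) ⊔ (LinearMap.range y ⊓ LinearMap.ker x) ∧
    (LinearMap.range x ⊓ LinearMap.ker y) ⊓ (LinearMap.range y ⊓ LinearMap.ker x) = ⊥ ∧
    LinearMap.ker (x * y - y * x) = (LinearMap.range x ⊔ LinearMap.ker y) ⊓ (LinearMap.range y ⊔ LinearMap.ker x) := by
  have mx := h.hx.1.mem_self
  have my := h.hy.1.mem_self
  have a1 := rk_add_inf x y
  have a2 := rk_add_inf y x
  have a3 := Submodule.finrank_mono (h.range_le mx my)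
  have a4 := Submodule.finrank_mono (h.symm.range_le my mx)
  have a5 := h.hx.rk_eq h.hy
  have a6 := h.hx.2.2 _ (h.qe mx my) h0
  have b1 : LinearMap.range (x * y - y * x) ≤ LinearMap.range (x * y) ⊔ LinearMap.range (y * x) := by
    rintro _ ⟨m, rfl⟩; exact sub_mem (Submodule.mem_sup_left ⟨m, rfl⟩) (Submodule.mem_sup_right ⟨m, rfl⟩)
  have a7 := Submodule.finrank_mono b1
  have a8 := Submodule.finrank_sup_add_finrank_inf_eq (LinearMap.range (x * y)) (LinearMap.range (y * x))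
  have a9 := Submodule.finrank_sup_add_finrank_inf_eq (LinearMap.range x) (LinearMap.ker y)
  have a10 := Submodule.finrank_sup_add_finrank_inf_eq (LinearMap.range y) (LinearMap.ker x)
  have a11 := Submodule.finrank_sup_add_finrank_inf_eq (LinearMap.range x ⊔ LinearMap.ker y)
    (LinearMap.range y ⊔ LinearMap.ker x)
  have a12 := Submodule.finrank_le ((LinearMap.range x ⊔ LinearMap.ker y) ⊔ (LinearMap.range y ⊔ LinearMap.ker x))
  have a13 := rk_ker x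
  have a14 := rk_ker y
  have a15 := rk_ker (x * y - y * x)
  unfold rk at *
  have c1 := Submodule.eq_of_le_of_finrank_le (h.range_le mx my) (by omega)
  have c2 := Submodule.eq_of_le_of_finrank_le (h.symm.range_le my mx) (by omega)
  refine ⟨by omega, by rw [← c1, ← c2]; exact Submodule.eq_of_le_of_finrank_le b1 (by omega),
    by rw [← c1, ← c2, ← Submodule.finrank_eq_zero]; omega, (Submodule.eq_of_le_of_finrank_le (fun m hm => ?_) (by omega)).symm⟩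
  rw [LinearMap.mem_ker, LinearMap.sub_apply, LinearMap.mem_ker.1 (h.le_ker mx my hm.1),
    LinearMap.mem_ker.1 (h.symm.le_ker my mx hm.2), sub_zero]

theorem qd (h0 : x * y - y * x ≠ 0) : Qd G (x * y - y * x) :=
  h.hx.of_le (h.qe h.hx.1.mem_self h.hy.1.mem_self) h0 (h.dims h0).1

theorem mem (h0 : x * y - y * x ≠ 0) {a b : End k M} (ha : a ∈ E0 G x) (hb : b ∈ E0 G y) :
    a * b - b * a ∈ E0 G (x * y - y * x) := by
  obtain ⟨-, e1, -, e2⟩ := h.dims h0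
  refine mem_E0 (h.qd h0).1.1 (h.qe ha hb) ?_ fun m hm => ?_
  · rw [e1]; rintro _ ⟨m, rfl⟩
    exact sub_mem (Submodule.mem_sup_left (h.range_le ha hb ⟨m, rfl⟩)) (Submodule.mem_sup_right (h.symm.range_le hb ha ⟨m, rfl⟩))
  · rw [e2] at hm
    rw [LinearMap.mem_ker, LinearMap.sub_apply, LinearMap.mem_ker.1 (h.le_ker ha hb hm.1),
      LinearMap.mem_ker.1 (h.symm.le_ker hb ha hm.2), sub_zero]

theorem ne (h0 : x * y - y * x ≠ 0) {a b : End k M} (ha : a ∈ E0 G x) (a0 : a ≠ 0) (hb : b ∈ E0 G y) (b0 : b ≠ 0) :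
    a * b - b * a ≠ 0 := fun e => by
  have e := sub_eq_zero.1 e
  have h1 : a * b = 0 := LinearMap.range_eq_bot.1 (eq_bot_iff.2 ((h.dims h0).2.2.1 ▸ le_inf (h.range_le ha hb)
    (e ▸ h.symm.range_le hb ha)))
  obtain ⟨-, r1, k1⟩ := h.hx.of_mem ha a0
  obtain ⟨-, r2, k2⟩ := h.hy.of_mem hb b0
  exact h0 (by rw [mul_eq_zero_of_le r2.ge (mul_eq_zero_of_ker k1.le h1),
    mul_eq_zero_of_le r1.ge (mul_eq_zero_of_ker k2.le (e ▸ h1)), sub_zero])

theorem n3 (h0 : x * y - y * x ≠ 0) {b : End k M} (hb : b ∈ E0 G y) : b ∈ N3 (x * y - y * x) := by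
  have mx := h.hx.1.mem_self
  have my := h.hy.1.mem_self
  obtain ⟨-, e1, -, e2⟩ := h.dims h0
  refine ⟨by rw [sub_mul, mul_assoc, E0_mul my hb, h.bab y my x mx b hb]; simp,
    by rw [mul_sub, ← mul_assoc, ← mul_assoc, E0_mul hb my, h.bab b hb x mx y my]; simp, fun m hm => ?_⟩
  obtain ⟨_, ⟨u, rfl⟩, v, hv, rfl⟩ := Submodule.mem_sup.1 (e2.le hm).1
  rw [e1, map_add, LinearMap.mem_ker.1 (hb.2.2.1 hv), add_zero]
  exact Submodule.mem_sup_right (h.symm.range_le hb mx ⟨u, rfl⟩)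

theorem n3' (h0 : x * y - y * x ≠ 0) {a : End k M} (ha : a ∈ E0 G x) : a ∈ N3 (x * y - y * x) := by
  rw [← N3_neg, neg_sub]; exact h.symm.n3 (sub_ne_zero.2 (sub_ne_zero.1 h0).symm) ha

/-- the commutator map -/
def cm (h0 : x * y - y * x ≠ 0) {a : End k M} (ha : a ∈ E0 G x) : E0 G y →ₗ[k] E0 G (x * y - y * x) :=
  (LinearMap.mulLeft k a - LinearMap.mulRight k a).restrict fun _ hb => h.mem h0 ha hb

theorem cm_inj (h0 : x * y - y * x ≠ 0) {a : End k M} (ha : a ∈ E0 G x) (a0 : a ≠ 0) : Function.Injective (h.cm h0 ha) :=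
  (injective_iff_map_eq_zero _).2 fun b e => Subtype.ext (by
    by_contra b0; exact h.ne h0 ha a0 b.2 b0 (congrArg Subtype.val e))

theorem dim_le (h0 : x * y - y * x ≠ 0) : finrank k (E0 G y) ≤ finrank k (E0 G (x * y - y * x)) :=
  LinearMap.finrank_le_finrank_of_injective (h.cm_inj h0 h.hx.1.mem_self h.hx.2.1)

theorem cmt {a b : End k M} (ha : a ∈ E0 G x) (hb : b ∈ E0 G y) :
    un1 a ha.1.1 * un1 b hb.1.1 * (un1 a ha.1.1)⁻¹ * (un1 b hb.1.1)⁻¹ = un1 _ (h.qe ha hb).1 :=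
  Units.ext (cmt_un1 ha.1.1 hb.1.1 (h.aba a ha b hb a ha) (h.bab b hb a ha b hb))

theorem cm_of (h0 : ∀ a ∈ E0 G x, ∀ b ∈ E0 G y, a * b - b * a = 0) : Cm (EG G x) (EG G y) := fun a ha b hb => by
  replace ha := exists_of_EG ha
  obtain ⟨a, ha, rfl⟩ := ha
  replace hb := exists_of_EG hb
  obtain ⟨b, hb, rfl⟩ := hb
  rw [← mul_inv_eq_iff_eq_mul, ← mul_inv_eq_one, h.cmt ha hb, un1_eq_one]; exact h0 a ha b hb

end NP

section Main
variable (h2 : (2 : k) ≠ 0) (h3 : Nat.card k ≠ 3)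
include h2 h3

theorem Qd.tri' (hx : Qd G x) (hy : Qd G y) : (x * y * x = 0 ∧ y * x * y = 0) ∨ Opp x y := by
  have k1 : ∀ {x y : End k M}, y * y = 0 → J (x * y + y * x) y → J x y := fun {x y} h hj m hm => hj m (by
    rw [LinearMap.add_apply, Module.End.mul_apply, Module.End.mul_apply, hm, ← Module.End.mul_apply y, h]; simp)
  rcases hx.dich h2 h3 hy.1 with a | a
  · refine Or.inl ⟨a, (hy.dich h2 h3 hx.1).resolve_right fun b => hx.2.1 ?_⟩
    rw [add_comm] at b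
    have := (b.symm hx.1.1 hy.1.1 (hx.rk_eq hy).le).eq_zero (z := 1) (by rw [mul_one, add_mul, a, mul_assoc, hx.1.1]; simp)
    rwa [mul_one] at this
  · rw [add_comm] at a
    have b := a.symm hy.1.1 hx.1.1 (hy.rk_eq hx).le
    exact Or.inr ⟨k1 hy.1.1 (by rwa [add_comm]), k1 hx.1.1 a⟩

theorem Qd.np (hx : Qd G x) (hy : Qd G y) (h : x * y * x = 0) : NP G x y := by
  have key : ∀ {x y : End k M}, Qd G x → Qd G y → x * y * x = 0 →
      ∀ a ∈ E0 G x, ∀ b ∈ E0 G y, ∀ a' ∈ E0 G x, a * b * a' = 0 := fun {x y} hx hy h a ha b hb a' ha' => by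
    by_cases b0 : b = 0
    · simp [b0]
    have hb' := (hy.of_mem hb b0).1
    rcases hx.tri' h2 h3 hb' with e | e
    · exact mul_eq_zero_of_le ha'.2.1 (by rw [mul_assoc]; exact mul_eq_zero_of_ker ha.2.2.1 (mz3 e.1))
    · exact absurd h ((e.of_mem hx hb' hx.1.mem_self hx.2.1 (hy.E0_eq hb b0 ▸ hy.1.mem_self) hy.2.1).ne hx.2.1)
  exact ⟨hx, hy, key hx hy h, key hy hx ((hx.tri' h2 h3 hy).resolve_right fun e => e.ne hx.2.1 h).2⟩

theorem Qd.tri (hx : Qd G x) (hy : Qd G y) : NP G x y ∨ Opp x y :=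
  (hx.tri' h2 h3 hy).imp_left fun e => hx.np h2 h3 hy e.1

theorem Opp.partner (h : Opp x y) (hx : Qd G x) (hy : Qd G y) {a : End k M} (ha : a ∈ E0 G x) (a0 : a ≠ 0) :
    ∃ b ∈ E0 G y, MU a b :=
  (hx.of_mem ha a0).1.partner h2 h3 hy ((h.of_mem hx hy ha a0 hy.1.mem_self hy.2.1).ne a0)

theorem Opp.ex (h : Opp x y) (hx : Qd G x) (hy : Qd G y) {a : (End k M)ˣ} (ha : a ∈ EG G x) (a1 : a ≠ 1) :
    ∃ b ∈ EG G y, b ≠ 1 ∧ b⁻¹ • EG G x = a⁻¹ • EG G y ∧ b • EG G x = a • EG G y := by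
  replace ha := exists_of_EG ha
  obtain ⟨a, ha, rfl⟩ := ha
  have a0 := mt un1_eq_one.2 a1
  obtain ⟨b, hb, mu⟩ := h.partner h2 h3 hx hy ha a0
  have b0 := mu.ne a0
  rw [← EG_congr (hx.E0_eq ha a0), ← EG_congr (hy.E0_eq hb b0)]
  refine ⟨_, un1_mem_EG hb.1.mem_self, mt un1_eq_one.1 b0, ?_, ?_⟩
  · rw [EG_cj (G.inv_mem hb.1.un1_mem), EG_cj (G.inv_mem ha.1.un1_mem), mu.cj2, EG_congr E0_neg]
  · rw [EG_cj hb.1.un1_mem, EG_cj ha.1.un1_mem, mu.cj1, EG_congr E0_neg]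

theorem Opp.r1 (h : Opp x y) (hx : Qd G x) (hy : Qd G y) : R1 (EG G x) (EG G y) := by
  refine ⟨fun e => h.ne hx.2.1 ?_, EG_cm.nilpotent, EG_cm.nilpotent, fun a ha a1 => ?_, fun a ha a1 => ?_⟩
  · have : un1 y hy.1.1 ∈ EG G x := e ▸ un1_mem_EG hy.1.mem_self
    rw [E0_mul hx.1.mem_self (by simpa [mem_EG] using this), zero_mul]
  · obtain ⟨b, hb, b1, e, -⟩ := h.ex h2 h3 hx hy ha a1
    exact ⟨b, hb, b1, e⟩
  · obtain ⟨b, hb, b1, e, -⟩ := h.symm.ex h2 h3 hy hx ha a1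
    exact ⟨b, hb, b1, e⟩

theorem Opp.sp (h : Opp x y) (hx : Qd G x) (hy : Qd G y) : Sp (EG G x) (EG G y) :=
  (h.r1 h2 h3 hx hy).special_of_inv fun a ha a1 c hc e => by
    obtain ⟨b, hb, -, e1, e2⟩ := h.ex h2 h3 hx hy ha a1
    rw [(h.r1 h2 h3 hx hy).symm.inj hc (Subgroup.inv_mem _ hb) (e.trans e1.symm), inv_inv, e2]

theorem Opp.not_un (h : Opp x y) (hx : Qd G x) (hy : Qd G y) : ¬ Un k (EG G x ⊔ EG G y) := by
  obtain ⟨b, hb, mu⟩ := h.partner h2 h3 hx hy hx.1.mem_self hx.2.1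
  exact mu.not_un hx.2.1 (Subgroup.mem_sup_left (un1_mem_EG hx.1.mem_self)) (Subgroup.mem_sup_right (un1_mem_EG hb))

theorem NU.ni (hG : NU G) (hx : Qd G x) : ∃ y, Qd G y ∧ MU x y := by
  by_contra hc
  let W : Set (Subgroup (End k M)ˣ) := {A | ∃ x, Qd G x ∧ (∀ y, Qd G y → x * y * x = 0) ∧ A = EG G x}
  have i : ∀ g ∈ G, ∀ A ∈ W, g • A ∈ W := by
    rintro g hg _ ⟨z, hz, h, rfl⟩
    refine ⟨_, hz.conj hg, fun y hy => ?_, EG_cj hg z⟩
    have : cj g z * y * cj g z = cj g (z * cj g⁻¹ y * z) := by simp [cj, mul_assoc]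
    rw [this, h _ (hy.conj (G.inv_mem hg))]; simp [cj]
  have := hG (sSup W) (sSup_le (by rintro _ ⟨z, -, -, rfl⟩; exact EG_le)) (un_sSup (by
    rintro _ ⟨z, hz, h, rfl⟩ _ ⟨w, hw, -, rfl⟩; exact (hz.np h2 h3 hw (h w hw)).un) (by
    rintro _ ⟨z, -, -, rfl⟩ B hB a ha; exact i a (EG_le ha) B hB))
    fun g hg => smul_sSup_eq (i g hg) (i _ (G.inv_mem hg))
  refine hx.2.1 (un1_eq_one.1 (Subgroup.mem_bot.1 (this ▸ le_sSup (s := W) ⟨x, hx, fun y hy => ?_, rfl⟩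
    (un1_mem_EG hx.1.mem_self))))
  by_contra h
  obtain ⟨z, hz, mu⟩ := hx.partner h2 h3 hy h
  exact hc ⟨z, (hy.of_mem hz (mu.ne hx.2.1)).1, mu⟩

theorem NU.dim_le (hG : NU G) {d : End k M} (hd : Qd G d) (hy : Qd G y) (hn : y ∈ N3 d) :
    finrank k (E0 G d) ≤ finrank k (E0 G y) := by
  obtain ⟨e, he, mu⟩ := hG.ni h2 h3 hd
  rw [mu.finrank_eq hd.1 he.1]
  rcases hy.tri h2 h3 he with h | h
  · have a1 := h.bab e he.1.mem_self y hy.1.mem_self e he.1.mem_self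
    have a2 : (1 - (d * e + e * d)) * y * (1 - (d * e + e * d)) = 0 := LinearMap.ext fun m => by
      obtain ⟨m', e'⟩ := hn.2.2 ((1 - (d * e + e * d)) m) (by
        have : d * (1 - (d * e + e * d)) = 0 := by mus mu; abel
        exact LinearMap.congr_fun this m)
      have : (1 - (d * e + e * d)) * d = 0 := by mus mu; abel
      rw [Module.End.mul_apply, Module.End.mul_apply, ← e']
      exact LinearMap.congr_fun this m'
    have a3 : cj (un1 d mu.aa)⁻¹ (cj (un1 e mu.bb) y) = -(y * e - e * y) := by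
      revert a2
      simp only [cj, un1_val, un1_inv, inv_inv, mul_add, add_mul, mul_sub, sub_mul, mul_assoc, mul_one, one_mul, hn.1, hn.2.1,
        mz2 hn.1, mz2 hn.2.1, mz3 a1, mz3' a1, mul_zero, zero_mul]
      intro a2
      linear_combination (norm := abel) a2
    have h0 : y * e - e * y ≠ 0 := fun h0 => hy.2.1 (by
      rw [h0, neg_zero] at a3
      exact cj_eq_zero (cj_eq_zero a3))
    refine (h.dim_le h0).trans ?_
    rw [← E0_neg, ← a3, finrank_E0_cj (G.inv_mem hd.1.un1_mem), finrank_E0_cj he.1.un1_mem]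
  · obtain ⟨b, hb, mu'⟩ := h.partner h2 h3 hy he hy.1.mem_self hy.2.1
    rw [mu'.finrank_eq hy.1 hb.1, he.E0_eq hb (mu'.ne hy.2.1)]

theorem NP.surj (h : NP G x y) (hG : NU G) (h0 : x * y - y * x ≠ 0) {a : End k M} (ha : a ∈ E0 G x) (a0 : a ≠ 0)
    {d : End k M} (hd : d ∈ E0 G (x * y - y * x)) : ∃ b ∈ E0 G y, d = a * b - b * a := by
  obtain ⟨b, e⟩ := (LinearMap.injective_iff_surjective_of_finrank_eq_finrank (le_antisymm (h.dim_le h0)
    (hG.dim_le h2 h3 (h.qd h0) h.hy (h.n3 h0 h.hy.1.mem_self)))).1 (h.cm_inj h0 ha a0) ⟨d, hd⟩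
  exact ⟨b, b.2, (congrArg Subtype.val e).symm⟩

theorem NP.cl1 (h : NP G x y) (hG : NU G) (h0 : x * y - y * x ≠ 0) {a : (End k M)ˣ} (ha : a ∈ EG G x) (a1 : a ≠ 1) :
    Subgroup.closure ((fun b => a * b * a⁻¹ * b⁻¹) '' (EG G y : Set (End k M)ˣ)) = EG G (x * y - y * x) := by
  replace ha := exists_of_EG ha
  obtain ⟨a, ha, rfl⟩ := ha
  refine le_antisymm ((Subgroup.closure_le _).2 ?_) fun g hg => ?_
  · rintro _ ⟨b, hb, rfl⟩
    replace hb := exists_of_EG hb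
    obtain ⟨b, hb, rfl⟩ := hb
    simp only [h.cmt ha hb]
    exact un1_mem_EG (h.mem h0 ha hb)
  · obtain ⟨d, hd, rfl⟩ := exists_of_EG hg
    obtain ⟨b, hb, rfl⟩ := h.surj h2 h3 hG h0 ha (mt un1_eq_one.2 a1) hd
    exact Subgroup.subset_closure ⟨_, un1_mem_EG hb, h.cmt ha hb⟩

theorem NP.cl2 (h : NP G x y) (hG : NU G) (h0 : x * y - y * x ≠ 0) {b : (End k M)ˣ} (hb : b ∈ EG G y) (b1 : b ≠ 1) :
    Subgroup.closure ((fun a => a * b * a⁻¹ * b⁻¹) '' (EG G x : Set (End k M)ˣ)) = EG G (x * y - y * x) := by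
  rw [← EG_congr (E0_neg (x := x * y - y * x)), neg_sub, ← h.symm.cl1 h2 h3 hG (sub_ne_zero.2 (sub_ne_zero.1 h0).symm) hb b1,
    ← Subgroup.closure_inv]
  congr 1
  ext g
  constructor
  · rintro ⟨a, ha, e⟩; exact ⟨a, ha, by rw [← inv_inv g, ← e]; simp [mul_assoc]⟩
  · rintro ⟨a, ha, rfl⟩; exact ⟨a, ha, by simp [mul_assoc]⟩

theorem NP.cmt_eq (h : NP G x y) (hG : NU G) (h0 : x * y - y * x ≠ 0) : ⁅EG G x, EG G y⁆ = EG G (x * y - y * x) := by
  refine le_antisymm (Subgroup.commutator_le.2 fun a ha b hb => ?_) ?_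
  · by_cases a1 : a = 1
    · simp [a1]
    · exact h.cl1 h2 h3 hG h0 ha a1 ▸ Subgroup.subset_closure ⟨b, hb, rfl⟩
  · rw [← h.cl1 h2 h3 hG h0 (un1_mem_EG h.hx.1.mem_self) (mt un1_eq_one.1 h.hx.2.1), Subgroup.closure_le]
    rintro _ ⟨b, hb, rfl⟩
    exact cmt_mem (un1_mem_EG h.hx.1.mem_self) hb

omit h2 h3 in
theorem NP.le_N3 (h : NP G x y) (h0 : x * y - y * x ≠ 0) : EG G x ⊔ EG G y ≤ oneAdd _ (N3_mul (x * y - y * x)) :=
  sup_le (fun _ ha => h.n3' h0 ha) fun _ hb => h.n3 h0 hb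

omit h2 h3 in
theorem comm_of_N3 {d : End k M} (hd : Qd G d) {c g : (End k M)ˣ} (hc : c ∈ EG G d) (hg : g ∈ oneAdd _ (N3_mul d)) :
    c * g = g * c := by
  have h1 := mul_eq_zero_of_ker hc.2.2.1 hg.1
  have h2 := mul_eq_zero_of_le hc.2.1 hg.2.1
  refine Units.ext ?_
  simp only [Units.val_mul]
  linear_combination (norm := noncomm_ring) h1 - h2

theorem NP.t3 (h : NP G x y) (hG : NU G) (h0 : x * y - y * x ≠ 0) : T3 (quadraticRootSubgroups G) (EG G x) (EG G y) := by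
  rw [T3, RootCommutatorCase, h.cmt_eq h2 h3 hG h0]
  exact ⟨mem_sig.2 ⟨_, h.qd h0, rfl⟩, fun c hc g hg => comm_of_N3 (h.qd h0) hc (h.le_N3 h0 hg),
    fun a ha a1 => h.cl1 h2 h3 hG h0 ha a1, fun b hb b1 => h.cl2 h2 h3 hG h0 hb b1⟩

omit h2 h3 in
theorem fixed_EG (hx : QE k G x) : fixedSubmodule (EG G x) = LinearMap.ker x :=
  le_antisymm (iInf₂_le_of_le _ (un1_mem_EG hx.mem_self) (by simp)) (le_iInf₂ fun _ hg => hg.2.2.1)

omit h2 h3 in
theorem comm_EG (hx : QE k G x) : commutatorSubmodule (EG G x) = LinearMap.range x :=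
  le_antisymm (iSup₂_le fun _ hg => hg.2.1) (le_iSup₂_of_le _ (un1_mem_EG hx.mem_self) (by simp))

theorem NP.core (h : NP G x y) (hG : NU G) (h0 : x * y - y * x ≠ 0) :
    ((EG G x ⊔ EG G y : Subgroup (End k M)ˣ) : Set (End k M)ˣ) ⊆ quadraticUnipotentCore G ⁅EG G x, EG G y⁆ := by
  intro g hg
  have hn := h.le_N3 h0 hg
  rw [h.cmt_eq h2 h3 hG h0, quadraticUnipotentCore, fixed_EG (h.qd h0).1, comm_EG (h.qd h0).1]
  refine ⟨sup_le EG_le EG_le hg, smul_eq_iff.1 (smul_eq_of_comm fun c hc => (comm_of_N3 (h.qd h0) hc hn).symm),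
    fun m => LinearMap.congr_fun hn.1 m, fun m hm => hn.2.2 m hm, ?_⟩
  rintro _ ⟨m, rfl⟩
  exact sub_eq_zero.1 (LinearMap.congr_fun hn.2.1 m)

theorem NP.cm_or (h : NP G x y) : Cm (EG G x) (EG G y) ∨
    ∃ a b, NP G a b ∧ a * b - b * a ≠ 0 ∧ EG G a = EG G x ∧ EG G b = EG G y := by
  by_cases c : ∀ a ∈ E0 G x, ∀ b ∈ E0 G y, a * b - b * a = 0
  · exact Or.inl (h.cm_of c)
  push Not at c
  obtain ⟨a, ha, b, hb, h0⟩ := c
  have a0 : a ≠ 0 := fun e => h0 (by simp [e])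
  have b0 : b ≠ 0 := fun e => h0 (by simp [e])
  exact Or.inr ⟨a, b, h.of_mem ha a0 hb b0, h0, EG_congr (h.hx.E0_eq ha a0), EG_congr (h.hy.E0_eq hb b0)⟩

theorem NU.tri (hG : NU G) {A B : Subgroup (End k M)ˣ} (hA : A ∈ quadraticRootSubgroups G)
    (hB : B ∈ quadraticRootSubgroups G) : (Cm A B ∧ Un k (A ⊔ B)) ∨
      (∃ x y, Qd G x ∧ Qd G y ∧ Opp x y ∧ A = EG G x ∧ B = EG G y) ∨
      ∃ x y, NP G x y ∧ x * y - y * x ≠ 0 ∧ A = EG G x ∧ B = EG G y := by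
  obtain ⟨x, hx, rfl⟩ := mem_sig.1 hA
  obtain ⟨y, hy, rfl⟩ := mem_sig.1 hB
  rcases hx.tri h2 h3 hy with h | h
  · rcases h.cm_or h2 h3 with c | ⟨a, b, c, h0, e1, e2⟩
    · exact Or.inl ⟨c, h.un⟩
    · exact Or.inr (Or.inr ⟨a, b, c, h0, e1.symm, e2.symm⟩)
  · exact Or.inr (Or.inl ⟨x, y, hx, hy, h, rfl, rfl⟩)

end Main

end Cfsg.Agent.Root
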