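import Mathlib
import Cfsg.Agent.Lib.Root.QP4
import Cfsg.Agent.Lib.Root.Loc

/-! The structure of quadratic pairs. -/

set_option autoImplicit false
set_option linter.unusedSectionVars false

namespace Cfsg.Agent.Root
open Cfsg Module

theorem three_lt_card {k : Type*} [Field k] (h2 : (2 : k) ≠ 0) (h3 : Nat.card k ≠ 3) : 3 < ENat.card k := by
  obtain ⟨s, s0, s1⟩ := exists_sq_ne h2 h3
  have h1 : (1 : k) ≠ -1 := fun e => h2 (by linear_combination e)
  have a1 : s ≠ 1 := fun e => s1 (by simp [e])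
  have a2 : s ≠ -1 := fun e => s1 (by simp [e])
  have := ENat.card_le_card_of_injective (f := (![0, 1, -1, s] : Fin 4 → k)) fun i j => by
    fin_cases i <;> fin_cases j <;> simp [h1, h1.symm, s0, s0.symm, a1, a1.symm, a2, a2.symm]
  exact lt_of_lt_of_le (by simp; norm_num) this

theorem QE.mono {k E : Type*} [Field k] [Ring E] [Algebra k E] {G H : Subgroup Eˣ} {x : E} (h : QE k G x) (hle : G ≤ H) :
    QE k H x := ⟨h.1, fun c => by obtain ⟨g, hg, e⟩ := h.2 c; exact ⟨g, hle hg, e⟩⟩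

universe u
variable {k : Type u} [Field k] {M : Type*} [AddCommGroup M] [Module k M] [FiniteDimensional k M]
  {G : Subgroup (End k M)ˣ} {x y : End k M}

/-- null elements -/
def Null (G : Subgroup (End k M)ˣ) : Submodule k (End k M) where
  carrier := {y | ∀ x, Qd G x → x * y * x = 0}
  zero_mem' := fun _ _ => by simp
  add_mem' := fun ha hb x hx => by rw [mul_add, add_mul, ha x hx, hb x hx, add_zero]
  smul_mem' := fun c a ha x hx => by rw [mul_smul_comm, smul_mul_assoc, ha x hx, smul_zero]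

theorem null_cj (h : y ∈ Null G) {g : (End k M)ˣ} (hg : g ∈ G) : cj g y ∈ Null G := fun x hx => by
  have : x * cj g y * x = cj g (cj g⁻¹ x * y * cj g⁻¹ x) := by simp [cj, mul_assoc]
  rw [this, h _ (hx.conj (G.inv_mem hg))]; simp [cj]

theorem rk_comm_le (h : y * x * y = 0) : rk (x * y - y * x) ≤ rk x := by
  have b1 : LinearMap.range (x * y - y * x) ≤ (LinearMap.range x ⊓ LinearMap.ker y) ⊔ LinearMap.range (y * x) := by
    rintro _ ⟨m, rfl⟩
    exact sub_mem (Submodule.mem_sup_left ⟨⟨_, rfl⟩, LinearMap.congr_fun h m⟩) (Submodule.mem_sup_right ⟨m, rfl⟩)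
  have a1 := Submodule.finrank_mono b1
  have a2 := Submodule.finrank_add_le_finrank_add_finrank (LinearMap.range x ⊓ LinearMap.ker y) (LinearMap.range (y * x))
  have a3 := rk_add_inf y x
  unfold rk at *
  omega

/-- the subgroup generated by the null quadratic elements -/
def GN (G : Subgroup (End k M)ˣ) : Subgroup (End k M)ˣ :=
  Subgroup.closure {g | QE k G ((g : End k M) - 1) ∧ (g : End k M) - 1 ∈ Null G}

theorem un1_mem_GN (hy : QE k G y) (hn : y ∈ Null G) : un1 y hy.1 ∈ GN G := Subgroup.subset_closure (by simpa using ⟨hy, hn⟩)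

theorem eq_un1 {g : (End k M)ˣ} (h : ((g : End k M) - 1) * (g - 1) = 0) : g = un1 _ h := Units.ext (by simp)

theorem GN_le : GN G ≤ G := (Subgroup.closure_le _).2 fun g hg => eq_un1 hg.1.1 ▸ hg.1.un1_mem

theorem qe_of_forall {H : Subgroup (End k M)ˣ} (h : y * y = 0) (hc : ∀ c : k, un1 (c • y) (by simp [h]) ∈ H) : QE k H y :=
  ⟨h, fun c => ⟨_, hc c, rfl⟩⟩

theorem NU.of_cent (hG : NU G) {H : Subgroup (End k M)ˣ} (hle : H ≤ G)
    (h : G ≤ H ⊔ Subgroup.centralizer (H : Set (End k M)ˣ)) : NU H := fun N hN hu hn =>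
  hG N (hN.trans hle) hu fun g hg => smul_of_sup hn (fun c hc => smul_eq_of_comm fun x hx => (hc x (hN hx)).symm) g (h hg)

theorem exists_qd (hy : QE k G y) (h0 : y ≠ 0) : ∃ x, Qd G x := by
  obtain ⟨x, hx, hm⟩ := (measure rk).wf.has_min {y | QE k G y ∧ y ≠ 0} ⟨y, hy, h0⟩
  exact ⟨x, hx.1, hx.2, fun z hz z0 => not_lt.1 (hm z ⟨hz, z0⟩)⟩

variable (h2 : (2 : k) ≠ 0) (h3 : Nat.card k ≠ 3) (hG : NU G)
include h2 h3 hG

theorem null_small (hx : Qd G x) (hy : QE k G y) (hn : y ∈ Null G) (hr : rk y ≤ rk x) : y = 0 := by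
  by_contra h0
  obtain ⟨z, hz, mu⟩ := hG.ni h2 h3 (hx.of_le hy h0 hr)
  exact hz.2.1 (by rw [← mu.bab, ← mul_assoc, hn z hz])

theorem null_comm (hx : Qd G x) (hy : QE k G y) (hn : y ∈ Null G) : x * y = y * x := by
  have h1 := hn x hx
  have xx := hx.1.1
  have yy := hy.1
  have q1 := hx.1.conj1 hy
  have q2 := hx.1.conj1 hy.neg
  have p1 : (1 + y) * x * (1 - y) * ((1 + -y) * x * (1 - -y)) = 0 := by
    simp [mul_add, add_mul, mul_sub, sub_mul, mul_assoc, xx, yy, mz2 xx, mz2 yy, mz3 h1, mz3' h1]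
  have p2 : (1 + -y) * x * (1 - -y) * ((1 + y) * x * (1 - y)) = 0 := by
    simp [mul_add, add_mul, mul_sub, sub_mul, mul_assoc, xx, yy, mz2 xx, mz2 yy, mz3 h1, mz3' h1]
  have q3 : QE k G (x * y - y * x) := by
    convert (q2.sub q1 p2 p1).smul 2⁻¹ using 1
    simp only [mul_add, add_mul, mul_sub, sub_mul, mul_assoc, mul_one, one_mul, mul_neg, neg_mul]
    match_scalars <;> field_simp <;> ring
  have q4 : QE k G (y * x * y) := by
    convert hx.1.sub ((q1.add q2 p1 p2).smul 2⁻¹)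
      (by simp [mul_add, add_mul, mul_sub, sub_mul, mul_assoc, xx, yy, mz2 xx, mz2 yy, mz3 h1, mz3' h1])
      (by simp [mul_add, add_mul, mul_sub, sub_mul, mul_assoc, xx, yy, mz2 xx, mz2 yy, mz3 h1, mz3' h1]) using 1
    simp only [mul_add, add_mul, mul_sub, sub_mul, mul_assoc, mul_one, one_mul, mul_neg, neg_mul]
    match_scalars <;> field_simp <;> ring
  have n1 : y * x * y ∈ Null G := by
    convert Submodule.smul_mem _ (2⁻¹ : k) (sub_mem hn (null_cj hn q3.un1_mem)) using 1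
    simp only [cj, un1_val, un1_inv, mul_add, add_mul, mul_sub, sub_mul, mul_assoc, mul_one, one_mul, yy, mz2 yy, mz3 h1,
      mz3' h1, mul_zero, zero_mul]
    match_scalars <;> field_simp <;> ring
  have e1 := null_small h2 h3 hG hx q4 n1 ((rk_mul_le' _ _).trans (rk_mul_le _ _))
  refine sub_eq_zero.1 (null_small h2 h3 hG hx q3 ?_ (rk_comm_le e1))
  convert sub_mem (null_cj hn hx.1.un1_mem) hn using 1
  simp only [cj, un1_val, un1_inv, mul_add, add_mul, mul_sub, sub_mul, mul_one, one_mul, h1]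
  abel

theorem cm_GN : Cm (gen (quadraticRootSubgroups G)) (GN G) := by
  refine cm_gen fun A hA => Cm.symm (cm_iff_le.2 ((Subgroup.closure_le _).2 fun g hg a ha => ?_))
  obtain ⟨x, hx, rfl⟩ := mem_sig.1 hA
  by_cases a0 : (a : End k M) - 1 = 0
  · rw [show a = 1 from Units.ext (sub_eq_zero.1 a0)]; simp
  have := null_comm h2 h3 hG (hx.of_mem ha a0).1 hg.1 hg.2
  refine Units.ext ?_
  simp only [Units.val_mul]
  linear_combination (norm := noncomm_ring) this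

omit hG in
theorem un1_mem_sup (n : ℕ) : ∀ y (hy : QE k G y), rk y < n → un1 y hy.1 ∈ gen (quadraticRootSubgroups G) ⊔ GN G := by
  induction n with
  | zero => intro _ _ h; omega
  | succ n ih =>
    intro y hy hr
    by_cases hn : y ∈ Null G
    · exact Subgroup.mem_sup_right (un1_mem_GN hy hn)
    obtain ⟨x, hx⟩ := not_forall.1 hn
    obtain ⟨hx, h0⟩ := Classical.not_imp.1 hx
    obtain ⟨z, hz, q, e1, -, r⟩ := hx.split h2 h3 hy h0
    have : un1 y hy.1 = un1 z hz.1.1 * un1 _ q.1 := Units.ext (by simp [mul_add, add_mul, mul_sub, e1, hz.1.1])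
    rw [this]
    exact mul_mem (Subgroup.mem_sup_left (le_gen (mem_sig.2 ⟨z, hz, rfl⟩) (un1_mem_EG hz.1.mem_self))) (ih _ q (by omega))

omit hG in
theorem sup_GN (hQ : Subgroup.closure (quadraticElements G) = G) : gen (quadraticRootSubgroups G) ⊔ GN G = G := by
  refine le_antisymm (sup_le (iSup₂_le fun A hA => ?_) GN_le) (hQ.ge.trans ((Subgroup.closure_le _).2 fun g hg => ?_))
  · obtain ⟨x, -, rfl⟩ := mem_sig.1 hA; exact EG_le
  · have := (mem_quad.1 hg).1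
    rw [eq_un1 this.1]; exact un1_mem_sup h2 h3 _ _ this (Nat.lt_succ_self _)

theorem qe_GN : QE k (GN G) y ↔ QE k G y ∧ y ∈ Null G := by
  refine ⟨fun h => ⟨h.mono GN_le, fun x hx => ?_⟩,
    fun h => qe_of_forall h.1.1 fun c => un1_mem_GN (h.1.smul c) (Submodule.smul_mem _ c h.2)⟩
  have := congrArg Units.val (cm_GN h2 h3 hG _ (le_gen (mem_sig.2 ⟨x, hx, rfl⟩) (un1_mem_EG hx.1.mem_self)) _ h.un1_mem)
  simp only [Units.val_mul, un1_val] at this
  have e : x * y = y * x := by linear_combination (norm := noncomm_ring) this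
  rw [e, mul_assoc, hx.1.1, mul_zero]

theorem lar_sig : LAR (quadraticRootSubgroups G) := by
  refine ⟨fun A hA => ?_, fun A hA e => ?_, fun A hA B hB b hb => ?_, fun A hA B hB => ?_⟩
  · obtain ⟨x, -, rfl⟩ := mem_sig.1 hA; exact EG_cm
  · obtain ⟨x, hx, rfl⟩ := mem_sig.1 hA
    exact hx.2.1 (un1_eq_one.1 (Subgroup.mem_bot.1 (e ▸ un1_mem_EG hx.1.mem_self)))
  · obtain ⟨x, hx, rfl⟩ := mem_sig.1 hA
    obtain ⟨y, -, rfl⟩ := mem_sig.1 hB
    exact mem_sig.2 ⟨_, hx.conj (EG_le hb), EG_cj (EG_le hb) x⟩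
  · rcases hG.tri h2 h3 hA hB with ⟨c, -⟩ | ⟨x, y, hx, hy, o, rfl, rfl⟩ | ⟨x, y, o, h0, rfl, rfl⟩
    exacts [Or.inl c, Or.inr (Or.inl (o.r1 h2 h3 hx hy)), Or.inr (Or.inr (o.t3 h2 h3 hG h0))]

theorem un_or_opp {A B : Subgroup (End k M)ˣ} (hA : A ∈ quadraticRootSubgroups G) (hB : B ∈ quadraticRootSubgroups G) :
    (Un k (A ⊔ B) ∧ ¬ R1 A B) ∨ ∃ x y, Qd G x ∧ Qd G y ∧ Opp x y ∧ A = EG G x ∧ B = EG G y := by
  rcases hG.tri h2 h3 hA hB with ⟨c, u⟩ | h | ⟨x, y, o, h0, rfl, rfl⟩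
  · exact Or.inl ⟨u, fun r => r.not_cm c⟩
  · exact Or.inr h
  · exact Or.inl ⟨o.un, fun r => r.not_nilpotent ((Subgroup.isNilpotent_iff_lowerCentralSeries _).2
      ⟨2, cl2_iff.2 ((o.t3 h2 h3 hG h0).cl2 EG_cm EG_cm)⟩)⟩

theorem ni_sig (A : Subgroup (End k M)ˣ) (hA : A ∈ quadraticRootSubgroups G) : NI (quadraticRootSubgroups G) A := by
  obtain ⟨x, hx, rfl⟩ := mem_sig.1 hA
  obtain ⟨y, hy, mu⟩ := hG.ni h2 h3 hx
  refine ⟨_, mem_sig.2 ⟨y, hy, rfl⟩, Opp.r1 h2 h3 ((hx.tri' h2 h3 hy).resolve_left fun e => hx.2.1 ?_) hx hy⟩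
  rw [← mu.aba, ← mul_assoc, e.1]

theorem subpair {A B : Subgroup (End k M)ˣ} (hA : A ∈ quadraticRootSubgroups G) (hB : B ∈ quadraticRootSubgroups G)
    (r : R1 A B) : ∃ A₀ B₀ : Subgroup (End k M)ˣ, A₀ ≤ A ∧ B₀ ≤ B ∧
      ∃ (k₁ : Type u) (_ : Field k₁), 3 < ENat.card k₁ ∧ IsPSL2PairOver k₁ A₀ B₀ := by
  obtain ⟨x, y, hx, hy, o, rfl, rfl⟩ := (un_or_opp h2 h3 hG hA hB).resolve_left fun h => h.2 r
  obtain ⟨K, _, _, lam, φ, -, -, -, hφ, -, -, e1, e2⟩ := hx.hom h2 h3 hy (o.ne hx.2.1)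
  refine ⟨(upperUnipotentSL2 K).map φ, (lowerUnipotentSL2 K).map φ, ?_, ?_, K, inferInstance,
    (three_lt_card h2 h3).trans_le (ENat.card_le_card_of_injective (algebraMap k K).injective), φ,
    by rw [← Subgroup.map_sup, sl2_sup, MonoidHom.range_eq_map], ?_, rfl, rfl⟩
  · rintro _ ⟨g, hg, rfl⟩; obtain ⟨t, rfl⟩ := mem_upper.1 hg; exact e1 t
  · rintro _ ⟨g, hg, rfl⟩; obtain ⟨t, rfl⟩ := mem_lower.1 hg; exact e2 t
  · rw [(MonoidHom.ker_eq_bot_iff φ).2 hφ]; exact bot_le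

theorem le_cmt {A B : Subgroup (End k M)ˣ} (hA : A ∈ quadraticRootSubgroups G) (hB : B ∈ quadraticRootSubgroups G)
    (r : R1 A B) : A ≤ ⁅A ⊔ B, A ⊔ B⁆ := by
  obtain ⟨x, y, hx, hy, o, rfl, rfl⟩ := (un_or_opp h2 h3 hG hA hB).resolve_left fun h => h.2 r
  refine (o.sp h2 h3 hx hy).le_comm EG_cm ((three_lt_card h2 h3).trans_le (ENat.card_le_card_of_injective
    (f := fun c : k => (⟨_, un1_mem_EG (Submodule.smul_mem _ c hx.1.mem_self)⟩ : EG G x)) fun a b e => ?_))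
  have := congrArg (fun g : EG G x => (g.1 : End k M)) e
  exact smul_left_injective k hx.2.1 (by simpa using this)

theorem finite_cpt : (cpt (quadraticRootSubgroups G) '' quadraticRootSubgroups G).Finite := by
  have L := lar_sig h2 h3 hG
  have hF := ni_sig h2 h3 hG
  have : ∀ D : cpt (quadraticRootSubgroups G) '' quadraticRootSubgroups G, ∃ x y, QE k G x ∧ QE k G y ∧ x * y - y * x ≠ 0 ∧
      EG G x ∈ D.1 ∧ EG G y ∈ D.1 := by
    rintro ⟨_, A, hA, rfl⟩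
    obtain ⟨B, hB, r⟩ := hF A hA
    obtain ⟨x, y, hx, hy, o, rfl, rfl⟩ := (un_or_opp h2 h3 hG hA hB).resolve_left fun h => h.2 r
    exact ⟨x, y, hx.1, hy.1, fun e => o.ne hx.2.1 (by rw [sub_eq_zero.1 e, mul_assoc, hx.1.1, mul_zero]), ⟨hA, .refl⟩,
      ⟨hB, .single ⟨hA, hB, r⟩⟩⟩
  choose x y hx hy h0 m1 m2 using this
  refine LinearIndependent.finite (R := k) (f := x) (linearIndependent_iff'.2 fun s g hs j hj => ?_)
  have := congrArg (LinearMap.mulRight k (y j) - LinearMap.mulLeft k (y j)) hs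
  rw [map_sum, map_zero, Finset.sum_eq_single j (fun i _ hi => ?_) (fun h => absurd hj h), _root_.map_smul] at this
  · exact (smul_eq_zero.1 this).resolve_right (h0 j)
  · obtain ⟨A, hA, eA⟩ := i.2
    obtain ⟨B, hB, eB⟩ := j.2
    have c : Cm (gen i.1) (gen j.1) := by
      rw [← eA, ← eB]; exact L.cm_cpt hF fun e => hi (Subtype.ext (eA.symm.trans (e.trans eB)))
    have := congrArg Units.val (c _ (le_gen (m1 i) (un1_mem_EG (hx i).mem_self)) _
      (le_gen (m2 j) (un1_mem_EG (hy j).mem_self)))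
    simp only [Units.val_mul, un1_val] at this
    rw [_root_.map_smul, smul_eq_zero]; right
    simp only [LinearMap.sub_apply, LinearMap.mulRight_apply, LinearMap.mulLeft_apply]
    linear_combination (norm := noncomm_ring) this

variable (hQ : Subgroup.closure (quadraticElements G) = G) {A : Subgroup (End k M)ˣ} (hA : A ∈ quadraticRootSubgroups G)
include hQ hA

theorem le_sup_cent : G ≤ gen (cpt (quadraticRootSubgroups G) A) ⊔
    Subgroup.centralizer (gen (cpt (quadraticRootSubgroups G) A) : Set (End k M)ˣ) := by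
  have L := lar_sig h2 h3 hG
  refine (sup_GN h2 h3 hQ).ge.trans (sup_le (iSup₂_le fun B hB => ?_) (le_sup_of_le_right (cm_iff_le.1
    ((cm_GN h2 h3 hG).symm.mono le_rfl (iSup₂_le fun B hB => le_gen hB.1)))))
  by_cases h : B ∈ cpt (quadraticRootSubgroups G) A
  · exact le_sup_of_le_left (le_gen h)
  · refine le_sup_of_le_right (cm_iff_le.1 (cm_gen fun C hC => L.cm_of_not (ni_sig h2 h3 hG) hC.1 hB ?_).symm)
    rwa [cpt_eq hC]

omit h2 h3 hG hQ hA in
theorem gen_cpt_le : gen (cpt (quadraticRootSubgroups G) A) ≤ G := iSup₂_le fun B hB => by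
  obtain ⟨x, -, rfl⟩ := mem_sig.1 hB.1; exact EG_le

theorem normal_cpt {N : Subgroup (End k M)ˣ} (hN : N ≤ gen (cpt (quadraticRootSubgroups G) A))
    (hn : ∀ g ∈ gen (cpt (quadraticRootSubgroups G) A), g • N = N) :
    N = gen (cpt (quadraticRootSubgroups G) A) ∨ Cm N (gen (cpt (quadraticRootSubgroups G) A)) := by
  have L := (lar_sig h2 h3 hG).cpt (ni_sig h2 h3 hG) A
  have nu := hG.of_cent gen_cpt_le (le_sup_cent h2 h3 hG hQ hA)
  set D := cpt (quadraticRootSubgroups G) A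
  have cj : ∀ g ∈ gen D, ∀ n ∈ N, g * n * g⁻¹ ∈ N := fun g hg n h => hn g hg ▸ conj_mem h g
  by_cases h : ∃ B ∈ D, ∃ n ∈ N, R1 B (n • B)
  · obtain ⟨B, hB, n, hn', r⟩ := h
    have h1 : B ⊔ n • B ≤ B ⊔ N := sup_le le_sup_left (smul_le le_sup_left (Subgroup.mem_sup_right hn'))
    have h4 : B ≤ N := (le_cmt h2 h3 hG hB.1 (L.smul' hB (hN hn')).1 r).trans ((Subgroup.commutator_mono h1 h1).trans
      (cmt_sup_le (L.cm B hB) fun b hb => hn b (le_gen hB hb)))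
    refine Or.inl (le_antisymm hN (iSup₂_le fun C hC => ?_))
    obtain ⟨g, hg, rfl⟩ := conj_of_cpt ((reach_symm' hB.2).trans hC.2)
    rw [cpt_eq hB] at hg
    rw [← hn g hg]; exact smul_mono h4 g
  push Not at h
  have u1 : ∀ B ∈ D, Un k ⁅N, B⁆ := fun B hB => by
    refine (un_sSup (W := {C | ∃ n ∈ N, C = n • B}) ?_ ?_).mono (Subgroup.commutator_le.2 fun n hn' b hb => ?_)
    · rintro _ ⟨n, a1, rfl⟩ _ ⟨n', a2, rfl⟩
      have b1 := L.smul' hB (hN a1)
      refine ((un_or_opp h2 h3 hG b1.1 (L.smul' hB (hN a2)).1).resolve_right ?_).1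
      rintro ⟨x, y, hx, hy, o, e1, e2⟩
      refine h _ b1 (n' * n⁻¹) (mul_mem a2 (inv_mem a1)) ?_
      rw [smul_smul, inv_mul_cancel_right, e2, e1]; exact o.r1 h2 h3 hx hy
    · rintro _ ⟨n, a1, rfl⟩ _ ⟨n', a2, rfl⟩ a ha
      obtain ⟨b, hb, rfl⟩ := exists_of_mem_smul ha
      refine ⟨n * (b * (n⁻¹ * n') * b⁻¹), mul_mem a1 (cj b (le_gen hB hb) _ (mul_mem (inv_mem a1) a2)), ?_⟩
      conv_rhs => rw [← smul_of_mem hb]
      rw [smul_smul, smul_smul]; congr 1; group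
    · rw [commutatorElement_def]
      exact mul_mem (le_sSup (s := {C | ∃ n ∈ N, C = n • B}) ⟨n, hn', rfl⟩ (conj_mem hb n))
        (le_sSup (s := {C | ∃ n ∈ N, C = n • B}) ⟨1, one_mem _, (one_smul _ _).symm⟩ (inv_mem hb))
  have l1 : ∀ B ∈ D, ⁅N, B⁆ ≤ N := fun B hB => Subgroup.commutator_le.2 fun n hn' b hb => by
    rw [commutatorElement_def, mul_assoc, mul_assoc, ← mul_assoc b]
    exact mul_mem hn' (cj b (le_gen hB hb) _ (inv_mem hn'))
  have i : ∀ g ∈ gen D, ∀ C ∈ {C | ∃ B ∈ D, C = ⁅N, B⁆}, g • C ∈ {C | ∃ B ∈ D, C = ⁅N, B⁆} := by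
    rintro g hg _ ⟨B, hB, rfl⟩
    exact ⟨_, L.smul' hB hg, by rw [smul_cmt, hn g hg]⟩
  have := nu (sSup {C | ∃ B ∈ D, C = ⁅N, B⁆}) (sSup_le (by rintro _ ⟨B, hB, rfl⟩; exact (l1 B hB).trans hN))
    (un_sSup (by
      rintro _ ⟨B, hB, rfl⟩ _ ⟨C, hC, rfl⟩
      exact (u1 B hB).sup_of_norm (u1 C hC) fun u hu =>
        smul_eq_iff.2 (Subgroup.normalizer_commutator_ge_left _ _ (l1 B hB hu))) (by
      rintro _ ⟨B, hB, rfl⟩ C hC a ha; exact i a (hN (l1 B hB ha)) C hC))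
    fun g hg => smul_sSup_eq (i g hg) (i _ (inv_mem hg))
  exact Or.inr (cm_gen fun B hB => (cm_iff.1 (eq_bot_iff.2 (this ▸ le_sSup ⟨B, hB, rfl⟩))).symm).symm

theorem quasi_cpt : IsQuasisimple (gen (cpt (quadraticRootSubgroups G) A)) := by
  have hF := ni_sig h2 h3 hG
  have hi := Subgroup.subtype_injective (gen (cpt (quadraticRootSubgroups G) A))
  have ht : (⊤ : Subgroup (gen (cpt (quadraticRootSubgroups G) A))).map (Subgroup.subtype _) = _ :=
    (MonoidHom.range_eq_map _).symm.trans (Subgroup.range_subtype _)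
  refine quasi_of (Subgroup.isPerfect_iff.2 (le_antisymm (cmt_le_sup _ _ |>.trans (by simp)) (iSup₂_le fun B hB => ?_)))
    (fun e => ?_) fun N hN => ?_
  · obtain ⟨C, hC, r⟩ := hF B hB.1
    have : B ⊔ C ≤ gen (cpt (quadraticRootSubgroups G) A) := sup_le (le_gen hB) (le_gen ⟨hC, hB.2.tail ⟨hB.1, hC, r⟩⟩)
    exact (le_cmt h2 h3 hG hB.1 hC r).trans (Subgroup.commutator_mono this this)
  · obtain ⟨C, hC, r⟩ := hF A hA
    refine r.not_cm fun a ha c hc => ?_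
    exact congrArg Subtype.val (Subgroup.mem_center_iff.1 (e.ge (Subgroup.mem_top ⟨c, le_gen (S := cpt _ A)
      ⟨hC, .single ⟨hA, hC, r⟩⟩ hc⟩)) ⟨a, le_gen (S := cpt _ A) ⟨hA, .refl⟩ ha⟩)
  · rcases normal_cpt h2 h3 hG hQ hA (N := N.map (Subgroup.subtype _)) (Subgroup.map_subtype_le N) (fun g hg => by
      have := map_smul (Subgroup.subtype _) ⟨g, hg⟩ N
      rw [normal_smul hN] at this; exact this.symm) with e | c
    · exact Or.inl (Subgroup.map_injective hi (e.trans ht.symm))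
    · exact Or.inr fun n hn => Subgroup.mem_center_iff.2 fun g => Subtype.ext (c _ ⟨n, hn, rfl⟩ _ g.2).symm

omit hA in
theorem nu_GN : NU (GN G) := hG.of_cent GN_le ((sup_GN h2 h3 hQ).ge.trans
  (sup_le (le_sup_of_le_right (cm_iff_le.1 (cm_GN h2 h3 hG))) le_sup_left))

omit hG hQ hA in
theorem qp_struct (n : ℕ) : ∀ G : Subgroup (End k M)ˣ, finrank k (Submodule.span k {x | QE k G x}) < n → NU G →
    Subgroup.closure (quadraticElements G) = G → ∃ 𝒢 : Set (Subgroup (End k M)ˣ), 𝒢.Finite ∧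
      (∀ H ∈ 𝒢, H ≤ G ∧ (∀ g ∈ G, g • H = H) ∧ IsQuasisimple H ∧ Subgroup.closure (quadraticElements G ∩ H) = H) ∧
      (∀ H ∈ 𝒢, ∀ H' ∈ 𝒢, H ≠ H' → Cm H H') ∧ sSup 𝒢 = G ∧
      ∀ y, QE k G y → y ≠ 0 → ∃ H ∈ 𝒢, ∃ z, QE k H z ∧ z ≠ 0 ∧ QE k G (y - z) ∧ z * y = 0 ∧ y * z = 0 ∧
        rk (y - z) < rk y := by
  induction n with
  | zero => intro _ h; omega
  | succ n ih =>
  intro G hr hG hQ
  by_cases h0 : ∀ y, QE k G y → y = 0
  · refine ⟨∅, Set.finite_empty, by simp, by simp, ?_, fun y hy h => absurd (h0 y hy) h⟩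
    rw [← hQ, sSup_empty, eq_comm, Subgroup.closure_eq_bot_iff]
    exact fun g hg => absurd (h0 _ (mem_quad.1 hg).1) (mem_quad.1 hg).2
  push Not at h0
  obtain ⟨y, hy, h0⟩ := h0
  obtain ⟨x, hx⟩ := exists_qd hy h0
  have L := lar_sig h2 h3 hG
  have hF := ni_sig h2 h3 hG
  have cm := cm_GN h2 h3 hG
  have qm : ∀ {H : Subgroup (End k M)ˣ}, H ≤ G → quadraticElements H ⊆ quadraticElements G := fun h g hg =>
    mem_quad.2 ⟨(mem_quad.1 hg).1.mono h, (mem_quad.1 hg).2⟩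
  obtain ⟨𝒢, a1, a2, a3, a4, a5⟩ := ih (GN G) (lt_of_lt_of_le (Submodule.finrank_lt_finrank_of_lt (lt_of_le_of_ne
    (Submodule.span_mono fun z hz => QE.mono hz GN_le) fun e => by
      have : x ∈ Null G := Submodule.span_le.2 (fun z hz => ((qe_GN h2 h3 hG).1 hz).2)
        (e.ge (Submodule.subset_span hx.1))
      exact hx.2.1 (null_small h2 h3 hG hx hx.1 this le_rfl))) (Nat.lt_succ_iff.1 hr)) (nu_GN h2 h3 hG hQ)
    (le_antisymm ((Subgroup.closure_le _).2 fun g hg => hg.1) ((Subgroup.closure_le _).2 fun g hg => by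
      by_cases g0 : (g : End k M) - 1 = 0
      · rw [show g = 1 from Units.ext (sub_eq_zero.1 g0)]; exact one_mem _
      · exact Subgroup.subset_closure (mem_quad.2 ⟨(qe_GN h2 h3 hG).2 hg, g0⟩)))
  have gl : ∀ A, gen (cpt (quadraticRootSubgroups G) A) ≤ gen (quadraticRootSubgroups G) := fun A =>
    iSup₂_le fun B hB => le_gen hB.1
  have qe : ∀ A, ∀ x, EG G x ∈ cpt (quadraticRootSubgroups G) A → ∀ z ∈ E0 G x,
      QE k (gen (cpt (quadraticRootSubgroups G) A)) z := fun A x hx z hz =>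
    qe_of_forall hz.1.1 fun c => le_gen hx (un1_mem_EG (Submodule.smul_mem _ c hz))
  refine ⟨gen '' (cpt (quadraticRootSubgroups G) '' quadraticRootSubgroups G) ∪ 𝒢,
    ((finite_cpt h2 h3 hG).image _).union a1, ?_, ?_, ?_, fun y hy h0 => ?_⟩
  · rintro H (⟨_, ⟨A, hA, rfl⟩, rfl⟩ | hH)
    · refine ⟨gen_cpt_le, fun g hg => smul_of_sup (fun a ha => smul_of_mem ha)
        (fun c hc => smul_eq_of_comm fun x hx => (hc x hx).symm) g (le_sup_cent h2 h3 hG hQ hA hg),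
        quasi_cpt h2 h3 hG hQ hA, le_antisymm ((Subgroup.closure_le _).2 Set.inter_subset_right) (iSup₂_le fun B hB g hg => ?_)⟩
      by_cases g0 : (g : End k M) - 1 = 0
      · rw [show g = 1 from Units.ext (sub_eq_zero.1 g0)]; exact one_mem _
      · obtain ⟨x, -, rfl⟩ := mem_sig.1 hB.1
        exact Subgroup.subset_closure ⟨mem_quad.2 ⟨hg.1, g0⟩, le_gen hB hg⟩
    · obtain ⟨b1, b2, b3, b4⟩ := a2 H hH
      refine ⟨b1.trans GN_le, fun g hg => smul_of_sup (fun c hc => smul_eq_of_comm fun x hx => cm c hc x (b1 hx)) b2 g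
        ((sup_GN h2 h3 hQ).ge hg), b3, le_antisymm ((Subgroup.closure_le _).2 Set.inter_subset_right)
        (b4.ge.trans (Subgroup.closure_mono (Set.inter_subset_inter_left _ (qm GN_le))))⟩
  · rintro H (⟨_, ⟨A, hA, rfl⟩, rfl⟩ | hH) H' (⟨_, ⟨B, hB, rfl⟩, rfl⟩ | hH') hne
    · exact L.cm_cpt hF fun e => hne (by rw [e])
    · exact cm.mono (gl A) (a2 H' hH').1
    · exact (cm.mono (gl B) (a2 H hH).1).symm
    · exact a3 H hH H' hH' hne
  · rw [sSup_union, a4]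
    refine Eq.trans ?_ (sup_GN h2 h3 hQ)
    congr 1
    refine le_antisymm (sSup_le ?_) (iSup₂_le fun A hA => le_sSup_of_le ⟨_, ⟨A, hA, rfl⟩, rfl⟩ (le_gen ⟨hA, .refl⟩))
    rintro _ ⟨_, ⟨A, -, rfl⟩, rfl⟩; exact gl A
  · by_cases hn : y ∈ Null G
    · obtain ⟨H, hH, z, c1, c2, c3, c4⟩ := a5 y ((qe_GN h2 h3 hG).2 ⟨hy, hn⟩) h0
      exact ⟨H, Or.inr hH, z, c1, c2, c3.mono GN_le, c4⟩
    obtain ⟨x, hx⟩ := not_forall.1 hn
    obtain ⟨hx, h0⟩ := Classical.not_imp.1 hx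
    obtain ⟨z, hz, q⟩ := hx.split h2 h3 hy h0
    have := mem_sig.2 ⟨z, hz, rfl⟩
    exact ⟨_, Or.inl ⟨_, ⟨_, this, rfl⟩, rfl⟩, z, qe _ z ⟨this, .refl⟩ z hz.1.mem_self, hz.2.1, q⟩

end Cfsg.Agent.Root
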