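import Mathlib
import Cfsg.Prelude.Def_RootSubgroups
import Cfsg.Prelude.Def_QuasithinSetup
import Cfsg.Agent.Lib.Transfer.Invol
import Cfsg.Agent.Lib.Solv.Cores

/-! Root involutions: elementary properties. -/

set_option autoImplicit false
set_option linter.unusedSectionVars false

namespace Cfsg.Agent.Root
open Cfsg Subgroup

variable {G : Type*} [Group G] [Finite G]

/-- sets of root involutions -/
abbrev RI (D : Set G) : Prop := IsRootInvolutionSet D

/-- pairs with product of order four -/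
def V4 (D : Set G) (a b : G) : Prop := a ∈ D ∧ b ∈ D ∧ orderOf (a * b) = 4

theorem ord_swap (a b : G) : orderOf (b * a) = orderOf (a * b) :=
  SemiconjBy.orderOf_eq a (by simp [SemiconjBy, mul_assoc])

theorem ord_conj (g a b : G) : orderOf (g * a * g⁻¹ * (g * b * g⁻¹)) = orderOf (a * b) :=
  (SemiconjBy.orderOf_eq g (by simp [SemiconjBy, mul_assoc])).symm

theorem odd_one {a : G} {n : ℕ} (ho : Odd (orderOf a)) (h : a ^ 2 ^ n = 1) : a = 1 :=
  orderOf_eq_one_iff.1 (Nat.eq_one_of_self_dvd_coprime (orderOf_dvd_of_pow_eq_one h) ho)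
where Nat.eq_one_of_self_dvd_coprime {m n : ℕ} (h : m ∣ 2 ^ n) (ho : Odd m) : m = 1 :=
  Nat.Coprime.eq_one_of_dvd (Nat.Coprime.pow_right n (Nat.coprime_two_right.2 ho)) h

theorem OddAdj.symm' {D : Set G} {a b : G} (h : OddAdj D a b) : OddAdj D b a :=
  ⟨h.2.1, h.1, h.2.2.1.symm, by rw [ord_swap]; exact h.2.2.2⟩

theorem V4.symm {D : Set G} {a b : G} (h : V4 D a b) : V4 D b a := ⟨h.2.1, h.1, by rw [ord_swap]; exact h.2.2⟩

theorem ProdAdj.symm' {D : Set G} {a b : G} (h : ProdAdj D a b) : ProdAdj D b a :=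
  ⟨h.2.1, h.1, h.2.2.1.symm, h.2.2.2.1.symm, h.2.2.2.1 ▸ h.2.2.2.2⟩

theorem mem_X {D : Set G} {a b : G} (ha : a ∈ D) : b ∈ productPartners D a ↔ ProdAdj D a b :=
  ⟨fun h => ⟨ha, h.1.1, h.1.2.2.symm, h.1.2.1.symm, h.1.2.1 ▸ h.2⟩,
    fun h => ⟨⟨h.2.1, h.2.2.2.1.symm, h.2.2.1.symm⟩, h.2.2.2.1 ▸ h.2.2.2.2⟩⟩

theorem mem_A {D : Set G} {a b : G} (ha : a ∈ D) : b ∈ oddPartners D a ↔ OddAdj D a b :=
  ⟨fun h => ⟨ha, h.1, h.2.1.symm, h.2.2⟩, fun h => ⟨h.2.1, h.2.2.1.symm, h.2.2.2⟩⟩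

theorem oreach_symm {D : Set G} {a b : G} (r : Relation.ReflTransGen (OddAdj D) a b) :
    Relation.ReflTransGen (OddAdj D) b a := by
  induction r with
  | refl => exact .refl
  | tail _ k ih => exact .head (OddAdj.symm' k) ih

namespace RI
variable {D : Set G} (h : RI D) {a b c d x y z : G}
include h

theorem sq (ha : a ∈ D) : a * a = 1 := by rw [← pow_two, ← h.1 a ha, pow_orderOf_eq_one]
theorem sq' (ha : a ∈ D) (x : G) : a * (a * x) = x := by rw [← mul_assoc, h.sq ha, one_mul]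
theorem inv (ha : a ∈ D) : a⁻¹ = a := inv_eq_of_mul_eq_one_right (h.sq ha)
theorem ne (ha : a ∈ D) : a ≠ 1 := fun e => by simpa [e] using h.1 a ha
theorem conj (ha : a ∈ D) (g : G) : g * a * g⁻¹ ∈ D := h.3 a ha g
theorem conj' (ha : a ∈ D) (hb : b ∈ D) : b * a * b ∈ D := by simpa [h.inv hb] using h.conj ha b

theorem tri (ha : a ∈ D) (hb : b ∈ D) : a * b = b * a ∨ OddAdj D a b ∨ V4 D a b := by
  by_cases e : a = b
  · exact Or.inl (by rw [e])
  exact (h.4 a ha b hb).imp_right (Or.imp (fun o => ⟨ha, hb, e, o⟩) fun o => ⟨ha, hb, o.1⟩)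

theorem od_conj (o : OddAdj D a b) (g : G) : OddAdj D (g * a * g⁻¹) (g * b * g⁻¹) :=
  ⟨h.conj o.1 g, h.conj o.2.1 g, fun e => o.2.2.1 (by simpa using e), by rw [ord_conj]; exact o.2.2.2⟩

theorem od_conj' (o : OddAdj D a b) (hc : c ∈ D) : OddAdj D (c * a * c) (c * b * c) := by
  simpa [h.inv hc] using h.od_conj o c

theorem x_conj (o : ProdAdj D a b) (g : G) : ProdAdj D (g * a * g⁻¹) (g * b * g⁻¹) :=
  ⟨h.conj o.1 g, h.conj o.2.1 g, fun e => o.2.2.1 (by simpa using e), by simp [mul_assoc, ← mul_assoc a, o.2.2.2.1],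
    by simpa [mul_assoc] using h.conj o.2.2.2.2 g⟩

theorem x_conj' (o : ProdAdj D a b) (hc : c ∈ D) : ProdAdj D (c * a * c) (c * b * c) := by
  simpa [h.inv hc] using h.x_conj o c

theorem mul_ne (ha : a ∈ D) (hne : a ≠ b) : a * b ≠ 1 := fun e => hne (by rw [← h.inv ha]; exact inv_eq_of_mul_eq_one_right e)

theorem sq_of_comm (ha : a ∈ D) (hb : b ∈ D) (c : a * b = b * a) : (a * b) ^ 2 = 1 := by
  rw [pow_two]; nth_rewrite 1 [c]; simp [mul_assoc, h.sq' ha, h.sq hb]

theorem od_not_comm (o : OddAdj D a b) : a * b ≠ b * a := fun c =>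
  h.mul_ne o.1 o.2.2.1 (odd_one (n := 1) o.2.2.2 (h.sq_of_comm o.1 o.2.1 c))

theorem od_not_v4 (o : OddAdj D a b) : ¬ V4 D a b := fun v => by have := o.2.2.2; rw [v.2.2] at this; exact absurd this (by decide)

theorem v4_not_comm (v : V4 D a b) : a * b ≠ b * a := fun c => by
  have := orderOf_dvd_of_pow_eq_one (h.sq_of_comm v.1 v.2.1 c)
  rw [v.2.2] at this; omega

theorem v4_pow (v : V4 D a b) : a * b * a * b * (a * b * a * b) = 1 := by
  have := pow_orderOf_eq_one (a * b)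
  rw [v.2.2] at this; rw [← this]; simp [pow_succ, mul_assoc]

theorem v4_mem (v : V4 D a b) : a * b * a * b ∈ D := by
  rcases h.4 a v.1 b v.2.1 with c | o | o
  · exact absurd c (h.v4_not_comm v)
  · rw [v.2.2] at o; exact absurd o (by decide)
  · simpa [pow_two, mul_assoc] using o.2

theorem v4_swap (v : V4 D a b) : b * a * b * a = a * b * a * b := by
  rw [← h.inv (h.v4_mem v)]; simp [mul_assoc, h.inv v.1, h.inv v.2.1]

theorem v4_comm (v : V4 D a b) : a * (a * b * a * b) = a * b * a * b * a := by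
  conv_rhs => rw [← h.v4_swap v]
  simp [mul_assoc, h.sq' v.1, h.sq v.1]

theorem v4_x (v : V4 D a b) : ProdAdj D a (a * b * a * b) :=
  ⟨v.1, h.v4_mem v, fun e => h.v4_not_comm v (by
      have : b * a * b = 1 := by simpa [mul_assoc] using e.symm
      exact absurd this (h.ne (h.conj' v.1 v.2.1))), h.v4_comm v,
    by simpa [mul_assoc, h.sq' v.1] using h.conj' v.1 v.2.1⟩

theorem v4_x' (v : V4 D a b) : ProdAdj D b (a * b * a * b) := h.v4_swap v ▸ h.v4_x v.symm

theorem x_mul (o : ProdAdj D a b) : ProdAdj D a (a * b) :=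
  ⟨o.1, o.2.2.2.2, fun e => h.ne o.2.1 (by simpa using e.symm), by rw [mul_assoc, ← o.2.2.2.1],
    by rw [h.sq' o.1]; exact o.2.1⟩

/-- an element with odd product with `a` does not commute with a line partner of `a` -/
theorem noc (o : OddAdj D a y) (l : ProdAdj D a b) : y * b ≠ b * y := fun c => by
  have c1 : Commute (y * a) b := (show Commute y b from c).mul_left l.2.2.2.1
  have oy : Odd (orderOf (y * a)) := (OddAdj.symm' o).2.2.2
  rcases h.tri o.2.1 l.2.2.2.2 with e | e | e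
  · refine h.od_not_comm o (mul_right_cancel (b := b) ?_)
    rw [mul_assoc, c, ← mul_assoc, ← e, mul_assoc]
  · refine h.ne l.2.1 (odd_one (n := 1) ?_ (by simpa [pow_two] using h.sq l.2.1))
    have : b = (y * a)⁻¹ * (y * (a * b)) := by group
    rw [this]
    refine Odd.of_dvd_nat (Odd.mul (by rwa [orderOf_inv]) e.2.2.2) ((Commute.orderOf_mul_dvd_mul_orderOf ?_))
    rw [← mul_assoc]; exact ((Commute.refl _).mul_right c1).inv_left
  · refine h.mul_ne o.2.1 o.2.2.1.symm (odd_one (n := 2) oy ?_)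
    have := pow_orderOf_eq_one (y * (a * b))
    rwa [e.2.2, ← mul_assoc, c1.mul_pow, show b ^ 4 = 1 by simp [pow_succ, h.sq l.2.1, mul_assoc], mul_one] at this

theorem v4_of (ha : a ∈ D) (hb : b ∈ D) (n1 : a * b ≠ b * a) (n2 : ¬ OddAdj D a b) : V4 D a b :=
  ((h.tri ha hb).resolve_left n1).resolve_left n2

theorem cmt_comm (ha : a ∈ D) (hb : b ∈ D) (n : ¬ OddAdj D a b) : a * (b * a * b) = b * a * b * a := by
  rcases h.tri ha hb with c | o | v
  · rw [← c]; simp [mul_assoc, h.sq hb]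
  · exact absurd o n
  · rw [h.v4_swap v]; simp [mul_assoc]

theorem line (l : ProdAdj D a b) (o : OddAdj D (a * b) d) : OddAdj D a d ∨ OddAdj D b d := by
  by_contra hc
  rw [not_or] at hc
  have hd := o.2.1
  have c1 := h.cmt_comm hd l.1 fun k => hc.1 (OddAdj.symm' k)
  have c2 := h.cmt_comm hd l.2.1 fun k => hc.2 (OddAdj.symm' k)
  have k1 : Commute (b * d * b) d := c2.symm
  have k2 : Commute (b * d * b) ((a * b) * d * (a * b)) := by
    have : Commute (b * d * b⁻¹) (b * (a * d * a) * b⁻¹) := (show Commute d _ from c1).conj b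
    rw [h.inv l.2.1] at this
    rw [l.2.2.2.1]; nth_rewrite 2 [← l.2.2.2.1]; simpa [mul_assoc] using this
  have k3 : Commute (a * b * d) (b * d * b) := Transfer.commute_of_commute_sq_of_odd o.2.2.2
    (by simpa [mul_assoc] using (k2.mul_right k1).symm)
  have k4 : Commute (a * b) (b * d * b) := by simpa [mul_assoc, h.sq hd] using k3.mul_left k1.symm
  refine h.od_not_comm o ?_
  have e1 : a * (d * b) = b * (d * a) := by
    have := k4.eq
    rw [mul_assoc, mul_assoc, h.sq' l.2.1, l.2.2.2.1, mul_assoc, mul_assoc, h.sq' l.2.1] at this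
    exact this
  calc a * b * d = b * (a * (d * b)) * b := by rw [l.2.2.2.1]; simp [mul_assoc, h.sq l.2.1]
    _ = d * (a * b) := by rw [e1]; simp [mul_assoc, h.sq' l.2.1]

theorem line' (l : ProdAdj D a b) (o : OddAdj D a d) : OddAdj D (a * b) d ∨ OddAdj D b d := by
  have := h.x_mul (ProdAdj.symm' l)
  rw [← l.2.2.2.1] at this
  exact h.line (ProdAdj.symm' this) (by simpa [mul_assoc, h.sq l.2.1] using o)

theorem top_ind {p : G → Prop} (h1 : ∀ d ∈ D, p d) (h0 : p 1) (h2 : ∀ x y, p x → p y → p (x * y)) (g : G) : p g := by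
  have : g ∈ closure D := h.2 ▸ mem_top g
  induction this using closure_induction with
  | mem x hx => exact h1 x hx
  | one => exact h0
  | mul x y _ _ a b => exact h2 x y a b
  | inv x hx a =>
    rw [← inv_one, ← pow_orderOf_eq_one x] at h0
    have : ∀ n, p (x ^ n) := fun n => by
      induction n with
      | zero => simpa using h0
      | succ n ih => rw [pow_succ]; exact h2 _ _ ih a
    rw [← zpow_neg_one, ← zpow_mod_orderOf]
    obtain ⟨n, e⟩ := Int.eq_ofNat_of_zero_le (Int.emod_nonneg (-1) (Nat.cast_ne_zero.2 (orderOf_pos x).ne'))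
    rw [e, zpow_natCast]; exact this n

theorem reach_conj (r : Relation.ReflTransGen (OddAdj D) a b) (g : G) :
    Relation.ReflTransGen (OddAdj D) (g * a * g⁻¹) (g * b * g⁻¹) :=
  r.lift (fun x => g * x * g⁻¹) fun _ _ k => h.od_conj k g

theorem reach_smul (o : OddAdj D a d) (g : G) : Relation.ReflTransGen (OddAdj D) a (g * a * g⁻¹) := by
  refine h.top_ind (p := fun g => Relation.ReflTransGen (OddAdj D) a (g * a * g⁻¹)) (fun e he => ?_) (by simp; rfl)
    (fun x y p q => p.trans (by simpa [mul_assoc] using h.reach_conj q x)) g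
  rw [h.inv he]
  rcases h.tri o.1 he with c | r | v
  · rw [← c, mul_assoc, h.sq he, mul_one]
  · exact .tail (.single r) (by simpa [mul_assoc, h.sq he] using h.od_conj' (OddAdj.symm' r) he)
  have e : a * (a * e * a * e) = e * a * e := by simp [mul_assoc, h.sq' o.1]
  rcases h.line' (h.v4_x v) o with r | r
  · exact .tail (.single o) (e ▸ OddAdj.symm' r)
  · have := h.od_conj' r he
    rw [(h.v4_x' v).2.2.2.1, mul_assoc _ _ _, h.sq he, mul_one] at this
    exact .tail (.tail (.tail (.single o) (OddAdj.symm' r)) this) (h.od_conj' (OddAdj.symm' o) he)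

theorem exists_swap (o : OddAdj D a b) : ∃ s ∈ D, s ∈ closure ({a, b} : Set G) ∧ s * a * s = b := by
  obtain ⟨v, h1, -, h3, c, -, rfl⟩ := Transfer.exists_invol_conj_of_odd (h.1 a o.1) (h.1 b o.2.1) o.2.2.2
  exact ⟨_, h.conj o.1 c, h1, by rwa [h.inv (h.conj o.1 c)] at h3⟩

theorem conj_of_reach (r : Relation.ReflTransGen (OddAdj D) a b) : ∃ g : G, b = g * a * g⁻¹ := by
  induction r with
  | refl => exact ⟨1, by simp⟩
  | tail _ k ih =>
    obtain ⟨g, rfl⟩ := ih
    obtain ⟨s, hs, -, e⟩ := h.exists_swap k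
    exact ⟨s * g, by rw [← e, mul_inv_rev, h.inv hs]; simp [mul_assoc]⟩

theorem pgroup_pair (ha : a ∈ D) (hb : b ∈ D) (n : ¬ OddAdj D a b) : IsPGroup 2 (closure ({a, b} : Set G)) := by
  refine Transfer.isPGroup_closure_invol (h.sq ha) (h.sq hb) (IsPGroup.of_card_dvd_pow (n := 2) ?_)
  rw [Nat.card_zpowers]
  rcases h.tri ha hb with c | o | v
  · exact (orderOf_dvd_of_pow_eq_one (h.sq_of_comm ha hb c)).trans (by norm_num)
  · exact absurd o n
  · rw [v.2.2]; norm_num

theorem not_od_of_mem {P : Subgroup G} (hP : IsPGroup 2 P) (ha : a ∈ P) (hb : b ∈ P) : ¬ OddAdj D a b := fun o =>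
  h.mul_ne o.1 o.2.2.1 (Transfer.eq_one_of_odd_of_mem hP (mul_mem ha hb) o.2.2.2)

/-- Baer-Suzuki inside a subgroup -/
theorem pgroup_closure {T : Set G} (hT : T ⊆ D) (h1 : ∀ a ∈ T, ∀ b ∈ T, a * b * a ∈ T)
    (h2 : ∀ a ∈ T, ∀ b ∈ T, ¬ OddAdj D a b) : IsPGroup 2 (closure T) := by
  have k : ∀ g ∈ closure T, ∀ b ∈ T, g * b * g⁻¹ ∈ T := fun g hg => by
    induction hg using closure_induction'' with
    | mem x hx => intro b hb; rw [h.inv (hT hx)]; exact h1 x hx b hb
    | inv_mem x hx => intro b hb; rw [inv_inv, h.inv (hT hx)]; exact h1 x hx b hb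
    | one => simp
    | mul x y _ _ p q => intro b hb; simpa [mul_assoc] using p _ (q b hb)
  have := Transfer.baer_suzuki_set (p := 2) (K := (closure T).subtype ⁻¹' T) (fun g x hx => k g g.2 x hx) fun x hx y hy => by
    have m : ∀ z : closure ({x, y} : Set (closure T)), ((closure T).subtype.comp (Subgroup.subtype _)) z ∈
        closure ({x.1, y.1} : Set G) := fun z => by
      have := mem_map_of_mem (closure T).subtype z.2
      rwa [MonoidHom.map_closure, Set.image_pair] at this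
    refine IsPGroup.of_injective (h.pgroup_pair (hT hx) (hT hy) (h2 _ hx _ hy))
      (((closure T).subtype.comp (Subgroup.subtype _)).codRestrict _ m) fun z w e => ?_
    exact Subtype.ext (Subtype.ext (congrArg (fun t : closure ({x.1, y.1} : Set G) => t.1) e))
  rw [closure_preimage_eq_top] at this
  exact this.of_equiv topEquiv

theorem x_reach (l : ProdAdj D a b) (o : OddAdj D a x) (o' : OddAdj D b y) : Relation.ReflTransGen (OddAdj D) a b := by
  rcases h.line' l o with r | r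
  · rcases h.line' (ProdAdj.symm' l) o' with r' | r'
    · rw [← l.2.2.2.1] at r'
      exact .tail (.tail (.tail (.single o) (OddAdj.symm' r)) r') (OddAdj.symm' o')
    · exact .tail (.single r') (OddAdj.symm' o')
  · exact .tail (.single o) (OddAdj.symm' r)

/-- the first step of the line dynamics -/
theorem step (o : OddAdj D a y) (l : ProdAdj D a b) (v : V4 D y b) : V4 D a (y * b * y * b) :=
  h.v4_of o.1 (h.v4_mem v) (h.noc (OddAdj.symm' o) (h.v4_x v)) fun k => h.noc k l (h.v4_x' v).2.2.2.1.symm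

theorem step_inj (o : OddAdj D a y) (l : ProdAdj D a b) (v : V4 D y b) (l' : ProdAdj D a c) (v' : V4 D y c)
    (e : y * b * y * b = y * c * y * c) : b = c := by
  have key : ∀ c, ProdAdj D a c → ¬ OddAdj D c y → b * c = c * b → (b * c) * y = y * (b * c) → b = c := fun c l' n cm e => by
    by_contra hne
    have o1 := (h.line' l o).resolve_right fun k => h.od_not_v4 (OddAdj.symm' k) v
    have o2 := (h.line' l' o).resolve_right n
    have : a * c = a * b * (b * c) := by simp [mul_assoc, h.sq' l.2.1]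
    have c1 : Commute (a * b * y) (b * c) :=
      (((show Commute a b from l.2.2.2.1).mul_right l'.2.2.2.1).mul_left
        ((Commute.refl b).mul_right cm)).mul_left e.symm
    refine h.mul_ne l.2.1 hne (odd_one (n := 1) ?_ (h.sq_of_comm l.2.1 l'.2.1 cm))
    have e2 : b * c = (a * b * y)⁻¹ * (a * c * y) := by
      rw [this, mul_assoc (a * b), e, ← mul_assoc]; simp [mul_assoc]
    rw [e2]
    refine Odd.of_dvd_nat (Odd.mul (by rw [orderOf_inv]; exact o1.2.2.2) o2.2.2.2) (Commute.orderOf_mul_dvd_mul_orderOf ?_)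
    rw [this, mul_assoc (a * b), e, ← mul_assoc]; exact ((Commute.refl _).mul_right c1).inv_left
  have e1 : b * y * b = c * y * c := by simpa [mul_assoc] using e
  have e2 : c * b * y = y * (c * b) := by
    calc c * b * y = c * (b * y * b) * b := by simp [mul_assoc, h.sq l.2.1]
      _ = y * (c * b) := by rw [e1]; simp [mul_assoc, h.sq' l'.2.1]
  have e3 : b * c * y = y * (b * c) := by
    have := (show Commute (c * b) y from e2).inv_left
    rwa [mul_inv_rev, h.inv l.2.1, h.inv l'.2.1] at this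
  rcases h.tri l.2.1 l'.2.1 with cm | k | k
  · exact key c l' (fun k => h.od_not_v4 (OddAdj.symm' k) v') cm e3
  · exact absurd l'.2.2.2.1.symm (h.noc k (ProdAdj.symm' l))
  · have l2 := h.x_conj' l l'.2.1
    rw [← l'.2.2.2.1, mul_assoc a, h.sq l'.2.1, mul_one] at l2
    have e4 : b * (c * b * c) * y = y * (b * (c * b * c)) := by
      simpa [mul_assoc] using ((show Commute (b * c) y from e3).mul_left e3).eq
    refine absurd (key _ l2 (fun o2 => ?_) (h.cmt_comm l.2.1 l'.2.1 fun o2 => h.od_not_v4 o2 k) e4) fun e5 => ?_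
    · have := h.x_mul (h.v4_x k)
      refine h.noc o2 (b := b * c * b * c) ?_ (by simpa [mul_assoc] using e4.symm)
      have t := h.x_conj' (h.v4_x k) l'.2.1
      rwa [(h.v4_x' k).2.2.2.1, mul_assoc _ c c, h.sq l'.2.1, mul_one] at t
    · exact h.v4_not_comm k (by nth_rewrite 1 [e5]; simp [mul_assoc, h.sq l'.2.1])

theorem step_surj (o : OddAdj D a y) (l : ProdAdj D a b) (v : V4 D y b) :
    ∃ c, ProdAdj D y c ∧ V4 D a c ∧ b * c = c * b ∧ a * c * a * c = b := by
  let S : G → G → Type _ := fun a y => {b // ProdAdj D a b ∧ V4 D y b}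
  haveI : ∀ a y, Finite (S a y) := fun _ _ => Subtype.finite
  let f : ∀ {a y}, OddAdj D a y → S a y → S y a := fun {a y} o b => ⟨_, h.v4_x b.2.2, h.step o b.2.1 b.2.2⟩
  have fi : ∀ {a y} (o : OddAdj D a y), Function.Injective (f o) := fun o b c e =>
    Subtype.ext (h.step_inj o b.2.1 b.2.2 c.2.1 c.2.2 (congrArg Subtype.val e))
  obtain ⟨c, e⟩ := Finite.surjective_of_injective ((fi (OddAdj.symm' o)).comp (fi o)) ⟨b, l, v⟩
  have e : a * (f o c).1 * a * (f o c).1 = b := congrArg Subtype.val e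
  exact ⟨_, (f o c).2.1, (f o c).2.2, e ▸ (h.v4_x' (f o c).2.2).2.2.2.1.symm, e⟩

theorem od_of_same (ha : a ∈ D) (e : ∀ z ∈ D, z * a = a * z ↔ z * b = b * z) (hb : b ∈ D) (o : OddAdj D a y) :
    OddAdj D b y := by
  by_contra n
  have v := h.v4_of o.2.1 hb (fun c => h.od_not_comm o ((e y o.2.1).2 c).symm) fun k => n (OddAdj.symm' k)
  exact h.noc (OddAdj.symm' o) (h.v4_x v) ((e _ (h.v4_mem v)).2 (h.v4_x' v).2.2.2.1.symm).symm

section Class
variable (hc : ∀ a ∈ D, ∀ b ∈ D, ∃ g : G, b = g * a * g⁻¹)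
include hc

theorem od_rev (ha : a ∈ D) (hb : b ∈ D) (l : ∀ y, OddAdj D a y → OddAdj D b y) : ∀ y, OddAdj D b y → OddAdj D a y := by
  obtain ⟨g, rfl⟩ := hc a ha b hb
  have : {y | OddAdj D a y} = {y | OddAdj D (g * a * g⁻¹) y} := Set.eq_of_subset_of_ncard_le l
    (Set.ncard_le_ncard_of_injOn (fun x => g⁻¹ * x * g) (fun x hx => by simpa [mul_assoc] using h.od_conj hx g⁻¹)
      (fun x _ y _ e => by simpa using e))
  exact fun y hy => this.ge hy

theorem ni (o : OddAdj D x y) (ha : a ∈ D) : ∃ z, OddAdj D a z := by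
  obtain ⟨g, rfl⟩ := hc x o.1 a ha
  exact ⟨_, h.od_conj o g⟩

theorem od_cmt (v : V4 D a x) (e : ∀ y, OddAdj D (x * a * x) y → OddAdj D a y) (y : G) :
    OddAdj D (a * x * a * x) y ↔ OddAdj D a y := by
  have l : ∀ y, OddAdj D (a * x * a * x) y → OddAdj D a y := fun y o =>
    (h.line' (ProdAdj.symm' (h.v4_x v)) o).elim (fun k => e y (by
      rwa [← h.v4_comm v, show a * (a * x * a * x) = x * a * x by simp [mul_assoc, h.sq' v.1]] at k)) id
  exact ⟨l y, h.od_rev hc (h.v4_mem v) v.1 l y⟩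

theorem comm_of_same (ha : a ∈ D) (hb : b ∈ D) (e : ∀ y, OddAdj D a y ↔ OddAdj D b y) : a * b = b * a := by
  let T : Set G := {b | b ∈ D ∧ ∀ y, OddAdj D a y ↔ OddAdj D b y}
  have no : ∀ u ∈ T, ∀ v ∈ T, ¬ OddAdj D u v := fun u hu v hv o => ((hv.2 v).1 ((hu.2 v).2 o)).2.2.1 rfl
  have cj : ∀ u ∈ T, ∀ v ∈ T, ∀ g : G, g * u * g⁻¹ ∈ T → g * v * g⁻¹ ∈ T := fun u hu v hv g k => ⟨h.conj hv.1 g, fun y => by
    rw [k.2]
    have : ∀ w, OddAdj D (g * w * g⁻¹) y ↔ OddAdj D w (g⁻¹ * y * g) := fun w =>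
      ⟨fun o => by simpa [mul_assoc] using h.od_conj o g⁻¹, fun o => by simpa [mul_assoc] using h.od_conj o g⟩
    rw [this, this, ← hu.2, ← hv.2]⟩
  have cj' : ∀ u ∈ T, ∀ v ∈ T, u * v * u ∈ T := fun u hu v hv => by
    simpa [h.inv hu.1] using cj u hu v hv u (by simpa using hu)
  have P := h.pgroup_closure (T := T) (fun _ k => k.1) cj' no
  by_contra hn
  have aT : a ∈ T := ⟨ha, fun _ => Iff.rfl⟩
  have bT : b ∈ T := ⟨hb, e⟩
  have v := h.v4_of ha hb hn (no a aT b bT)
  have cT : a * b * a * b ∈ T := ⟨h.v4_mem v, fun y => (h.od_cmt hc v (fun y => ((cj' b bT a aT).2 y).2) y).symm⟩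
  have le : closure T ≤ ⁅closure T, closure T⁆ := (closure_le _).2 fun u hu => by
    obtain ⟨g, rfl⟩ := hc _ cT.1 u hu.1
    have : g * (a * b * a * b) * g⁻¹ = g * a * g⁻¹ * (g * b * g⁻¹) * (g * a * g⁻¹)⁻¹ * (g * b * g⁻¹)⁻¹ := by
      simp [mul_assoc, h.inv ha, h.inv hb]
    rw [this]
    exact commutator_mem_commutator (subset_closure (cj _ cT a aT g hu)) (subset_closure (cj _ cT b bT g hu))
  haveI := P.isNilpotent
  haveI : Group.IsPerfect (closure T) := isPerfect_iff.2 (le_antisymm (Subgroup.commutator_le.2 fun x hx y hy => by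
    rw [commutatorElement_def]; exact mul_mem (mul_mem (mul_mem hx hy) (inv_mem hx)) (inv_mem hy)) le)
  haveI : Nontrivial (closure T) := ⟨⟨⟨a, subset_closure aT⟩, 1, fun e => h.ne ha (congrArg Subtype.val e)⟩⟩
  exact Group.IsPerfect.not_isNilpotent (G := closure T) inferInstance

theorem same_of_od (ha : a ∈ D) (hb : b ∈ D) (e : ∀ y, OddAdj D a y ↔ OddAdj D b y) (hx : x ∈ D) (c : x * a = a * x) :
    x * b = b * x := by
  by_contra hn
  have cj : ∀ y, OddAdj D (x * b * x) y ↔ OddAdj D b y := fun y => by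
    have : ∀ w, OddAdj D (x * w * x) y ↔ OddAdj D w (x * y * x) := fun w =>
      ⟨fun o => by simpa [mul_assoc, h.sq hx, h.sq' hx] using h.od_conj' o hx,
        fun o => by simpa [mul_assoc, h.sq hx, h.sq' hx] using h.od_conj' o hx⟩
    rw [this, ← e, ← this, c, mul_assoc, h.sq hx, mul_one, e]
  have v := h.v4_of hb hx (Ne.symm hn) fun o => h.od_not_comm ((e x).2 o) c.symm
  have e1 := h.od_cmt hc v fun y => (cj y).1
  obtain ⟨c, hc'⟩ : ∃ c, c = b * x * b * x := ⟨_, rfl⟩
  have l : ProdAdj D c x := hc' ▸ ProdAdj.symm' (h.v4_x' v)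
  have lb : ProdAdj D b c := hc' ▸ h.v4_x v
  rw [← hc'] at e1
  by_cases k : ∀ y, OddAdj D c y → OddAdj D x y
  · exact hn (h.comm_of_same hc hx hb fun y => ⟨fun o => (e1 y).1 (h.od_rev hc l.1 hx k y o), fun o => k y ((e1 y).2 o)⟩)
  push Not at k
  obtain ⟨y, o, n⟩ := k
  obtain ⟨g, -, vg, cg, eg⟩ := h.step_surj o l (h.v4_of o.2.1 hx (h.noc o l) fun k => n (OddAdj.symm' k))
  have hg := vg.2.1
  have xb : x * b * x = b * c := by rw [hc']; simp [mul_assoc, h.sq' hb]
  have n1 := h.cmt_comm hb hg fun k => h.od_not_v4 ((e1 g).2 k) vg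
  have n2 := h.cmt_comm lb.2.2.2.2 hg fun k => h.od_not_v4 ((e1 g).2 ((cj g).1 (xb ▸ k))) vg
  have gc : g * c * g = c * x := by rw [← eg]; simp [mul_assoc, h.sq' l.1]
  obtain ⟨u, hu⟩ : ∃ u, u = g * b * g := ⟨_, rfl⟩
  have e2 : g * (b * c) * g = u * (c * x) := by rw [hu, ← gc]; simp [mul_assoc, h.sq' hg]
  rw [e2] at n2
  rw [← hu] at n1
  have e3 : x * u * x = u * (c * x) := by
    rw [← e2, ← xb, hu]; simp only [mul_assoc]; rw [← cg, ← mul_assoc x g, cg, mul_assoc]
  have e4 : u * (c * x) = c * x * u := by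
    rw [← e2, ← gc, hu, lb.2.2.2.1]; simp [mul_assoc, h.sq' hg]
  have e5 : c * (u * c) = u * (c * x) := by
    rw [← e3]
    calc c * (u * c) = x * (c * x * u) * c := by rw [l.2.2.2.1]; simp [mul_assoc, h.sq' hx]
      _ = x * u * x := by rw [← e4, l.2.2.2.1]; simp [mul_assoc, h.sq l.1]
  have e6 : b * (u * c) = b * (u * (x * c)) := by
    calc b * (u * c) = b * (c * (u * c)) * x := by rw [e5]; simp [mul_assoc, h.sq hx]
      _ = u * (c * x) * (b * c) := by rw [← n2]; simp [mul_assoc]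
      _ = u * (c * (x * b * x)) * (x * c) := by simp [mul_assoc, h.sq' hx]
      _ = b * (u * (x * c)) := by rw [xb, lb.2.2.2.1, h.sq' l.1, ← n1, mul_assoc]
  exact h.ne hx (by simpa using e6)

end Class

end RI

end Cfsg.Agent.Root
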