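import Cfsg.Agent.Lib.Root.Quad

set_option autoImplicit false
set_option linter.unusedSectionVars false
set_option linter.style.haveILetI false

/-! Special rank one groups with abelian unipotent subgroups. -/

namespace Cfsg.Agent.Root

open Cfsg

/-- the swapping maps of a special Moufang set with abelian root group -/
structure SM (U : Type*) [AddCommGroup U] where
  T : Set (U → U)
  n : U → U → U
  n_mem : ∀ c, c ≠ 0 → n c ∈ T
  ne : ∀ τ ∈ T, ∀ s, s ≠ 0 → τ s ≠ 0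
  inj : ∀ τ ∈ T, ∀ s t, s ≠ 0 → t ≠ 0 → τ s = τ t → s = t
  surj : ∀ τ ∈ T, ∀ t, t ≠ 0 → ∃ s, s ≠ 0 ∧ τ s = t
  neg : ∀ τ ∈ T, ∀ s, s ≠ 0 → τ (-s) = -τ s
  self : ∀ c, c ≠ 0 → n c c = -c
  n_neg : ∀ c s, c ≠ 0 → s ≠ 0 → n (-c) s = n c s
  aut : ∀ τ ∈ T, ∀ τ' ∈ T, ∃ h : U →+ U, ∀ s, s ≠ 0 → τ s = h (τ' s)
  star : ∀ τ ∈ T, ∀ s t, s ≠ 0 → t ≠ 0 → s + t ≠ 0 → τ (s + t) = τ t + n (τ t) (τ s + τ t)

namespace SM
variable {U : Type*} [AddCommGroup U] (M : SM U)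

/-- the division identity -/
def P (k : ℕ) : Prop := ∀ τ ∈ M.T, ∀ t, k • t ≠ 0 → k • τ (k • t) = τ t

/-- no `k`-torsion -/
def Inj (U : Type*) [AddCommGroup U] (k : ℕ) : Prop := ∀ z : U, k • z = 0 → z = 0

theorem Inj.eq {k : ℕ} (h : Inj U k) {a b : U} (e : k • a = k • b) : a = b :=
  sub_eq_zero.1 (h _ (by rw [nsmul_sub, e, sub_self]))

variable {M}

theorem ne_of_smul {k : ℕ} {t : U} (h : k • t ≠ 0) : t ≠ 0 := fun e => h (by simp [e])

theorem P_of {k : ℕ} (h : ∀ t, k • t ≠ 0 → k • M.n t (k • t) = -t) : M.P k := fun τ hτ t ht => by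
  have h0 := ne_of_smul ht
  obtain ⟨f, hf⟩ := M.aut τ hτ _ (M.n_mem t h0)
  rw [hf _ ht, hf _ h0, ← map_nsmul, h t ht, M.self t h0]

theorem P.inj {k : ℕ} (h : M.P k) {v : U} (hv : k • v ≠ 0) : Inj U k := fun z hz => by
  have h0 := ne_of_smul hv
  have e : k • (v + z) = k • v := by rw [nsmul_add, hz, add_zero]
  have h1 := h _ (M.n_mem v h0) (v + z) (e ▸ hv)
  rw [e, h _ (M.n_mem v h0) v hv] at h1
  have := M.inj _ (M.n_mem v h0) _ _ h0 (ne_of_smul (e ▸ hv)) h1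
  simpa using this

theorem P.surj {k : ℕ} (h : M.P k) (hi : Inj U k) (v : U) : ∃ u, k • u = v := by
  by_cases h0 : v = 0
  · exact ⟨0, by simp [h0]⟩
  obtain ⟨s, hs, e⟩ := M.surj _ (M.n_mem v h0) v h0
  exact ⟨_, (h _ (M.n_mem v h0) s fun e => hs (hi _ e)).trans e⟩

theorem P.q {k : ℕ} (h : M.P k) (hi : Inj U k) {u z : U} (hu : u ≠ 0) (hz : z ≠ 0) :
    M.n (k • u) z = (k * k) • M.n u z := by
  have hk : ∀ t : U, t ≠ 0 → k • t ≠ 0 := fun t ht e => ht (hi _ e)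
  have hτ := M.n_mem u hu
  have hc := M.n_mem _ (hk u hu)
  obtain ⟨t₀, ht₀, e1⟩ := M.surj _ hτ u hu
  obtain ⟨t, rfl⟩ := h.surj hi t₀
  have e2 : M.n u t = k • u := by rw [← h _ hτ t ht₀, e1]
  by_cases e : z = u
  · rw [e, ← h _ hc u (hk u hu), M.self _ (hk u hu), M.self _ hu, mul_nsmul']; simp
  obtain ⟨s₀, hs₀, e3⟩ := M.surj _ hτ (z - u) (sub_ne_zero.2 e)
  obtain ⟨s, rfl⟩ := h.surj hi s₀
  have e4 : M.n u s = k • (z - u) := by rw [← h _ hτ s hs₀, e3]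
  have hst : s + t ≠ 0 := fun e' => by
    rw [eq_neg_of_add_eq_zero_left e', smul_neg, M.neg _ hτ _ ht₀, e1] at e3
    exact hz (by rw [← sub_add_cancel z u, ← e3, neg_add_cancel])
  have s1 := M.star _ hτ _ _ hs₀ ht₀ (nsmul_add s t k ▸ hk _ hst)
  have s2 := M.star _ hτ _ _ (ne_of_smul hs₀) (ne_of_smul ht₀) hst
  rw [e1, e3, sub_add_cancel, ← nsmul_add] at s1
  rw [e2, e4, ← nsmul_add, sub_add_cancel, ← h _ hτ _ (hk _ hst), s1, nsmul_add, add_right_inj] at s2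
  rw [← h _ hc z (hk z hz), ← s2, mul_nsmul']

theorem P_one : M.P 1 := fun τ _ t _ => by simp

theorem P_two : M.P 2 := P_of fun c hc => by
  have h0 := ne_of_smul hc
  have hτ := M.n_mem c h0
  have := M.star _ hτ (-c) (-c) (neg_ne_zero.2 h0) (neg_ne_zero.2 h0) (by rwa [← neg_add, neg_ne_zero, ← two_nsmul])
  rw [M.neg _ hτ c h0, M.self c h0, neg_neg, ← neg_add, ← two_nsmul, M.neg _ hτ _ hc] at this
  rw [two_nsmul (M.n c _)]
  linear_combination (norm := abel1) -this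

theorem P.succ {m : ℕ} (h : M.P (m + 1)) (hi : Inj U (m + 1)) (hm : Inj U m) : M.P (m + 2) := P_of fun u hu => by
  have hk : ∀ t : U, t ≠ 0 → (m + 1) • t ≠ 0 := fun t ht e => ht (hi _ e)
  have h0 := ne_of_smul hu
  set c := -((m + 1) • u) with hc
  have c0 : c ≠ 0 := neg_ne_zero.2 (hk u h0)
  have hτ := M.n_mem c c0
  have e1 : M.n c ((m + 1) • c) = u := hi.eq (by rw [h _ hτ c (hk c c0), M.self c c0, hc, neg_neg])
  have n1 : (m + 1) • c + c ≠ 0 := by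
    rw [← succ_nsmul, hc, smul_neg, neg_ne_zero, smul_comm]; exact hk _ hu
  have s1 := M.star _ hτ _ _ (hk c c0) c0 n1
  have s2 := M.star _ hτ _ _ c0 (hk c c0) (add_comm c _ ▸ n1)
  have e2 : u + -c = (m + 2) • u := by rw [hc, neg_neg, succ_nsmul' u (m + 1)]
  rw [e1, M.self c c0, e2, M.n_neg _ _ c0 hu, hc, M.n_neg _ ((m + 2) • u) (hk u h0) hu, h.q hi h0 hu, neg_neg] at s1
  rw [e1, M.self c c0, add_comm (-c), e2, add_comm c, hc, s1] at s2
  rw [← sub_eq_zero]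
  refine hm _ ?_
  rw [← sub_eq_zero] at s2
  rw [← s2]; module

theorem P_of_inj : ∀ k : ℕ, 1 ≤ k → (∀ j, 1 ≤ j → j < k → Inj U j) → M.P k
  | 1, _, _ => P_one
  | 2, _, _ => P_two
  | m + 3, _, h => (P_of_inj (m + 2) (by omega) fun j h1 h2 => h j h1 (by omega)).succ (h _ (by omega) (by omega))
      (h _ (by omega) (by omega))

include M in
theorem dichotomy [Nontrivial U] :
    (∃ p : ℕ, p.Prime ∧ ∀ u : U, p • u = 0) ∨ ∀ k, 1 ≤ k → Inj U k ∧ ∀ v : U, ∃ u, k • u = v := by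
  classical
  by_cases hc : ∃ k, 1 ≤ k ∧ ¬ Inj U k
  · left
    have hp := Nat.find_spec hc
    have hl : ∀ j, 1 ≤ j → j < Nat.find hc → Inj U j := fun j h1 h2 => by
      by_contra h3; exact Nat.find_min hc h2 ⟨h1, h3⟩
    generalize Nat.find hc = p at hp hl
    refine ⟨p, ?_, fun u => ?_⟩
    · rw [Nat.prime_def_lt]
      have : p ≠ 1 := by rintro rfl; exact hp.2 fun z hz => by simpa using hz
      refine ⟨by omega, fun m hm ⟨k, hk⟩ => ?_⟩
      by_contra h1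
      have m0 : m ≠ 0 := by rintro rfl; omega
      have k0 : k ≠ 0 := by rintro rfl; omega
      have : k < p := by rw [hk]; exact lt_mul_left (by omega) (by omega)
      exact hp.2 fun z hz => hl k (by omega) this _ (hl m (by omega) hm _ (by rwa [← mul_nsmul', ← hk]))
    · by_contra h1
      exact hp.2 ((P_of_inj (M := M) p hp.1 hl).inj h1)
  · right
    push Not at hc
    exact fun k hk => ⟨hc k hk, (P_of_inj (M := M) k hk fun j h1 _ => hc j h1).surj (hc k hk)⟩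

theorem P_of_prime {p : ℕ} (hp : p.Prime) (h : ∀ u : U, p • u = 0) {k : ℕ} (h1 : 1 ≤ k) (h2 : k < p) : M.P k :=
  P_of_inj k h1 fun j a b z hz => by
    have : Nat.Coprime j p := (Nat.coprime_of_lt_prime (by omega) (by omega) hp).symm
    obtain ⟨m, -, hm⟩ := Nat.exists_mul_mod_eq_one_of_coprime this hp.one_lt
    have := Nat.mod_add_div (j * m) p
    rw [hm] at this
    have e : (j * m) • z = z := by rw [← this, add_nsmul, one_nsmul, mul_nsmul, h, smul_zero, add_zero]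
    rw [← e, mul_nsmul, hz, smul_zero]

/-- the subgroup containing all `τ s + s` -/
theorem eq_top_or (K : AddSubgroup U) (hK : ∀ τ ∈ M.T, ∀ s, s ≠ 0 → τ s + s ∈ K) : K = ⊤ ∨ ENat.card U ≤ 3 := by
  have key : ∀ s t : U, s ≠ 0 → t ≠ 0 → s + t ≠ 0 → t + 2 • s ∈ K := fun s t hs ht hst => by
    have hτ := M.n_mem s hs
    have n1 : M.n s s + M.n s t ≠ 0 := fun e => hst (by
      rw [add_eq_zero_iff_eq_neg, ← M.neg _ hτ t ht] at e
      rw [M.inj _ hτ _ _ hs (neg_ne_zero.2 ht) e, neg_add_cancel])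
    have a1 := hK _ hτ _ hst
    have a2 := hK _ hτ _ ht
    have a3 := hK _ hτ _ hs
    have a4 := hK _ (M.n_mem _ (M.ne _ hτ t ht)) _ n1
    rw [M.star _ hτ s t hs ht hst] at a1
    have := K.add_mem (K.sub_mem a1 a4) a3
    convert this using 1; module
  rw [or_iff_not_imp_left]
  intro hne
  obtain ⟨s, hs⟩ : ∃ s, s ∉ K := by
    by_contra hc; push Not at hc; exact hne (eq_top_iff.2 fun x _ => hc x)
  have s0 : s ≠ 0 := fun e => hs (e ▸ K.zero_mem)
  have hK0 : ∀ t ∈ K, t = 0 := by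
    intro t ht
    by_contra t0
    have h2 : 2 • s ∈ K := (K.add_mem_cancel_left ht).1 (key s t s0 t0 fun e => hs (by
      rw [eq_neg_of_add_eq_zero_left e]; exact K.neg_mem ht))
    have := key s (t - s) s0 (fun e => hs (sub_eq_zero.1 e ▸ ht)) (by simpa using t0)
    rw [K.add_mem_cancel_right h2, sub_eq_add_neg, K.add_mem_cancel_left ht, K.neg_mem_iff] at this
    exact hs this
  rw [← Set.encard_univ]
  refine (Set.encard_le_encard (show Set.univ ⊆ {0, -s, -(2 • s)} from fun x _ => ?_)).trans ?_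
  · by_cases e : x = 0
    · simp [e]
    by_cases e' : s + x = 0
    · simp [eq_neg_of_add_eq_zero_right e']
    simp [eq_neg_of_add_eq_zero_left (hK0 _ (key s x s0 e e'))]
  · refine (Set.encard_insert_le _ _).trans ?_
    refine (add_le_add_left (Set.encard_insert_le _ _) _).trans (by simp; rfl)

end SM

variable {G : Type*} [Group G]

theorem conj_mem_of_eq {A B : Subgroup G} {g x : G} (e : g • A = B) (h : x ∈ A) : g * x * g⁻¹ ∈ B := e ▸ conj_mem h g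

/-- the additive copy of an abelian subgroup -/
def Pt (A : Subgroup G) (_ : Cm A A) : Type _ := Additive A

namespace Pt
variable {A : Subgroup G} {c : Cm A A}

instance instACG : AddCommGroup (Pt A c) :=
  { (inferInstance : AddGroup (Additive A)) with add_comm := fun a b => Subtype.ext (c _ (Additive.toMul a).2 _ (Additive.toMul b).2) }

/-- the underlying element -/
def v (s : Pt A c) : G := (Additive.toMul (α := A) s).1

/-- the point of an element -/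
def mk (c : Cm A A) (a : G) (ha : a ∈ A) : Pt A c := Additive.ofMul (α := A) ⟨a, ha⟩

theorem v_mem (s : Pt A c) : s.v ∈ A := (Additive.toMul (α := A) s).2
@[simp] theorem v_mk (a : G) (ha : a ∈ A) : (mk c a ha).v = a := rfl
@[simp] theorem v_add (s t : Pt A c) : (s + t).v = s.v * t.v := rfl
@[simp] theorem v_neg (s : Pt A c) : (-s).v = s.v⁻¹ := rfl
@[simp] theorem v_zero : (0 : Pt A c).v = 1 := rfl
theorem v_inj {s t : Pt A c} (e : s.v = t.v) : s = t := Subtype.ext e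
theorem v_ne {s : Pt A c} : s.v ≠ 1 ↔ s ≠ 0 := ⟨fun h e => h (e ▸ rfl), fun h e => h (v_inj e)⟩
@[simp] theorem v_nsmul (k : ℕ) (s : Pt A c) : (k • s).v = s.v ^ k := by
  induction k with
  | zero => simp
  | succ k ih => rw [succ_nsmul, v_add, ih, pow_succ]

theorem card : ENat.card (Pt A c) = ENat.card A := rfl

/-- conjugation by an element of the normalizer -/
def cj (c : Cm A A) {g : G} (hg : g • A = A) : Pt A c →+ Pt A c :=
  AddMonoidHom.mk' (fun s => mk c (g * s.v * g⁻¹) (conj_mem_of_eq hg s.v_mem)) fun s t => v_inj (by simp [mul_assoc])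

@[simp] theorem v_cj {g : G} (hg : g • A = A) (s : Pt A c) : (cj c hg s).v = g * s.v * g⁻¹ := rfl

end Pt

/-- swapping elements -/
def Swap (A B : Subgroup G) (τ : G) : Prop := τ ∈ A ⊔ B ∧ τ • A = B ∧ τ • B = A

theorem Swap.inv {A B : Subgroup G} {τ : G} (h : Swap A B τ) : Swap A B τ⁻¹ :=
  ⟨Subgroup.inv_mem _ h.1, inv_smul_eq_iff.2 h.2.2.symm, inv_smul_eq_iff.2 h.2.1.symm⟩

open Classical in
/-- the action on points -/
noncomputable def act (B : Subgroup G) {A : Subgroup G} {c : Cm A A} (x : G) (s : Pt A c) : Pt A c :=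
  if h : ∃ t : Pt A c, x • s.v • B = t.v • B then h.choose else 0

open Classical in
/-- the partner -/
noncomputable def prt (A B : Subgroup G) (a : G) : G := if h : ∃ y ∈ B, y • A = a⁻¹ • B then h.choose else 1

namespace R1
variable {A B : Subgroup G} (h : R1 A B) {c : Cm A A}
include h

theorem prt_spec {a : G} (ha : a ∈ A) (h1 : a ≠ 1) : prt A B a ∈ B ∧ prt A B a • A = a⁻¹ • B := by
  have : ∃ y ∈ B, y • A = a⁻¹ • B := by
    obtain ⟨y, hy, -, e⟩ := h.ex (A.inv_mem ha) (by simpa using h1)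
    exact ⟨y, hy, e⟩
  rw [prt, dif_pos this]; exact this.choose_spec

theorem act_eq {x : G} {s t : Pt A c} (e : x • s.v • B = t.v • B) : act B x s = t := by
  have : ∃ t : Pt A c, x • s.v • B = t.v • B := ⟨t, e⟩
  rw [act, dif_pos this]
  exact Pt.v_inj (h.inj (Pt.v_mem _) (Pt.v_mem _) (this.choose_spec.symm.trans e))

theorem act_spec {τ : G} (hτ : Swap A B τ) {s : Pt A c} (hs : s ≠ 0) : τ • s.v • B = (act B τ s).v • B := by
  rcases h.mem_Om.1 (smul_mem (smul_mem h.right_mem (Subgroup.mem_sup_left s.v_mem)) hτ.1) with e | ⟨a, ha, e⟩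
  · exact absurd (h.eq_one s.v_mem ((smul_left_cancel_iff τ).1 (e.trans hτ.2.2.symm))) (Pt.v_ne.2 hs)
  · rw [h.act_eq (t := Pt.mk c a ha) e]; exact e

theorem act_ne {τ : G} (hτ : Swap A B τ) {s : Pt A c} (hs : s ≠ 0) : act B τ s ≠ 0 := fun e => by
  have := h.act_spec hτ hs
  rw [e, Pt.v_zero, one_smul, smul_eq_iff_eq_inv_smul, hτ.inv.2.2] at this
  exact h.smul_ne s.v_mem this

theorem act_act {τ : G} (hτ : Swap A B τ) {s : Pt A c} (hs : s ≠ 0) : act B τ⁻¹ (act B τ s) = s :=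
  h.act_eq (by rw [← h.act_spec hτ hs, inv_smul_smul])

theorem act_aut {τ τ' : G} (hτ : Swap A B τ) (hτ' : Swap A B τ') {s : Pt A c} (hs : s ≠ 0) :
    (act B τ s).v = τ * τ'⁻¹ * (act B τ' s).v * (τ * τ'⁻¹)⁻¹ := by
  have e : (τ * τ'⁻¹) • A = A := by rw [mul_smul, hτ'.inv.2.1, hτ.2.2]
  refine h.inj (Pt.v_mem _) (conj_mem_of_eq e (Pt.v_mem _)) ?_
  rw [← h.act_spec hτ hs, mul_inv_rev, inv_inv, mul_smul, mul_smul τ', hτ.inv.2.2, hτ'.2.1, mul_smul,
    ← h.act_spec hτ' hs, mul_smul, inv_smul_smul]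

end R1

namespace Sp
variable {A B : Subgroup G} (h : Sp A B) {c : Cm A A}
include h

theorem swap {a y : G} (ha : a ∈ A) (h1 : a ≠ 1) (hy : y ∈ B) (e : y • A = a⁻¹ • B) : Swap A B (a * y * a) :=
  ⟨Subgroup.mul_mem _ (Subgroup.mul_mem_sup ha hy) (Subgroup.mem_sup_left ha),
    by rw [mul_smul, mul_smul, smul_of_mem ha, e, smul_inv_smul],
    by rw [mul_smul, mul_smul, ← h.inv ha h1 hy e, smul_inv_smul, smul_of_mem ha]⟩

theorem act_neg {τ : G} (hτ : Swap A B τ) {s : Pt A c} (hs : s ≠ 0) : act B τ (-s) = -act B τ s := by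
  obtain ⟨hy, e⟩ := h.r1.prt_spec s.v_mem (Pt.v_ne.2 hs)
  have e' := h.inv s.v_mem (Pt.v_ne.2 hs) hy e
  set y := prt A B s.v
  have m : τ * y * τ⁻¹ ∈ A := hτ.2.2 ▸ conj_mem hy τ
  rw [h.r1.act_eq (t := Pt.mk c _ m), h.r1.act_eq (s := s) (t := -Pt.mk c _ m), neg_neg]
  · rw [← e', Pt.v_neg, Pt.v_mk, mul_inv_rev, mul_inv_rev, inv_inv, mul_smul, mul_smul, hτ.inv.2.2]
  · rw [Pt.v_neg, ← e, Pt.v_mk, mul_smul, mul_smul, hτ.inv.2.2]

/-- the standard swapping element -/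
noncomputable def nn (A B : Subgroup G) (a : G) : G := a * prt A B a * a

theorem nn_swap {a : G} (ha : a ∈ A) (h1 : a ≠ 1) : Swap A B (nn A B a) :=
  h.swap ha h1 (h.r1.prt_spec ha h1).1 (h.r1.prt_spec ha h1).2

theorem prt_inv {a : G} (ha : a ∈ A) (h1 : a ≠ 1) : prt A B a⁻¹ = (prt A B a)⁻¹ := by
  obtain ⟨hy, e⟩ := h.r1.prt_spec ha h1
  obtain ⟨hy', e'⟩ := h.r1.prt_spec (A.inv_mem ha) (by simpa using h1)
  exact h.r1.symm.inj hy' (B.inv_mem hy) (by rw [e', h.inv ha h1 hy e, inv_inv])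

theorem nn_inv {a : G} (ha : a ∈ A) (h1 : a ≠ 1) : nn A B a⁻¹ = (nn A B a)⁻¹ := by
  simp [nn, h.prt_inv ha h1, mul_assoc]

theorem nn_conj {a : G} (ha : a ∈ A) (h1 : a ≠ 1) : nn A B a * a * (nn A B a)⁻¹ = prt A B a := by
  obtain ⟨hy, e⟩ := h.r1.prt_spec ha h1
  have := h.braid ha h1 hy e
  rw [nn, mul_inv_eq_iff_eq_mul]
  conv_lhs => rw [this]
  rw [mul_assoc _ _ a, mul_assoc, mul_assoc]

theorem act_nn_neg {a s : Pt A c} (ha : a ≠ 0) (hs : s ≠ 0) : act B (nn A B (-a).v) s = act B (nn A B a.v) s := by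
  have h1 := Pt.v_ne.2 ha
  have hn := h.nn_swap a.v_mem h1
  rw [Pt.v_neg, h.nn_inv a.v_mem h1]
  obtain ⟨hy, e⟩ := h.r1.prt_spec a.v_mem h1
  have ec := h.nn_conj a.v_mem h1
  have e' := h.inv a.v_mem h1 hy e
  set n := nn A B a.v with hdef
  set y := prt A B a.v
  -- `y⁻¹` commutes with the inversion up to inverse
  have key : ∀ t u : Pt A c, y • t.v • B = u.v • B → y⁻¹ • t.v⁻¹ • B = u.v⁻¹ • B := by
    intro t u e1
    by_cases t0 : t = 0
    · subst t0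
      rw [Pt.v_zero, one_smul, smul_of_mem hy] at e1
      rw [h.r1.eq_one u.v_mem e1.symm]; simp [smul_of_mem (B.inv_mem hy)]
    have u0 : u ≠ 0 := by
      rintro rfl
      rw [Pt.v_zero, one_smul, smul_eq_iff_eq_inv_smul, smul_of_mem (B.inv_mem hy)] at e1
      exact t0 (Pt.v_inj (h.r1.eq_one t.v_mem e1))
    have a1 := h.r1.act_spec hn.inv t0
    have a2 := h.r1.act_spec hn.inv u0
    have a3 := h.r1.act_spec hn.inv (neg_ne_zero.2 t0)
    have a4 := h.r1.act_spec hn.inv (neg_ne_zero.2 u0)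
    rw [h.act_neg hn.inv t0] at a3
    rw [h.act_neg hn.inv u0] at a4
    rw [← ec, mul_smul, mul_smul, smul_eq_iff_eq_inv_smul, a1, a2, ← mul_smul, ← Pt.v_add] at e1
    have := Pt.v_inj (h.r1.inj (Pt.v_mem _) (Pt.v_mem _) e1)
    rw [← ec, mul_inv_rev, mul_inv_rev, inv_inv, mul_smul, mul_smul, smul_eq_iff_eq_inv_smul, ← Pt.v_neg, ← Pt.v_neg,
      ← Pt.v_neg, a3, a4, ← this, ← mul_smul, ← Pt.v_add, neg_add]
  have a1 := h.r1.act_spec hn (neg_ne_zero.2 hs)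
  rw [h.act_neg hn hs, hdef, nn, mul_smul, mul_smul, smul_eq_iff_eq_inv_smul, ← mul_smul a.v, ← mul_smul a.v⁻¹,
    ← Pt.v_add, ← Pt.v_neg, ← Pt.v_add] at a1
  have a2 := key _ _ a1
  refine h.r1.act_eq ?_
  rw [hdef, nn, mul_inv_rev, mul_inv_rev, mul_smul, mul_smul, inv_smul_eq_iff, ← mul_smul a.v⁻¹, ← mul_smul a.v]
  rw [← Pt.v_neg, ← Pt.v_neg, neg_add, neg_add, neg_neg, neg_neg, neg_neg] at a2
  simpa using a2

/-- the abstract structure of a special pair -/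
noncomputable def sm (c : Cm A A) : SM (Pt A c) where
  T := {f | ∃ τ, Swap A B τ ∧ f = act B τ}
  n a := act B (nn A B a.v)
  n_mem a ha := ⟨_, h.nn_swap a.v_mem (Pt.v_ne.2 ha), rfl⟩
  ne := by rintro _ ⟨τ, hτ, rfl⟩ s hs; exact h.r1.act_ne hτ hs
  inj := by
    rintro _ ⟨τ, hτ, rfl⟩ s t hs ht e
    rw [← h.r1.act_act hτ hs, e, h.r1.act_act hτ ht]
  surj := by
    rintro _ ⟨τ, hτ, rfl⟩ t ht
    exact ⟨act B τ⁻¹ t, h.r1.act_ne hτ.inv ht, by simpa using h.r1.act_act hτ.inv ht⟩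
  neg := by rintro _ ⟨τ, hτ, rfl⟩ s hs; exact h.act_neg hτ hs
  self a ha := by
    obtain ⟨hy, e⟩ := h.r1.prt_spec a.v_mem (Pt.v_ne.2 ha)
    refine h.r1.act_eq ?_
    rw [nn, h.braid a.v_mem (Pt.v_ne.2 ha) hy e, mul_smul, ← h.inv a.v_mem (Pt.v_ne.2 ha) hy e, smul_inv_smul, mul_smul,
      smul_of_mem a.v_mem, e, Pt.v_neg]
  n_neg a s ha hs := h.act_nn_neg ha hs
  aut := by
    rintro _ ⟨τ, hτ, rfl⟩ _ ⟨τ', hτ', rfl⟩
    exact ⟨Pt.cj c (g := τ * τ'⁻¹) (by rw [mul_smul, hτ'.inv.2.1, hτ.2.2]), fun s hs => Pt.v_inj (h.r1.act_aut hτ hτ' hs)⟩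
  star := by
    rintro _ ⟨τ, hτ, rfl⟩ s t hs ht hst
    have n0 := h.r1.act_ne hτ ht
    have n1 : act B τ s + act B τ t ≠ 0 := fun e => hst (by
      rw [add_eq_zero_iff_eq_neg, ← h.act_neg hτ ht] at e
      rw [← h.r1.act_act hτ hs, e, h.r1.act_act hτ (neg_ne_zero.2 ht), neg_add_cancel])
    rw [← h.act_nn_neg n0 n1]
    have n2 := neg_ne_zero.2 n0
    obtain ⟨hy, e⟩ := h.r1.prt_spec (-act B τ t).v_mem (Pt.v_ne.2 n2)
    have m : τ * t.v * τ⁻¹ ∈ B := hτ.2.1 ▸ conj_mem t.v_mem τ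
    have e1 : prt A B (-act B τ t).v = τ * t.v * τ⁻¹ := h.r1.symm.inj hy m (by
      rw [e, Pt.v_neg, inv_inv, ← h.r1.act_spec hτ ht, mul_smul, mul_smul, hτ.inv.2.1])
    refine h.r1.act_eq ?_
    rw [Pt.v_add (act B τ t), mul_smul, ← h.r1.act_spec (h.nn_swap (Pt.v_mem _) (Pt.v_ne.2 n2)) n1, nn, e1, add_comm s,
      add_comm (act B τ s), Pt.v_add, Pt.v_add, mul_smul, mul_smul, mul_smul, Pt.v_neg, smul_inv_smul, mul_smul,
      mul_smul (act B τ t).v, inv_smul_smul, ← h.r1.act_spec hτ hs, mul_smul, inv_smul_smul]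

end Sp

end Cfsg.Agent.Root
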