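import Mathlib
import Cfsg.Agent.Lib.Root.QP3
import Cfsg.Agent.Lib.Root.Loc
import Cfsg.Agent.Lib.Root.RI

/-! Families of transvection type: root subgroups `1 + c N` with `N ^ 2 = 0`. -/

set_option autoImplicit false
set_option linter.unusedSectionVars false

namespace Cfsg.Agent.Root
open Cfsg Matrix

variable (k : Type*) [Field k] {R : Type*} [Ring R] [Algebra k R] {G : Type*} [Group G] (ι : G →* R)

/-- the subgroup of the elements `1 + c N` -/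
def rt (N : R) : Subgroup G := Subgroup.closure {g | ∃ c : k, ι g = 1 + c • N}

/-- families of transvection type -/
structure TF (𝒩 : Set R) : Prop where
  inj : Function.Injective ι
  sq : ∀ N ∈ 𝒩, N * N = 0
  ne : ∀ N ∈ 𝒩, N ≠ 0
  ex : ∀ N ∈ 𝒩, ∀ c : k, ∃ g, ι g = 1 + c • N
  conj : ∀ N ∈ 𝒩, ∀ g, ι g * N * ι g⁻¹ ∈ 𝒩
  tri : ∀ N ∈ 𝒩, ∀ M ∈ 𝒩, N * M = M * N ∨ (∃ c : k, c ≠ 0 ∧ N * M * N = c • N ∧ M * N * M = c • M) ∨
    (N * M * N = 0 ∧ M * N * M = 0 ∧ ∃ c : k, c ≠ 0 ∧ ∃ P ∈ 𝒩, N * M - M * N = c • P)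

variable {k ι} {N M : R}

theorem iota_inv {g : G} {x : R} (h : x * x = 0) (e : ι g = 1 + x) : ι g⁻¹ = 1 - x := by
  have : (1 + x) * (1 - x) = 1 := by rw [add_mul, mul_sub, mul_sub, h]; simp
  calc ι g⁻¹ = ι g⁻¹ * (ι g * (1 - x)) := by rw [e, this, mul_one]
    _ = 1 - x := by rw [← mul_assoc, ← map_mul]; simp

theorem smul_sq (h : N * N = 0) (c : k) : c • N * c • N = 0 := by simp [h]

theorem mem_rt (h : N * N = 0) {g : G} : g ∈ rt k ι N ↔ ∃ c : k, ι g = 1 + c • N := by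
  refine ⟨fun hg => ?_, fun e => Subgroup.subset_closure e⟩
  induction hg using Subgroup.closure_induction with
  | mem x hx => exact hx
  | one => exact ⟨0, by simp⟩
  | mul x y _ _ p q =>
    obtain ⟨a, p⟩ := p; obtain ⟨b, q⟩ := q
    exact ⟨a + b, by rw [map_mul, p, q]; simp [add_mul, mul_add, h, add_smul]; abel⟩
  | inv x _ p => obtain ⟨a, p⟩ := p; exact ⟨-a, by rw [iota_inv (smul_sq h a) p, neg_smul, sub_eq_add_neg]⟩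

theorem rt_csmul {c : k} (hc : c ≠ 0) : rt k ι (c • N) = rt k ι N := by
  unfold rt; congr 1; ext g
  exact ⟨fun ⟨a, e⟩ => ⟨a * c, by rw [e, smul_smul]⟩, fun ⟨a, e⟩ => ⟨a / c, by rw [e, smul_smul, div_mul_cancel₀ _ hc]⟩⟩

theorem iota_cancel (g : G) : ι g⁻¹ * ι g = 1 := by rw [← map_mul]; simp
theorem iota_cancel' (g : G) : ι g * ι g⁻¹ = 1 := by rw [← map_mul]; simp

theorem conj_sq (h : N * N = 0) (g : G) : ι g * N * ι g⁻¹ * (ι g * N * ι g⁻¹) = 0 := by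
  simp only [mul_assoc]; rw [← mul_assoc (ι g⁻¹), iota_cancel, one_mul, mz2 h, mul_zero]

theorem smul_rt (h : N * N = 0) (g : G) : g • rt k ι N = rt k ι (ι g * N * ι g⁻¹) := by
  ext x
  rw [mem_smul, mem_rt h, mem_rt (conj_sq h g)]
  refine exists_congr fun c => ⟨fun e => ?_, fun e => ?_⟩
  · have : ι x = ι g * ι (g⁻¹ * x * g) * ι g⁻¹ := by rw [← map_mul, ← map_mul]; congr 1; group
    rw [this, e]; simp [mul_add, add_mul, iota_cancel']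
  · rw [map_mul, map_mul, e]; simp only [mul_add, add_mul, mul_one, iota_cancel, smul_mul_assoc, mul_smul_comm, mul_assoc]
    rw [← mul_assoc, iota_cancel, one_mul]

namespace TF
variable {𝒩 : Set R} (h : TF k ι 𝒩)
include h

theorem ne_one {g : G} {c : k} (hN : N ∈ 𝒩) (e : ι g = 1 + c • N) : g ≠ 1 ↔ c ≠ 0 := by
  refine not_congr ⟨fun e' => ?_, fun e' => h.inj (by rw [e, e']; simp)⟩
  rw [e', map_one, left_eq_add, smul_eq_zero] at e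
  exact e.resolve_right (h.ne N hN)

theorem comm_iff {a b : G} {x y : R} (ea : ι a = 1 + x) (eb : ι b = 1 + y) : a * b = b * a ↔ x * y = y * x := by
  rw [← h.inj.eq_iff, map_mul, map_mul, ea, eb]
  simp only [mul_add, add_mul, mul_one, one_mul]
  constructor <;> intro e <;> linear_combination (norm := abel) e

theorem cm_rt (hN : N ∈ 𝒩) (hM : M ∈ 𝒩) : Cm (rt k ι N) (rt k ι M) ↔ N * M = M * N := by
  constructor
  · intro c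
    obtain ⟨a, ea⟩ := h.ex N hN 1
    obtain ⟨b, eb⟩ := h.ex M hM 1
    simpa using (h.comm_iff ea eb).1 (c a ((mem_rt (h.sq N hN)).2 ⟨1, ea⟩) b ((mem_rt (h.sq M hM)).2 ⟨1, eb⟩))
  · intro e a ha b hb
    obtain ⟨s, ea⟩ := (mem_rt (h.sq N hN)).1 ha
    obtain ⟨t, eb⟩ := (mem_rt (h.sq M hM)).1 hb
    rw [h.comm_iff ea eb]; simp [e, smul_smul, mul_comm]

theorem exists_hom (hN : N ∈ 𝒩) (hM : M ∈ 𝒩) {c : k} (hc : c ≠ 0) (e1 : N * M * N = c • N) (e2 : M * N * M = c • M) :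
    ∃ φ : SpecialLinearGroup (Fin 2) k →* G, (∀ t, ι (φ (xU t)) = 1 + t • N) ∧ ∀ t, ι (φ (xL t)) = 1 + (t * c⁻¹) • M := by
  have mu : MU N (c⁻¹ • M) := ⟨h.sq N hN, smul_sq (h.sq M hM) _,
    by rw [smul_mul_assoc, mul_smul_comm, ← mul_assoc, e1, smul_smul, inv_mul_cancel₀ hc, one_smul],
    by rw [smul_mul_assoc, mul_smul_comm, mul_smul_comm, ← mul_assoc, e2, smul_smul c⁻¹ c, inv_mul_cancel₀ hc, one_smul]⟩
  let ψ : SpecialLinearGroup (Fin 2) k →* R := ⟨⟨fun m => psi N (c⁻¹ • M) m.1, by simp [psi]; abel⟩, fun m n => psi_mul mu _ _⟩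
  have hU : ∀ t, ψ (xU t) = 1 + t • N := fun t => by
    change psi _ _ _ = _; simp [psi]; abel
  have hL : ∀ t, ψ (xL t) = 1 + (t * c⁻¹) • M := fun t => by
    change psi _ _ _ = _; simp [psi, smul_smul]; abel
  have hr : ∀ m, ∃ g, ι g = ψ m := fun m => by
    have : m ∈ upperUnipotentSL2 k ⊔ lowerUnipotentSL2 k := by rw [sl2_sup]; trivial
    refine sup_ind (p := fun m => ∃ g, ι g = ψ m) (fun a ha => ?_) (fun a ha => ?_) ?_ m this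
    · obtain ⟨t, rfl⟩ := mem_upper.1 ha; rw [hU]; exact h.ex N hN t
    · obtain ⟨t, rfl⟩ := mem_lower.1 ha; rw [hL]; exact h.ex M hM _
    · rintro x - y - ⟨a, ea⟩ ⟨b, eb⟩; exact ⟨a * b, by rw [map_mul, map_mul, ea, eb]⟩
  choose f hf using hr
  exact ⟨MonoidHom.mk' f fun a b => h.inj (by rw [map_mul, hf, hf, hf, map_mul]), fun t => (hf _).trans (hU t),
    fun t => (hf _).trans (hL t)⟩

theorem psl2 (hN : N ∈ 𝒩) (hM : M ∈ 𝒩) {c : k} (hc : c ≠ 0) (e1 : N * M * N = c • N) (e2 : M * N * M = c • M) :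
    IsPSL2PairOver k (rt k ι N) (rt k ι M) := by
  obtain ⟨φ, hU, hL⟩ := h.exists_hom hN hM hc e1 e2
  have a1 : (upperUnipotentSL2 k).map φ = rt k ι N := by
    ext g; rw [mem_rt (h.sq N hN)]
    refine ⟨?_, fun ⟨t, e⟩ => ⟨xU t, mem_upper.2 ⟨t, rfl⟩, h.inj (by rw [hU, e])⟩⟩
    rintro ⟨x, hx, rfl⟩; obtain ⟨t, rfl⟩ := mem_upper.1 hx; exact ⟨t, hU t⟩
  have a2 : (lowerUnipotentSL2 k).map φ = rt k ι M := by
    ext g; rw [mem_rt (h.sq M hM)]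
    refine ⟨?_, fun ⟨t, e⟩ => ⟨xL (t * c), mem_lower.2 ⟨_, rfl⟩, h.inj (by rw [hL, e, mul_inv_cancel_right₀ hc])⟩⟩
    rintro ⟨x, hx, rfl⟩; obtain ⟨t, rfl⟩ := mem_lower.1 hx; exact ⟨_, hL t⟩
  rw [← a1, ← a2]
  refine psl2_of_hom φ ?_
  rw [a1, a2, h.cm_rt hN hM]
  intro e
  rw [e, mul_assoc, h.sq N hN, mul_zero, eq_comm, smul_eq_zero] at e1
  exact e1.elim hc (h.ne N hN)

theorem r1 (hN : N ∈ 𝒩) (hM : M ∈ 𝒩) {c : k} (hc : c ≠ 0) (e1 : N * M * N = c • N) (e2 : M * N * M = c • M) :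
    R1 (rt k ι N) (rt k ι M) := (psl2_sp (h.psl2 hN hM hc e1 e2)).1

theorem cmt (hN : N ∈ 𝒩) (hM : M ∈ 𝒩) (e1 : N * M * N = 0) (e2 : M * N * M = 0) {a b : G} {s t : k}
    (ea : ι a = 1 + s • N) (eb : ι b = 1 + t • M) : ι (a * b * a⁻¹ * b⁻¹) = 1 + (s * t) • (N * M - M * N) := by
  have p := smul_sq (h.sq N hN) s
  have q := smul_sq (h.sq M hM) t
  rw [map_mul, map_mul, map_mul, iota_inv p ea, iota_inv q eb, ea, eb, cmt_un1 p q (by simp [e1]) (by simp [e2])]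
  simp [smul_sub, smul_smul, mul_comm]

theorem t3 (hN : N ∈ 𝒩) (hM : M ∈ 𝒩) (e1 : N * M * N = 0) (e2 : M * N * M = 0) {c : k} (hc : c ≠ 0) {P : R} (hP : P ∈ 𝒩)
    (e : N * M - M * N = c • P) : T3 (rt k ι '' 𝒩) (rt k ι N) (rt k ι M) := by
  have m : ∀ a ∈ rt k ι N, ∀ b ∈ rt k ι M, a * b * a⁻¹ * b⁻¹ ∈ rt k ι P := fun a ha b hb => by
    obtain ⟨s, ea⟩ := (mem_rt (h.sq N hN)).1 ha
    obtain ⟨t, eb⟩ := (mem_rt (h.sq M hM)).1 hb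
    exact (mem_rt (h.sq P hP)).2 ⟨_, by rw [h.cmt hN hM e1 e2 ea eb, e, smul_smul]⟩
  have l1 : ∀ a ∈ rt k ι N, a ≠ 1 → ∀ z ∈ rt k ι P, ∃ b ∈ rt k ι M, a * b * a⁻¹ * b⁻¹ = z := fun a ha h1 z hz => by
    obtain ⟨s, ea⟩ := (mem_rt (h.sq N hN)).1 ha
    obtain ⟨u, ez⟩ := (mem_rt (h.sq P hP)).1 hz
    have hs := (h.ne_one hN ea).1 h1
    obtain ⟨b, eb⟩ := h.ex M hM (u / (s * c))
    exact ⟨b, (mem_rt (h.sq M hM)).2 ⟨_, eb⟩, h.inj (by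
      rw [h.cmt hN hM e1 e2 ea eb, e, smul_smul, ez]; congr 2; field_simp)⟩
  have l2 : ∀ b ∈ rt k ι M, b ≠ 1 → ∀ z ∈ rt k ι P, ∃ a ∈ rt k ι N, a * b * a⁻¹ * b⁻¹ = z := fun b hb h1 z hz => by
    obtain ⟨s, eb⟩ := (mem_rt (h.sq M hM)).1 hb
    obtain ⟨u, ez⟩ := (mem_rt (h.sq P hP)).1 hz
    have hs := (h.ne_one hM eb).1 h1
    obtain ⟨a, ea⟩ := h.ex N hN (u / (s * c))
    exact ⟨a, (mem_rt (h.sq N hN)).2 ⟨_, ea⟩, h.inj (by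
      rw [h.cmt hN hM e1 e2 ea eb, e, smul_smul, ez]; congr 2; field_simp)⟩
  obtain ⟨a0, ea0⟩ := h.ex N hN 1
  have E : ⁅rt k ι N, rt k ι M⁆ = rt k ι P := le_antisymm (Subgroup.commutator_le.2 fun a ha b hb => m a ha b hb) fun z hz => by
    obtain ⟨b, hb, rfl⟩ := l1 a0 ((mem_rt (h.sq N hN)).2 ⟨1, ea0⟩) ((h.ne_one hN ea0).2 one_ne_zero) z hz
    exact cmt_mem ((mem_rt (h.sq N hN)).2 ⟨1, ea0⟩) hb
  have eP : P = c⁻¹ • (N * M - M * N) := by rw [e, smul_smul, inv_mul_cancel₀ hc, one_smul]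
  have c1 : Cm (rt k ι P) (rt k ι N) := (h.cm_rt hP hN).2 (by
    rw [eP]; simp [sub_mul, mul_sub, mul_assoc, mz3 e1, h.sq N hN, mz2 (h.sq N hN)])
  have c2 : Cm (rt k ι P) (rt k ι M) := (h.cm_rt hP hM).2 (by
    rw [eP]; simp [sub_mul, mul_sub, mul_assoc, mz3 e2, h.sq M hM, mz2 (h.sq M hM)])
  refine ⟨E ▸ ⟨P, hP, rfl⟩, by rw [E]; exact c1.sup' c2, fun a ha h1 => ?_, fun b hb h1 => ?_⟩
  · rw [E]
    exact le_antisymm ((Subgroup.closure_le _).2 (by rintro _ ⟨b, hb, rfl⟩; exact m a ha b hb))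
      fun z hz => Subgroup.subset_closure (l1 a ha h1 z hz)
  · rw [E]
    exact le_antisymm ((Subgroup.closure_le _).2 (by rintro _ ⟨a, ha, rfl⟩; exact m a ha b hb))
      fun z hz => Subgroup.subset_closure (l2 b hb h1 z hz)

theorem smul_mem {A : Subgroup G} (hA : A ∈ rt k ι '' 𝒩) (g : G) : g • A ∈ rt k ι '' 𝒩 := by
  obtain ⟨N, hN, rfl⟩ := hA
  exact ⟨_, h.conj N hN g, (smul_rt (h.sq N hN) g).symm⟩

theorem lar : LAR (rt k ι '' 𝒩) where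
  cm := by rintro _ ⟨N, hN, rfl⟩; exact (h.cm_rt hN hN).2 rfl
  ne := by
    rintro _ ⟨N, hN, rfl⟩ e
    obtain ⟨a, ea⟩ := h.ex N hN 1
    exact (h.ne_one hN ea).2 one_ne_zero (Subgroup.mem_bot.1 (e ▸ (mem_rt (h.sq N hN)).2 ⟨1, ea⟩))
  smul := fun A hA _ _ b _ => h.smul_mem hA b
  tri := by
    rintro _ ⟨N, hN, rfl⟩ _ ⟨M, hM, rfl⟩
    rcases h.tri N hN M hM with e | ⟨c, hc, e1, e2⟩ | ⟨e1, e2, c, hc, P, hP, e⟩
    · exact Or.inl ((h.cm_rt hN hM).2 e)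
    · exact Or.inr (Or.inl (h.r1 hN hM hc e1 e2))
    · exact Or.inr (Or.inr (h.t3 hN hM e1 e2 hc hP e))

theorem kroot_loc : IsKRootSubgroupSet k (loc (rt k ι '' 𝒩)) := by
  refine ⟨h.lar.ar, fun A hA B hB r => psl2_map_iff (Subgroup.subtype_injective _) ?_⟩
  obtain ⟨N, hN, eN⟩ := mem_loc.1 hA
  obtain ⟨M, hM, eM⟩ := mem_loc.1 hB
  rcases h.tri N hN M hM with e | ⟨c, hc, e1, e2⟩ | ⟨e1, e2, c, hc, P, hP, e⟩
  · exact absurd ((cm_map_iff (Subgroup.subtype_injective _)).1 (eN ▸ eM ▸ (h.cm_rt hN hM).2 e)) (R1.not_cm r)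
  · exact eN ▸ eM ▸ h.psl2 hN hM hc e1 e2
  · refine absurd r (AR.t3_not_r1 h.lar.ar hA ?_)
    rw [loc_eq, ← t3_map_iff (Subgroup.subtype_injective _), ← eN, ← eM]
    exact h.t3 hN hM e1 e2 hc hP e

theorem ar (ht : gen (rt k ι '' 𝒩) = ⊤) : AR (rt k ι '' 𝒩) :=
  ⟨fun A hA => cm_self.2 (h.lar.cm A hA), h.lar.ne, ht, fun A hA g => h.smul_mem hA g,
    fun A hA B hB => (h.lar.tri A hA B hB).imp_left cm_iff.2⟩

theorem kroot (ht : gen (rt k ι '' 𝒩) = ⊤) : IsKRootSubgroupSet k (rt k ι '' 𝒩) := by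
  refine ⟨h.ar ht, ?_⟩
  rintro _ ⟨N, hN, rfl⟩ _ ⟨M, hM, rfl⟩ r
  rcases h.tri N hN M hM with e | ⟨c, hc, e1, e2⟩ | ⟨e1, e2, c, hc, P, hP, e⟩
  · exact absurd ((h.cm_rt hN hM).2 e) (R1.not_cm r)
  · exact h.psl2 hN hM hc e1 e2
  · exact absurd r (AR.t3_not_r1 (h.ar ht) ⟨N, hN, rfl⟩ (h.t3 hN hM e1 e2 hc hP e))

theorem deg_aux (hd : ∀ N ∈ 𝒩, ∀ M ∈ 𝒩, N * M = M * N ∨ ∃ c : k, c ≠ 0 ∧ N * M * N = c • N ∧ M * N * M = c • M) :
    ∀ A ∈ rt k ι '' 𝒩, ∀ B ∈ rt k ι '' 𝒩, Cm A B ∨ R1 A B := by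
  rintro _ ⟨N, hN, rfl⟩ _ ⟨M, hM, rfl⟩
  exact (hd N hN M hM).imp (h.cm_rt hN hM).2 fun ⟨c, hc, e1, e2⟩ => h.r1 hN hM hc e1 e2

theorem deg (hd : ∀ N ∈ 𝒩, ∀ M ∈ 𝒩, N * M = M * N ∨ ∃ c : k, c ≠ 0 ∧ N * M * N = c • N ∧ M * N * M = c • M)
    (ht : gen (rt k ι '' 𝒩) = ⊤) : IsDegenerateRootSet (rt k ι '' 𝒩) := fun A hA B hB t =>
  (h.deg_aux hd A hA B hB).elim (AR.t3_ne (h.ar ht) t) (AR.t3_not_r1 (h.ar ht) hA t)

theorem deg_loc (hd : ∀ N ∈ 𝒩, ∀ M ∈ 𝒩, N * M = M * N ∨ ∃ c : k, c ≠ 0 ∧ N * M * N = c • N ∧ M * N * M = c • M) :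
    IsDegenerateRootSet (loc (rt k ι '' 𝒩)) := fun A hA B hB t =>
  (h.deg_aux hd _ (mem_loc.1 hA) _ (mem_loc.1 hB)).elim
    (fun c => AR.t3_ne h.lar.ar t ((cm_map_iff (Subgroup.subtype_injective _)).1 c))
    fun r => AR.t3_not_r1 h.lar.ar hA t ((r1_map_iff (Subgroup.subtype_injective _)).1 r)

section Conn
variable (hF : ∀ N ∈ 𝒩, ∃ M ∈ 𝒩, ∃ c : k, c ≠ 0 ∧ N * M * N = c • N ∧ M * N * M = c • M)
include hF

theorem ni : ∀ A ∈ rt k ι '' 𝒩, NI (rt k ι '' 𝒩) A := by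
  rintro _ ⟨N, hN, rfl⟩
  obtain ⟨M, hM, c, hc, e1, e2⟩ := hF N hN
  exact ⟨_, ⟨M, hM, rfl⟩, h.r1 hN hM hc e1 e2⟩

theorem reach (hN : N ∈ 𝒩) (hM : M ∈ 𝒩) (n : N * M ≠ M * N) :
    Relation.ReflTransGen (FAdj (rt k ι '' 𝒩)) (rt k ι N) (rt k ι M) := by
  by_contra hn
  exact n ((h.cm_rt hN hM).1 (h.lar.cm_of_not (h.ni hF) ⟨N, hN, rfl⟩ ⟨M, hM, rfl⟩ fun k => hn k.2))

theorem conn (hc : ∀ N ∈ 𝒩, ∀ M ∈ 𝒩, ∃ C ∈ 𝒩, N * C ≠ C * N ∧ M * C ≠ C * M) :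
    IsConnectedFamily (FAdj (rt k ι '' 𝒩)) (rt k ι '' 𝒩) := by
  rintro _ ⟨N, hN, rfl⟩ _ ⟨M, hM, rfl⟩
  obtain ⟨C, hC, n1, n2⟩ := hc N hN M hM
  exact (h.reach hF hN hC n1).trans (reach_symm' (h.reach hF hM hC n2))

end Conn

end TF

theorem class_of_conn {S : Set (Subgroup G)} (h0 : S.Nonempty) (hc : IsConnectedFamily (FAdj S) S) :
    IsConjClassOfSubgroups S :=
  ⟨h0, fun A hA B hB => (conj_of_cpt (hc A hA B hB)).imp fun _ k => k.2⟩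

theorem conn_loc {S : Set (Subgroup G)} (hc : IsConnectedFamily (FAdj S) S) : IsConnectedFamily (FAdj (loc S)) (loc S) :=
  fun _ hA _ hB => reach_loc.2 (hc _ (mem_loc.1 hA) _ (mem_loc.1 hB))

/-- the elements `1 + c N` -/
def rel (k : Type*) [Field k] [Algebra k R] (ι : G →* R) (𝒩 : Set R) : Set G :=
  {g | ∃ N ∈ 𝒩, ∃ c : k, c ≠ 0 ∧ ι g = 1 + c • N}

theorem odd_sl2 [Finite k] [CharP k 2] {s t : k} (hs : s ≠ 0) (ht : t ≠ 0) : Odd (orderOf (xU s * xL t)) := by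
  by_contra hn
  obtain ⟨m, hm⟩ := Nat.not_odd_iff_even.1 hn
  have hp := orderOf_pos (xU s * xL t)
  obtain ⟨u, hu⟩ : ∃ u, u = (xU s * xL t) ^ m := ⟨_, rfl⟩
  have h1 : u * u = 1 := by rw [hu, ← pow_add, ← hm, pow_orderOf_eq_one]
  have h2 : u * (xU s * xL t) = (xU s * xL t) * u := by rw [hu, ← pow_succ, pow_succ']
  refine pow_ne_one_of_lt_orderOf (x := xU s * xL t) (n := m) (by omega) (by omega) (hu ▸ ?_)
  have two : (2 : k) = 0 := CharTwo.two_eq_zero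
  have a00 := congrFun (congrFun (congrArg Subtype.val h1) 0) 0
  have a11 := congrFun (congrFun (congrArg Subtype.val h1) 1) 1
  have b00 := congrFun (congrFun (congrArg Subtype.val h2) 0) 0
  have b01 := congrFun (congrFun (congrArg Subtype.val h2) 0) 1
  simp [Matrix.mul_apply, Fin.sum_univ_two] at a00 a11 b00 b01
  have e1 : u 0 0 = u 1 1 := by
    have : (u 0 0 - u 1 1) ^ 2 = 0 := by linear_combination a00 - a11 + (u 1 1 ^ 2 - u 0 0 * u 1 1) * two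
    exact sub_eq_zero.1 (pow_eq_zero_iff two_ne_zero |>.1 this)
  have e2 : u 0 1 = 0 := by
    have : s * t * u 0 1 = 0 := by linear_combination -b01 + s * e1
    simpa [hs, ht] using this
  have e3 : u 1 0 = 0 := by
    have : s * u 1 0 = 0 := by linear_combination -b00 + t * e2
    simpa [hs] using this
  have e4 : u 0 0 = 1 := by
    have : (u 0 0 - 1) ^ 2 = 0 := by linear_combination a00 - u 1 0 * e2 + (1 - u 0 0) * two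
    exact sub_eq_zero.1 (pow_eq_zero_iff two_ne_zero |>.1 this)
  ext i j
  fin_cases i <;> fin_cases j <;> simp [e2, e3, e4, ← e1]

theorem three_sl2 [CharP k 2] : (xU (1 : k) * xL 1) ^ 3 = 1 := by
  have two : (2 : k) = 0 := CharTwo.two_eq_zero
  ext i j
  fin_cases i <;> fin_cases j <;> simp [pow_succ, Matrix.mul_apply, Fin.sum_univ_two] <;> grind

namespace TF
variable {𝒩 : Set R} (h : TF k ι 𝒩) [CharP k 2] [Finite k]
include h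

theorem rel_ord {a : G} (ha : a ∈ rel k ι 𝒩) : orderOf a = 2 := by
  obtain ⟨N, hN, c, hc, e⟩ := ha
  haveI : Fact (Nat.Prime 2) := ⟨Nat.prime_two⟩
  refine orderOf_eq_prime (h.inj ?_) ((h.ne_one hN e).2 hc)
  rw [pow_two, map_mul, e, map_one, add_mul, mul_add, mul_add, smul_sq (h.sq N hN), mul_one, mul_one, one_mul, add_zero,
    add_assoc, ← add_smul, CharTwo.add_self_eq_zero, zero_smul, add_zero]

theorem rel_conj {a : G} (ha : a ∈ rel k ι 𝒩) (g : G) : g * a * g⁻¹ ∈ rel k ι 𝒩 := by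
  obtain ⟨N, hN, c, hc, e⟩ := ha
  exact ⟨_, h.conj N hN g, c, hc, by rw [map_mul, map_mul, e]; simp [mul_add, add_mul, iota_cancel']⟩

theorem rel_tri {a b : G} (ha : a ∈ rel k ι 𝒩) (hb : b ∈ rel k ι 𝒩) : a * b = b * a ∨
    (∃ s t : k, s ≠ 0 ∧ t ≠ 0 ∧ orderOf (a * b) ∣ orderOf (xU s * xL t)) ∨
    (orderOf (a * b) = 4 ∧ (a * b) ^ 2 ∈ rel k ι 𝒩) := by
  have oa := h.rel_ord ha
  have ob := h.rel_ord hb
  obtain ⟨N, hN, s, hs, ea⟩ := ha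
  obtain ⟨M, hM, t, ht, eb⟩ := hb
  rcases h.tri N hN M hM with e | ⟨c, hc, e1, e2⟩ | ⟨e1, e2, c, hc, P, hP, e⟩
  · exact Or.inl ((h.comm_iff ea eb).2 (by simp [e, smul_smul, mul_comm]))
  · obtain ⟨φ, hU, hL⟩ := h.exists_hom hN hM hc e1 e2
    refine Or.inr (Or.inl ⟨s, t * c, hs, mul_ne_zero ht hc, ?_⟩)
    rw [← h.inj ((hU s).trans ea.symm), ← h.inj (a₂ := b) ((hL (t * c)).trans (by rw [eb, mul_inv_cancel_right₀ hc])), ← map_mul]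
    exact orderOf_map_dvd φ _
  · have ia : a⁻¹ = a := inv_eq_of_mul_eq_one_right (by rw [← pow_two, ← oa, pow_orderOf_eq_one])
    have ib : b⁻¹ = b := inv_eq_of_mul_eq_one_right (by rw [← pow_two, ← ob, pow_orderOf_eq_one])
    have m : (a * b) ^ 2 ∈ rel k ι 𝒩 := ⟨P, hP, s * t * c, by simp [hs, ht, hc], by
      have := h.cmt hN hM e1 e2 ea eb
      rwa [ia, ib, e, smul_smul, mul_assoc, ← pow_two] at this⟩
    have o := h.rel_ord m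
    haveI : Fact (Nat.Prime 2) := ⟨Nat.prime_two⟩
    refine Or.inr (Or.inr ⟨orderOf_eq_prime_pow (p := 2) (n := 1) (fun e => ?_) ?_, m⟩)
    · rw [pow_one] at e; rw [e] at o; simp at o
    · rw [show 2 ^ (1 + 1) = 2 * 2 by rfl, pow_mul]; nth_rewrite 2 [← o]; exact pow_orderOf_eq_one _

theorem closure_rel : Subgroup.closure (rel k ι 𝒩) = gen (rt k ι '' 𝒩) := by
  refine le_antisymm ((Subgroup.closure_le _).2 ?_) (iSup₂_le ?_)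
  · rintro g ⟨N, hN, c, -, e⟩
    exact le_gen (S := rt k ι '' 𝒩) ⟨N, hN, rfl⟩ ((mem_rt (h.sq N hN)).2 ⟨c, e⟩)
  · rintro _ ⟨N, hN, rfl⟩ g hg
    obtain ⟨c, e⟩ := (mem_rt (h.sq N hN)).1 hg
    by_cases hc : c = 0
    · rw [not_not.1 (mt (h.ne_one hN e).1 (not_not.2 hc))]; exact one_mem _
    · exact Subgroup.subset_closure ⟨N, hN, c, hc, e⟩

theorem ri (ht : gen (rt k ι '' 𝒩) = ⊤) : IsRootInvolutionSet (rel k ι 𝒩) :=
  ⟨fun _ => h.rel_ord, h.closure_rel.trans ht, fun _ ha g => h.rel_conj ha g, fun _ ha _ hb =>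
    (h.rel_tri ha hb).imp_right (Or.imp_left fun ⟨_, _, hs, ht, d⟩ => Odd.of_dvd_nat (odd_sl2 hs ht) d)⟩

theorem three_four (ht : gen (rt k ι '' 𝒩) = ⊤) (h2 : ∀ s : k, s ≠ 0 → s = 1) :
    IsThreeFourPlusTranspositionSet (rel k ι 𝒩) := by
  refine ⟨h.ri ht, fun a ha b hb o => ?_⟩
  rcases h.rel_tri ha hb with c | ⟨s, t, hs, ht, d⟩ | v
  · have h2 : ∀ x ∈ rel k ι 𝒩, x ^ 2 = 1 := fun x hx => by rw [← h.rel_ord hx, pow_orderOf_eq_one]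
    have : orderOf (a * b) ∣ 2 := orderOf_dvd_of_pow_eq_one (by rw [Commute.mul_pow c, h2 a ha, h2 b hb, one_mul])
    exact Or.inl (((Nat.dvd_prime Nat.prime_two).1 this).resolve_right fun e => by rw [e] at o; exact absurd o (by decide))
  · rw [h2 s hs, h2 t ht] at d
    exact (Nat.dvd_prime Nat.prime_three).1 (d.trans (orderOf_dvd_of_pow_eq_one three_sl2))
  · rw [v.1] at o; exact absurd o (by decide)

theorem rel_odd (hN : N ∈ 𝒩) (hM : M ∈ 𝒩) {c : k} (hc : c ≠ 0) (e1 : N * M * N = c • N) (e2 : M * N * M = c • M)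
    {a b : G} (ha : a ∈ rt k ι N) (h1 : a ≠ 1) (hb : b ∈ rt k ι M) (h2 : b ≠ 1) : OddAdj (rel k ι 𝒩) a b := by
  have r := h.r1 hN hM hc e1 e2
  have ne : a ≠ b := fun e => h1 (R1.inf_eq r ha (e ▸ hb))
  obtain ⟨s, ea⟩ := (mem_rt (h.sq N hN)).1 ha
  obtain ⟨t, eb⟩ := (mem_rt (h.sq M hM)).1 hb
  have hs := (h.ne_one hN ea).1 h1
  have ht := (h.ne_one hM eb).1 h2
  refine ⟨⟨N, hN, s, hs, ea⟩, ⟨M, hM, t, ht, eb⟩, ne, ?_⟩
  obtain ⟨φ, hU, hL⟩ := h.exists_hom hN hM hc e1 e2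
  rw [← h.inj ((hU s).trans ea.symm), ← h.inj (a₂ := b) ((hL (t * c)).trans (by rw [eb, mul_inv_cancel_right₀ hc])), ← map_mul]
  exact Odd.of_dvd_nat (odd_sl2 hs (mul_ne_zero ht hc)) (orderOf_map_dvd φ _)

theorem mem_rel {a : G} : a ∈ rel k ι 𝒩 ↔ a ≠ 1 ∧ ∃ A ∈ rt k ι '' 𝒩, a ∈ A := by
  constructor
  · rintro ⟨N, hN, c, hc, e⟩
    exact ⟨(h.ne_one hN e).2 hc, _, ⟨N, hN, rfl⟩, (mem_rt (h.sq N hN)).2 ⟨c, e⟩⟩
  · rintro ⟨h1, _, ⟨N, hN, rfl⟩, ha⟩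
    obtain ⟨c, e⟩ := (mem_rt (h.sq N hN)).1 ha
    exact ⟨N, hN, c, (h.ne_one hN e).1 h1, e⟩

theorem rel_class [Finite G] (ht : gen (rt k ι '' 𝒩) = ⊤)
    (hF : ∀ N ∈ 𝒩, ∃ M ∈ 𝒩, ∃ c : k, c ≠ 0 ∧ N * M * N = c • N ∧ M * N * M = c • M)
    (hc : IsConjClassOfSubgroups (rt k ι '' 𝒩)) : IsRootInvolutionClass (rel k ι 𝒩) := by
  refine ⟨h.ri ht, ?_, fun a ha b hb => ?_⟩
  · obtain ⟨A, hA⟩ := hc.1
    obtain ⟨a, ha, h1⟩ := AR.exists_ne (h.ar ht) hA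
    exact ⟨a, h.mem_rel.2 ⟨h1, A, hA, ha⟩⟩
  obtain ⟨h1, _, ⟨N, hN, rfl⟩, ha⟩ := h.mem_rel.1 ha
  obtain ⟨h2, B, hB, hb⟩ := h.mem_rel.1 hb
  obtain ⟨g, rfl⟩ := hc.2 _ ⟨N, hN, rfl⟩ B hB
  obtain ⟨y, hy, rfl⟩ := exists_of_mem_smul hb
  obtain ⟨M, hM, c, hc, e1, e2⟩ := hF N hN
  obtain ⟨z, hz, h3⟩ := AR.exists_ne (h.ar ht) ⟨M, hM, rfl⟩
  obtain ⟨u, rfl⟩ := RI.conj_of_reach (h.ri ht) (.tail (.single (h.rel_odd hN hM hc e1 e2 ha h1 hz h3))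
    (OddAdj.symm' (h.rel_odd hN hM hc e1 e2 hy (fun e => h2 (by simp [e])) hz h3)))
  exact ⟨g * u, by group⟩

end TF

end Cfsg.Agent.Root
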