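import Mathlib
import Cfsg.Agent.Lib.Root.TF
import Cfsg.Agent.Lib.Classical.Eich

/-! Transvection and Siegel transvection subgroups of isometry groups. -/

set_option autoImplicit false
set_option linter.unusedSectionVars false

namespace Cfsg.Agent.Root
open Cfsg Module Cfsg.Agent.Classical

variable {F : Type*} [Field F] {K : Kind F} {V : Type*} [AddCommGroup V] [Module F V] [FiniteDimensional F V]
  {Φ : Form K V} {G : Type*} [Group G] {ι : G →* End F V}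

theorem frk_mul (a b c d : V) : Φ.rk a b * Φ.rk c d = Φ.B d a • Φ.rk c b := by
  ext x; simp [smul_smul, mul_comm]

theorem frk_ne (hΦ : Φ.Nondeg) {a b : V} (ha : a ≠ 0) (hb : b ≠ 0) : Φ.rk a b ≠ 0 := fun e => by
  obtain ⟨u, hu⟩ := hΦ.exists_ne ha
  simpa [hu, hb] using LinearMap.congr_fun e u

theorem frk_conj (hι : ∀ g u v, Φ.B (ι g u) (ι g v) = Φ.B u v) (g : G) (a b : V) :
    ι g * Φ.rk a b * ι g⁻¹ = Φ.rk (ι g a) (ι g b) := by
  ext x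
  have : ι g (ι g⁻¹ x) = x := by rw [← Module.End.mul_apply, iota_cancel']; rfl
  simp only [Module.End.mul_apply, Form.rk_apply, _root_.map_smul]
  rw [← hι g, this]

theorem iota_ne (g : G) {v : V} (hv : v ≠ 0) : ι g v ≠ 0 := fun e => hv (by
  rw [← Module.End.one_apply (R := F) v, ← iota_cancel (ι := ι) g, Module.End.mul_apply, e, map_zero])

section Iso
variable {L : Type*} [Field L] [Algebra L F] [Module L V] [IsScalarTower L F V] [SMulCommClass F L V]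

/-- the isotropic transvection directions -/
def isoN (Φ : Form K V) (e : F) : Set (End F V) := {N | ∃ p, Φ.Sing p ∧ N = e • Φ.rk p p}

theorem lsmul (l : L) (x : End F V) : l • x = algebraMap L F l • x := by
  ext v; simp

variable (hΦ : Φ.Nondeg) {e : F} (he : e ≠ 0) (hN : ∀ b : F, ∃ l : L, algebraMap L F l = e * e * (b * (K.ε * K.σ b)))
include hΦ he hN

theorem iso_opp {p w : V} (h : Φ.B p w ≠ 0) : ∃ c : L, c ≠ 0 ∧
    e • Φ.rk p p * e • Φ.rk w w * e • Φ.rk p p = c • e • Φ.rk p p ∧ e • Φ.rk w w * e • Φ.rk p p * e • Φ.rk w w = c • e • Φ.rk w w := by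
  obtain ⟨l, hl⟩ := hN (Φ.B p w)
  rw [← Φ.symm] at hl
  refine ⟨l, fun e => ?_, ?_, ?_⟩
  · rw [e, map_zero, eq_comm] at hl
    exact mul_ne_zero (mul_ne_zero he he) (mul_ne_zero h fun k => h (Φ.B_symm_zero k)) hl
  all_goals rw [lsmul l, hl]; simp only [smul_mul_assoc, mul_smul_comm, frk_mul, smul_smul]; congr 1; ring

theorem iso_deg : ∀ N ∈ isoN Φ e, ∀ M ∈ isoN Φ e, N * M = M * N ∨ ∃ c : L, c ≠ 0 ∧ N * M * N = c • N ∧ M * N * M = c • M := by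
  rintro _ ⟨p, hp, rfl⟩ _ ⟨w, hw, rfl⟩
  by_cases h : Φ.B p w = 0
  · left; simp [frk_mul, h, Φ.B_symm_zero h]
  · exact Or.inr (iso_opp hΦ he hN h)

theorem iso_tf (inj : Function.Injective ι) (hι : ∀ g u v, Φ.B (ι g u) (ι g v) = Φ.B u v) (hι' : ∀ g v, Φ.N (ι g v) = Φ.N v)
    (hs : ∀ f ∈ Φ.SIsom, ∃ g, ι g = (f : End F V)) (hT : ∀ l : L, K.T (K.σ (algebraMap L F l * e)) = 0) :
    TF L ι (isoN Φ e) where
  inj := inj
  sq := by rintro _ ⟨p, hp, rfl⟩; simp [frk_mul, Φ.B_self_of_N hp.2]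
  ne := by rintro _ ⟨p, hp, rfl⟩; exact smul_ne_zero he (frk_ne hΦ hp.1 hp.1)
  ex := by
    rintro _ ⟨p, hp, rfl⟩ c
    obtain ⟨g, hg⟩ := hs (Φ.qrefl p (algebraMap L F c * e) (by rw [hp.2, hT]; simp)) (Form.mem_SIsom.2 ⟨Φ.qrefl_mem _ _ _, by
      ext; rw [Φ.det_qrefl, Φ.B_self_of_N hp.2]; simp⟩)
    exact ⟨g, by rw [hg, lsmul (F := F), smul_smul]; rfl⟩
  conj := by
    rintro _ ⟨p, hp, rfl⟩ g
    exact ⟨ι g p, ⟨iota_ne g hp.1, by rw [hι', hp.2]⟩, by rw [mul_smul_comm, smul_mul_assoc, frk_conj hι]⟩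
  tri := fun N h1 M h2 => (iso_deg hΦ he hN N h1 M h2).imp_right Or.inl

theorem iso_ni : ∀ N ∈ isoN Φ e, ∃ M ∈ isoN Φ e, ∃ c : L, c ≠ 0 ∧ N * M * N = c • N ∧ M * N * M = c • M := by
  rintro _ ⟨p, hp, rfl⟩
  obtain ⟨f, hf⟩ := hΦ.exists_hyp hp.1 hp.2
  exact ⟨_, ⟨f, hf.sing_f, rfl⟩, iso_opp hΦ he hN (by rw [hf.hef]; exact one_ne_zero)⟩

theorem iso_conn (h : TF L ι (isoN Φ e)) (hR : Φ.Rich0) : IsConnectedFamily (FAdj (rt L ι '' isoN Φ e)) (rt L ι '' isoN Φ e) := by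
  rintro _ ⟨_, ⟨p, hp, rfl⟩, rfl⟩ _ ⟨_, ⟨w, hw, rfl⟩, rfl⟩
  obtain ⟨u, hu, h1, h2⟩ := hR.exists_common hΦ hp hw
  have su : Φ.Sing u := ⟨by rintro rfl; simp at h1, hu⟩
  have key : ∀ p, Φ.Sing p → Φ.B u p ≠ 0 → FAdj (rt L ι '' isoN Φ e) (rt L ι (e • Φ.rk u u)) (rt L ι (e • Φ.rk p p)) :=
    fun p hp k => by
      obtain ⟨c, hc, e1, e2⟩ := iso_opp hΦ he hN k
      exact ⟨⟨_, ⟨u, su, rfl⟩, rfl⟩, ⟨_, ⟨p, hp, rfl⟩, rfl⟩, h.r1 ⟨u, su, rfl⟩ ⟨p, hp, rfl⟩ hc e1 e2⟩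
  exact (reach_symm' (.single (key p hp h1))).tail (key w hw h2)

end Iso

section Siegel
variable {Φ : Form (Kind.orth F) V}

/-- the Siegel element of a pair of vectors -/
def sg (Φ : Form (Kind.orth F) V) (p r : V) : End F V := Φ.rk p r - Φ.rk r p

/-- a basis of a singular line -/
structure SL (Φ : Form (Kind.orth F) V) (p r : V) : Prop where
  li : ∀ a b : F, a • p + b • r = 0 → a = 0 ∧ b = 0
  np : Φ.N p = 0
  nr : Φ.N r = 0
  b : Φ.B p r = 0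

/-- the Siegel directions -/
def sgN (Φ : Form (Kind.orth F) V) : Set (End F V) := {N | ∃ p r, SL Φ p r ∧ N = sg Φ p r}

theorem Bs (u v : V) : Φ.B u v = Φ.B v u := by simpa using Φ.symm v u

theorem sg_apply (p r x : V) : sg Φ p r x = Φ.B x p • r - Φ.B x r • p := rfl

theorem sg_swap (p r : V) : sg Φ r p = (-1 : F) • sg Φ p r := by simp [sg]

theorem Bs_smul (u v : V) (c : F) : Φ.B u (c • v) = c * Φ.B u v := Φ.B_smul_right u v c

theorem sg_comb (p r : V) (a b c d : F) : sg Φ (a • p + b • r) (c • p + d • r) = (a * d - b * c) • sg Φ p r := by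
  ext x; simp only [sg_apply, map_add, Bs_smul, LinearMap.smul_apply]; module

theorem SL.symm {p r : V} (h : SL Φ p r) : SL Φ r p :=
  ⟨fun a b e => (h.li b a (by rwa [add_comm])).symm, h.nr, h.np, Φ.B_symm_zero h.b⟩

theorem SL.lin {p r : V} (h : SL Φ p r) : LinearIndependent F ![p, r] := LinearIndependent.pair_iff.2 h.li

theorem SL.N {p r : V} (h : SL Φ p r) (a b : F) : Φ.N (a • p + b • r) = 0 := by
  simp [Φ.N_add, Φ.N_smul, h.np, h.nr, h.b]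

theorem SL.pp {p r : V} (h : SL Φ p r) : Φ.B p p = 0 := Φ.B_self_of_N h.np
theorem SL.rr {p r : V} (h : SL Φ p r) : Φ.B r r = 0 := Φ.B_self_of_N h.nr

theorem SL.comb {p r : V} (h : SL Φ p r) {a b c d : F} (hd : a * d - b * c ≠ 0) : SL Φ (a • p + b • r) (c • p + d • r) := by
  refine ⟨fun s t e => ?_, h.N _ _, h.N _ _, by simp [h.pp, h.rr, h.b, h.symm.b]⟩
  obtain ⟨e1, e2⟩ := h.li (s * a + t * c) (s * b + t * d) (by rw [← e]; module)
  exact ⟨(mul_eq_zero.1 (show s * _ = 0 by linear_combination d * e1 - c * e2)).resolve_right hd,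
    (mul_eq_zero.1 (show t * _ = 0 by linear_combination a * e2 - b * e1)).resolve_right hd⟩

theorem SL.vals (hΦ : Φ.Nondeg) {p r : V} (h : SL Φ p r) (a b : F) : ∃ z, Φ.B z p = a ∧ Φ.B z r = b := by
  obtain ⟨z, hz⟩ := hΦ.exists_values h.lin ![a, b]
  exact ⟨z, (Bs _ _).trans (hz 0), (Bs _ _).trans (hz 1)⟩

theorem sg_ne (hΦ : Φ.Nondeg) {p r : V} (h : SL Φ p r) : sg Φ p r ≠ 0 := fun e => by
  obtain ⟨z, h1, h2⟩ := h.vals hΦ 1 0
  have := LinearMap.congr_fun e z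
  rw [sg_apply, h1, h2] at this
  exact one_ne_zero (h.li 0 1 (by simpa using this)).2

theorem sg_mul3 (p r x y : V) : sg Φ p r * sg Φ x y * sg Φ p r = (Φ.B p y * Φ.B r x - Φ.B p x * Φ.B r y) • sg Φ p r := by
  ext v
  simp only [Module.End.mul_apply, sg_apply, map_sub, Form.B_smul_left, LinearMap.sub_apply, LinearMap.smul_apply,
    Bs x, Bs y]
  module

theorem sg_mul3' (p r x y : V) : sg Φ x y * sg Φ p r * sg Φ x y = (Φ.B p y * Φ.B r x - Φ.B p x * Φ.B r y) • sg Φ x y := by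
  rw [sg_mul3, Bs x, Bs x, Bs y, Bs y]; congr 1; ring

theorem sg_cmt {p r x y : V} (h1 : Φ.B r x = 0) (h2 : Φ.B r y = 0) :
    sg Φ p r * sg Φ x y - sg Φ x y * sg Φ p r = sg Φ (Φ.B p y • x - Φ.B p x • y) r := by
  ext v
  simp only [Module.End.mul_apply, sg_apply, map_sub, Form.B_smul_left, LinearMap.sub_apply, Bs_smul,
    Bs x, Bs y, h1, h2]
  module

theorem sg_dep {u r : V} (h : ¬ ∀ a b : F, a • u + b • r = 0 → a = 0 ∧ b = 0) : sg Φ u r = 0 := by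
  push Not at h
  obtain ⟨a, b, e, hab⟩ := h
  by_cases ha : a = 0
  · have : r = 0 := by simpa [ha, hab ha] using e
    ext; simp [sg_apply, this]
  · have : u = (-(b / a)) • r := by
      rw [← inv_smul_smul₀ ha u, eq_neg_of_add_eq_zero_left e, div_eq_inv_mul, neg_smul, smul_neg, smul_smul]
    ext v; rw [this, sg_apply, Bs_smul]; simp [smul_smul, mul_comm]

theorem sg_tri_aux {p r x y : V} (h : SL Φ p r) (h' : SL Φ x y) (h1 : Φ.B r x = 0) (h2 : Φ.B r y = 0) :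
    sg Φ p r * sg Φ x y = sg Φ x y * sg Φ p r ∨ ∃ P ∈ sgN Φ, sg Φ p r * sg Φ x y - sg Φ x y * sg Φ p r = P := by
  rw [← sub_eq_zero, sg_cmt h1 h2]
  by_cases k : ∀ a b : F, a • (Φ.B p y • x - Φ.B p x • y) + b • r = 0 → a = 0 ∧ b = 0
  · refine Or.inr ⟨_, ⟨_, _, ⟨k, ?_, h.nr, by simp [Bs x, Bs y, h1, h2]⟩, rfl⟩, rfl⟩
    simpa [sub_eq_add_neg] using h'.N (Φ.B p y) (-Φ.B p x)
  · exact Or.inl (sg_dep k)

theorem sg_tri : ∀ N ∈ sgN Φ, ∀ M ∈ sgN Φ, N * M = M * N ∨ (∃ c : F, c ≠ 0 ∧ N * M * N = c • N ∧ M * N * M = c • M) ∨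
    (N * M * N = 0 ∧ M * N * M = 0 ∧ ∃ c : F, c ≠ 0 ∧ ∃ P ∈ sgN Φ, N * M - M * N = c • P) := by
  rintro _ ⟨p, r, h, rfl⟩ _ ⟨x, y, h', rfl⟩
  rw [sg_mul3 p r, sg_mul3' p r]
  by_cases hd : Φ.B p y * Φ.B r x - Φ.B p x * Φ.B r y = 0
  swap
  · exact Or.inr (Or.inl ⟨_, hd, rfl, rfl⟩)
  rw [hd, zero_smul, zero_smul]
  have key : ∀ a b c d : F, a * d - b * c ≠ 0 → Φ.B (c • p + d • r) x = 0 → Φ.B (c • p + d • r) y = 0 →
      sg Φ p r * sg Φ x y = sg Φ x y * sg Φ p r ∨ ∃ c : F, c ≠ 0 ∧ ∃ P ∈ sgN Φ, sg Φ p r * sg Φ x y - sg Φ x y * sg Φ p r = c • P :=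
    fun a b c d k h1 h2 => by
      have := sg_tri_aux (h.comb k) h' h1 h2
      rw [sg_comb, smul_mul_assoc, mul_smul_comm, ← smul_sub] at this
      exact this.imp (smul_right_injective _ k ·) fun ⟨P, hP, e⟩ => ⟨_, inv_ne_zero k, P, hP, by rw [← e, inv_smul_smul₀ k]⟩
  suffices _ ∨ _ from this.imp_right fun k => Or.inr ⟨rfl, rfl, k⟩
  by_cases a : Φ.B p x = 0
  · by_cases b : Φ.B p y = 0
    · exact key 0 1 1 0 (by simp) (by simp [a]) (by simp [b])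
    · exact key 1 0 (-Φ.B r y) (Φ.B p y) (by simpa using b) (by simp; linear_combination hd) (by simp; ring)
  · exact key 1 0 (-Φ.B r x) (Φ.B p x) (by simpa using a) (by simp; ring) (by simp; linear_combination -hd)

theorem SL.map {p r : V} (h : SL Φ p r) (hι : ∀ g u v, Φ.B (ι g u) (ι g v) = Φ.B u v) (hι' : ∀ g v, Φ.N (ι g v) = Φ.N v) (g : G) :
    SL Φ (ι g p) (ι g r) :=
  ⟨fun a b e => h.li a b (by_contra fun k => iota_ne (ι := ι) g k (by simpa using e)), by rw [hι', h.np], by rw [hι', h.nr],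
    by rw [hι, h.b]⟩

theorem sg_tf (hΦ : Φ.Nondeg) (inj : Function.Injective ι) (hι : ∀ g u v, Φ.B (ι g u) (ι g v) = Φ.B u v)
    (hι' : ∀ g v, Φ.N (ι g v) = Φ.N v) (hs : ∀ f ∈ Φ.Isom, ∃ g, ι g = (f : End F V)) : TF F ι (sgN Φ) where
  inj := inj
  sq := by rintro _ ⟨p, r, h, rfl⟩; ext; simp [sg_apply, h.pp, h.rr, h.b, h.symm.b]
  ne := by rintro _ ⟨p, r, h, rfl⟩; exact sg_ne hΦ h
  ex := by
    rintro _ ⟨p, r, h, rfl⟩ c
    obtain ⟨g, hg⟩ := hs _ (Φ.eich_mem r (c • p) 0 ⟨h.nr, by simp [h.b], by simp [Φ.N_smul, h.np]⟩)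
    refine ⟨g, hg.trans (LinearMap.ext fun x => ?_)⟩
    simp only [LinearEquiv.coe_coe, Form.eich_apply, LinearMap.add_apply, LinearMap.smul_apply, sg_apply, Bs_smul,
      Module.End.one_apply, Kind.orth_ε]
    module
  conj := by
    rintro _ ⟨p, r, h, rfl⟩ g
    exact ⟨_, _, h.map hι hι' g, by rw [sg, mul_sub, sub_mul, frk_conj hι, frk_conj hι]; rfl⟩
  tri := sg_tri

theorem sg_fix (hΦ : Φ.Nondeg) {p r : V} (h : SL Φ p r) {f : End F V} (hB : ∀ u v, Φ.B (f u) (f v) = Φ.B u v)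
    (hN : ∀ v, Φ.N (f v) = Φ.N v) :
    (∀ v, Φ.B v p = 0 → Φ.B v r = 0 → f v = v) ↔ ∃ c : F, f = 1 + c • sg Φ p r := by
  refine ⟨fun k => ?_, ?_⟩
  swap
  · rintro ⟨c, rfl⟩ v h1 h2; simp [sg_apply, h1, h2]
  have m : ∀ v, ∃ a b : F, f v = v + (a • p + b • r) := fun v => by
    have : f v - v ∈ Submodule.span F {p, r} := by
      rw [← hΦ.perp_perp (Submodule.span F {p, r})]
      intro u hu
      rw [Φ.mem_perp_span] at hu
      have := k u (hu p (by simp)) (hu r (by simp))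
      rw [map_sub, LinearMap.sub_apply, ← hB v u, this, sub_self]
    obtain ⟨a, b, e⟩ := Submodule.mem_span_pair.1 this
    exact ⟨a, b, by rw [e]; abel⟩
  obtain ⟨x, x1, x2⟩ := h.vals hΦ 1 0
  obtain ⟨y, y1, y2⟩ := h.vals hΦ 0 1
  obtain ⟨a, b, ex⟩ := m x
  obtain ⟨c, d, ey⟩ := m y
  have n : ∀ (v : V) (a b : F), Φ.N (v + (a • p + b • r)) = Φ.N v + (a * Φ.B v p + b * Φ.B v r) := fun v a b => by
    rw [Φ.N_add, h.N]; simp
  have ha : a = 0 := by have := hN x; rw [ex, n, x1, x2] at this; simpa using this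
  have hd : d = 0 := by have := hN y; rw [ey, n, y1, y2] at this; simpa using this
  have hc : c = -b := by
    have := hN (x + y)
    rw [map_add, ex, ey, show x + (a • p + b • r) + (y + (c • p + d • r)) = x + y + ((a + c) • p + (b + d) • r) by module, n] at this
    simp [x1, x2, y1, y2, ha, hd] at this
    linear_combination this
  refine ⟨b, LinearMap.ext fun v => ?_⟩
  have := k (v - Φ.B v p • x - Φ.B v r • y) (by simp [x1, y1]) (by simp [x2, y2])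
  rw [map_sub, map_sub, _root_.map_smul, _root_.map_smul, ex, ey, ha, hd, hc] at this
  simp only [LinearMap.add_apply, LinearMap.smul_apply, sg_apply, Module.End.one_apply]
  linear_combination (norm := module) this

theorem SL.opp (hΦ : Φ.Nondeg) {p r : V} (h : SL Φ p r) :
    ∃ x y, SL Φ x y ∧ Φ.B p x = 1 ∧ Φ.B r x = 0 ∧ Φ.B p y = 0 ∧ Φ.B r y = 1 := by
  obtain ⟨x, x1, x2⟩ := h.vals hΦ 1 0
  obtain ⟨y, y1, y2⟩ := h.vals hΦ 0 1
  have a1 : Φ.B p (x - Φ.N x • p) = 1 := by simp [Bs p x, x1, h.pp]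
  have a2 : Φ.B r (x - Φ.N x • p) = 0 := by simp [Bs r x, x2, h.symm.b]
  have a3 : Φ.B p (y - Φ.B x y • p - Φ.N y • r) = 0 := by simp [Bs p y, y1, h.pp, h.b]
  have a4 : Φ.B r (y - Φ.B x y • p - Φ.N y • r) = 1 := by simp [Bs r y, y2, h.rr, h.symm.b]
  refine ⟨_, _, ⟨fun a b e => ⟨?_, ?_⟩, ?_, ?_, ?_⟩, a1, a2, a3, a4⟩
  · simpa [a1, a3, -map_sub] using congrArg (Φ.B p) e
  · simpa [a2, a4, -map_sub] using congrArg (Φ.B r) e
  · simp [Φ.N_sub, Φ.N_smul, h.np, x1]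
  · simp [Φ.N_sub, Φ.N_smul, h.np, h.nr, y1, y2, h.b]
  · simp [x1, x2, Bs p y, y1, h.pp, h.b]

theorem sg_ni (hΦ : Φ.Nondeg) : ∀ N ∈ sgN Φ, ∃ M ∈ sgN Φ, ∃ c : F, c ≠ 0 ∧ N * M * N = c • N ∧ M * N * M = c • M := by
  rintro _ ⟨p, r, h, rfl⟩
  obtain ⟨x, y, h', a1, a2, a3, a4⟩ := h.opp hΦ
  exact ⟨_, ⟨x, y, h', rfl⟩, _, by simp [a1, a2, a4], sg_mul3 p r x y, sg_mul3' p r x y⟩

theorem sg_nc (hΦ : Φ.Nondeg) {p r x y : V} (h : SL Φ p r) (h1 : Φ.B r x = 0) (h2 : Φ.B r y = 0) (h' : SL Φ x y)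
    (k : ∀ a b : F, a • (Φ.B p y • x - Φ.B p x • y) + b • r = 0 → a = 0 ∧ b = 0) :
    sg Φ p r * sg Φ x y ≠ sg Φ x y * sg Φ p r := by
  rw [← sub_ne_zero, sg_cmt h1 h2]
  refine sg_ne hΦ ⟨k, ?_, h.nr, by simp [Bs x, Bs y, h1, h2]⟩
  simpa [sub_eq_add_neg] using h'.N (Φ.B p y) (-Φ.B p x)

theorem sg_nc2 (hΦ : Φ.Nondeg) {p r x y : V} (h : SL Φ p r) (hd : Φ.B p y * Φ.B r x - Φ.B p x * Φ.B r y ≠ 0) :
    sg Φ p r * sg Φ x y ≠ sg Φ x y * sg Φ p r := fun e => by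
  have := sg_mul3 (Φ := Φ) p r x y
  rw [e, mul_assoc, show sg Φ p r * sg Φ p r = 0 by ext; simp [sg_apply, h.pp, h.rr, h.b, h.symm.b], mul_zero] at this
  exact smul_ne_zero hd (sg_ne hΦ h) this.symm

section Conn
variable (hΦ : Φ.Nondeg) (t : TF F ι (sgN Φ)) (h5 : 5 ≤ finrank F V)
include hΦ t h5

theorem sg_reach_pt {p r s : V} (h : SL Φ p r) (h' : SL Φ p s) :
    Relation.ReflTransGen (FAdj (rt F ι '' sgN Φ)) (rt F ι (sg Φ p r)) (rt F ι (sg Φ p s)) := by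
  suffices ∃ x y, SL Φ x y ∧ sg Φ p r * sg Φ x y ≠ sg Φ x y * sg Φ p r ∧ sg Φ p s * sg Φ x y ≠ sg Φ x y * sg Φ p s by
    obtain ⟨x, y, k, n1, n2⟩ := this
    exact (t.reach (sg_ni hΦ) ⟨_, _, h, rfl⟩ ⟨_, _, k, rfl⟩ n1).trans
      (reach_symm' (t.reach (sg_ni hΦ) ⟨_, _, h', rfl⟩ ⟨_, _, k, rfl⟩ n2))
  by_cases b : Φ.B s r = 0
  · obtain ⟨x, y, k, a1, a2, a3, a4⟩ := h.opp hΦ
    refine ⟨x, y, k, sg_nc2 hΦ h (by simp [a1, a2, a4]), ?_⟩
    by_cases c : Φ.B s y = 0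
    swap
    · exact sg_nc2 hΦ h' (by simpa [a1, a3] using c)
    have e := sg_comb (Φ := Φ) p s 1 0 (-Φ.B s x) 1
    have k' := h'.comb (a := 1) (b := 0) (c := -Φ.B s x) (d := 1) (by simp)
    rw [show (1 : F) * 1 - 0 * -Φ.B s x = 1 by ring, one_smul F (sg Φ p s)] at e
    rw [← e]
    refine sg_nc hΦ k' (by simp [a1]) (by simp [a3, c]) k fun u v e => ?_
    have hu : u = 0 := by simpa [a1, a3, Bs y r, a4, h.b, b] using congrArg (Φ.B · r) e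
    exact ⟨hu, (k'.li 0 v (by simpa [hu] using e)).2⟩
  have li : LinearIndependent F ![p, r, s] := Fintype.linearIndependent_iff.2 fun g e => by
    rw [Fin.sum_univ_three] at e
    have h2 : g 2 = 0 := by simpa [h.b, h.rr, b] using congrArg (Φ.B · r) e
    have := h.li (g 0) (g 1) (by simpa [h2] using e)
    intro i; fin_cases i; exacts [this.1, this.2, h2]
  obtain ⟨x0, hx⟩ := hΦ.exists_values li ![1, 0, 0]
  obtain ⟨x, n1, a1, a2, a3⟩ : ∃ x, Φ.N x = 0 ∧ Φ.B p x = 1 ∧ Φ.B r x = 0 ∧ Φ.B s x = 0 := by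
    have a1 : Φ.B p x0 = 1 := hx 0
    have a2 : Φ.B r x0 = 0 := hx 1
    have a3 : Φ.B s x0 = 0 := hx 2
    exact ⟨x0 - Φ.N x0 • p, by simp [Φ.N_sub, Φ.N_smul, h.np, Bs x0, a1], by simp [a1, h.pp], by simp [a2, h.symm.b],
      by simp [a3, h'.symm.b]⟩
  obtain ⟨z, hz, z0⟩ : ∃ z ∈ Φ.perp (Submodule.span F (Set.range ![p, x, r, s])), z ≠ 0 := by
    refine Submodule.exists_mem_ne_zero_of_ne_bot fun e => ?_
    have := hΦ.finrank_perp (Submodule.span F (Set.range ![p, x, r, s]))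
    have h4 : finrank F (Submodule.span F (Set.range ![p, x, r, s])) ≤ 4 := finrank_range_le_card _
    rw [e, finrank_bot] at this; omega
  rw [Φ.mem_perp_span] at hz
  have z1 : Φ.B z p = 0 := hz _ ⟨0, rfl⟩
  have z2 : Φ.B z x = 0 := hz _ ⟨1, rfl⟩
  have z3 : Φ.B z r = 0 := hz _ ⟨2, rfl⟩
  have z4 : Φ.B z s = 0 := hz _ ⟨3, rfl⟩
  obtain ⟨y, hy⟩ : ∃ y, y = s + z - (Φ.N z / Φ.B s r) • r := ⟨_, rfl⟩
  have y1 : Φ.B y p = 0 := by simp [hy, z1, h.symm.b, h'.symm.b]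
  have y2 : Φ.B y x = 0 := by simp [hy, z2, a2, a3]
  have y3 : Φ.B y r = Φ.B s r := by simp [hy, z3, h.rr]
  have y4 : Φ.B y s = -Φ.N z := by simp [hy, z4, h'.rr, Bs r s, div_mul_cancel₀ _ b]
  have k : SL Φ x y := ⟨fun u v e => ⟨by simpa [Bs x p, a1, y1] using congrArg (Φ.B · p) e,
      by simpa [Bs x r, a2, y3, b] using congrArg (Φ.B · r) e⟩, n1,
    by simp [hy, Φ.N_sub, Φ.N_add, Φ.N_smul, h.nr, h'.nr, Bs s z, z4, z3, div_mul_cancel₀ _ b], Φ.B_symm_zero y2⟩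
  refine ⟨x, y, k, sg_nc2 hΦ h (by simpa [a1, a2, Bs r y, y3] using b), ?_⟩
  by_cases c : Φ.N z = 0
  swap
  · exact sg_nc2 hΦ h' (by simpa [a1, a3, Bs s y, y4] using c)
  refine sg_nc hΦ h' a3 (by rw [Bs, y4, c, neg_zero]) k fun u v e => ?_
  rw [a1, Bs p y, y1] at e
  have e1 : u = v := by
    have := congrArg (Φ.B · r) e
    simp [y3] at this
    exact mul_right_cancel₀ b (by linear_combination -this)
  have e2 : u • z = 0 := by rw [hy, c, ← e1] at e; linear_combination (norm := module) (-1 : F) • e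
  have e3 := (smul_eq_zero.1 e2).resolve_right z0
  exact ⟨e3, e1 ▸ e3⟩

theorem sg_conn : IsConnectedFamily (FAdj (rt F ι '' sgN Φ)) (rt F ι '' sgN Φ) := by
  rintro _ ⟨_, ⟨p, r, h, rfl⟩, rfl⟩ _ ⟨_, ⟨x, y, h', rfl⟩, rfl⟩
  obtain ⟨u, v, k, e, b⟩ : ∃ u v, SL Φ u v ∧ rt F ι (sg Φ u v) = rt F ι (sg Φ x y) ∧ Φ.B p u = 0 := by
    by_cases a : Φ.B p x = 0
    · exact ⟨x, y, h', rfl, a⟩
    · have d : Φ.B p y * 0 - -Φ.B p x * 1 ≠ 0 := by simpa using a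
      exact ⟨_, _, h'.comb d, by rw [sg_comb, rt_csmul d], by simp [mul_comm]⟩
  rw [← e]
  by_cases li : ∀ a b : F, a • p + b • u = 0 → a = 0 ∧ b = 0
  · have k' : SL Φ p u := ⟨li, h.np, k.np, b⟩
    refine (sg_reach_pt hΦ t h5 h k').trans ?_
    rw [sg_swap, rt_csmul (by simp)]
    exact sg_reach_pt hΦ t h5 k'.symm k
  push Not at li
  obtain ⟨a, c, e, hac⟩ := li
  have ha : a ≠ 0 := fun ha => hac ha (k.li c 0 (by simpa [ha] using e)).1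
  have hc : c ≠ 0 := fun hc => ha (h.li a 0 (by simpa [hc] using e)).1
  have d : -(c / a) * 1 - 0 * 0 ≠ 0 := by simp [ha, hc]
  have ep : (-(c / a)) • u + (0 : F) • v = p := by
    rw [← inv_smul_smul₀ ha p, eq_neg_of_add_eq_zero_left e, div_eq_inv_mul, neg_smul, smul_neg, smul_smul]; simp
  have k' := k.comb d
  rw [← rt_csmul (N := sg Φ u v) d, ← sg_comb]
  rw [ep] at k' ⊢
  exact sg_reach_pt hΦ t h5 h k'

end Conn

end Siegel

end Cfsg.Agent.Root
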