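import Mathlib
import Cfsg.Agent.Lib.Root.TF
import Cfsg.Agent.Lib.Classical.Lin1

/-! Transvection subgroups of the special linear group. -/

set_option autoImplicit false
set_option linter.unusedSectionVars false

namespace Cfsg.Agent.Root
open Cfsg Matrix

variable {k : Type*} [Field k] {n : Type*} [Fintype n] [DecidableEq n]

/-- rank one matrices of square zero -/
def slN (n k : Type*) [Field k] [Fintype n] : Set (Matrix n n k) :=
  {N | ∃ v φ : n → k, v ≠ 0 ∧ φ ≠ 0 ∧ φ ⬝ᵥ v = 0 ∧ N = vecMulVec v φ}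

theorem vv_mul (v φ w ψ : n → k) : vecMulVec v φ * vecMulVec w ψ = (φ ⬝ᵥ w) • vecMulVec v ψ := by
  rw [vecMulVec_mul_vecMulVec, vecMulVec_smul]

theorem exists_dot_ne {φ : n → k} (h : φ ≠ 0) : ∃ u, φ ⬝ᵥ u ≠ 0 := by
  obtain ⟨i, hi⟩ := Function.ne_iff.1 h
  exact ⟨Pi.single i 1, by simpa using hi⟩

theorem exists_dot_ne2 {φ ψ : n → k} (h : φ ≠ 0) (h' : ψ ≠ 0) : ∃ u, φ ⬝ᵥ u ≠ 0 ∧ ψ ⬝ᵥ u ≠ 0 := by
  obtain ⟨u, hu⟩ := exists_dot_ne h
  obtain ⟨w, hw⟩ := exists_dot_ne h'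
  by_cases a : ψ ⬝ᵥ u = 0
  · by_cases b : φ ⬝ᵥ w = 0
    · exact ⟨u + w, by simpa [b] using hu, by simpa [a] using hw⟩
    · exact ⟨w, b, hw⟩
  · exact ⟨u, hu, a⟩

theorem sl_tf : TF k (SpecialLinearGroup.coeMonoidHom : SpecialLinearGroup n k →* _) (slN n k) where
  inj := Subtype.val_injective
  sq := by rintro _ ⟨v, φ, -, -, e, rfl⟩; rw [vv_mul, e, zero_smul]
  ne := by rintro _ ⟨v, φ, a, b, -, rfl⟩; exact vecMulVec_ne_zero a b
  ex := by
    rintro _ ⟨v, φ, -, -, e, rfl⟩ c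
    refine ⟨⟨1 + c • vecMulVec v φ, ?_⟩, rfl⟩
    rw [← smul_vecMulVec, vecMulVec_eq Unit, det_one_add_replicateCol_mul_replicateRow]; simp [e]
  conj := by
    rintro _ ⟨v, φ, a, b, e, rfl⟩ g
    have i1 := iota_cancel (ι := SpecialLinearGroup.coeMonoidHom) g
    refine ⟨_ *ᵥ v, φ ᵥ* _, fun e => a ?_, fun e => b ?_, ?_, by rw [mul_vecMulVec, vecMulVec_mul]⟩
    · rw [← one_mulVec v, ← i1, ← mulVec_mulVec, e, mulVec_zero]
    · rw [← vecMul_one φ, ← i1, ← vecMul_vecMul, e, zero_vecMul]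
    · rw [← dotProduct_mulVec, mulVec_mulVec, i1, one_mulVec, e]
  tri := by
    rintro _ ⟨v, φ, a, b, e, rfl⟩ _ ⟨w, ψ, a', b', e', rfl⟩
    simp only [vv_mul, smul_mul_assoc, smul_smul]
    by_cases p : φ ⬝ᵥ w = 0 <;> by_cases q : ψ ⬝ᵥ v = 0
    · simp [p, q]
    · exact Or.inr (Or.inr ⟨by simp [p], by simp [p], -(ψ ⬝ᵥ v), neg_ne_zero.2 q, _, ⟨w, φ, a', b, p, rfl⟩, by simp [p]⟩)
    · exact Or.inr (Or.inr ⟨by simp [q], by simp [q], _, p, _, ⟨v, ψ, a, b', q, rfl⟩, by simp [q]⟩)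
    · exact Or.inr (Or.inl ⟨_, mul_ne_zero p q, rfl, by rw [mul_comm]⟩)

theorem sl_opp : ∀ N ∈ slN n k, ∃ M ∈ slN n k, ∃ c : k, c ≠ 0 ∧ N * M * N = c • N ∧ M * N * M = c • M := by
  rintro _ ⟨v, φ, a, b, e, rfl⟩
  obtain ⟨w, p⟩ := exists_dot_ne b
  obtain ⟨χ, q⟩ := exists_dot_ne a
  rw [dotProduct_comm] at q
  have e1 : (χ - ((χ ⬝ᵥ w) / (φ ⬝ᵥ w)) • φ) ⬝ᵥ v = χ ⬝ᵥ v := by simp [e]
  refine ⟨_, ⟨w, χ - ((χ ⬝ᵥ w) / (φ ⬝ᵥ w)) • φ, by rintro rfl; simp at p, fun e => q (by rw [← e1, e]; simp),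
    by simp [div_mul_cancel₀ _ p], rfl⟩, _, mul_ne_zero p q, ?_, ?_⟩ <;> simp only [vv_mul, smul_mul_assoc, smul_smul, e1]
  rw [mul_comm]

theorem vv_ne {v φ w ψ : n → k} (a : v ≠ 0) (b : ψ ≠ 0) (e : φ ⬝ᵥ v = 0) (p : φ ⬝ᵥ w ≠ 0) :
    vecMulVec v φ * vecMulVec w ψ ≠ vecMulVec w ψ * vecMulVec v φ := fun h => by
  have := congrArg (vecMulVec v φ * ·) h
  simp only [vv_mul, mul_smul_comm, e, zero_smul, smul_zero, smul_smul] at this
  have q : ψ ⬝ᵥ v = 0 := by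
    rcases smul_eq_zero.1 this.symm with t | t
    · exact (mul_eq_zero.1 t).resolve_right p
    · exact absurd t (vecMulVec_ne_zero a (by rintro rfl; simp at p))
  rw [vv_mul, vv_mul, q, zero_smul, smul_eq_zero] at h
  exact h.elim p (vecMulVec_ne_zero a b)

theorem sl_conn [Nontrivial n] : IsConnectedFamily (FAdj (rt k (SpecialLinearGroup.coeMonoidHom : SpecialLinearGroup n k →* _) ''
    slN n k)) (rt k SpecialLinearGroup.coeMonoidHom '' slN n k) := by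
  refine sl_tf.conn sl_opp ?_
  rintro _ ⟨v, φ, a, b, e, rfl⟩ _ ⟨w, ψ, a', b', e', rfl⟩
  obtain ⟨u, p, q⟩ := exists_dot_ne2 b b'
  obtain ⟨i, hi⟩ := Function.ne_iff.1 (show u ≠ 0 by rintro rfl; simp at p)
  obtain ⟨j, hj⟩ := exists_ne i
  have : (Pi.single j (u i) - Pi.single i (u j) : n → k) ≠ 0 := fun e => hi (by simpa [hj] using congrFun e j)
  exact ⟨_, ⟨u, _, by rintro rfl; simp at p, this, by simp [mul_comm], rfl⟩, vv_ne a this e p, vv_ne a' this e' q⟩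

theorem single_mem {i j : n} (h : i ≠ j) : single i j (1 : k) ∈ slN n k :=
  ⟨Pi.single i 1, Pi.single j 1, by simp, by simp, by simp [h.symm], single_eq_single_vecMulVec_single i j⟩

theorem transv_eq (i j : n) (c : k) : transvection i j c = 1 + c • single i j (1 : k) := by simp [transvection]

theorem sl_gen [Nontrivial n] : gen (rt k (SpecialLinearGroup.coeMonoidHom : SpecialLinearGroup n k →* _) '' slN n k) = ⊤ := by
  refine eq_top_iff.2 fun g _ => Classical.Lin.transvection_induction (· ∈ _) (fun i j h a => ?_) (fun _ _ => mul_mem) g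
  exact le_gen (S := _ '' _) ⟨_, single_mem h, rfl⟩ (Subgroup.subset_closure ⟨a, transv_eq i j a⟩)

theorem sl_class [Nontrivial n] :
    IsConjClassOfSubgroups (rt k (SpecialLinearGroup.coeMonoidHom : SpecialLinearGroup n k →* _) '' slN n k) := by
  obtain ⟨i, j, h⟩ := exists_pair_ne n
  exact class_of_conn ⟨_, _, single_mem h, rfl⟩ sl_conn

end Cfsg.Agent.Root
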